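import Groth.Agent.DelIll.K890.Fibres
import Groth.Agent.Flat2H.AmpleModel
import Groth.Agent.Flat2H.FamOpen
import Groth.Agent.Krr.H482.PullTens
import Groth.Agent.Dual.H366.ExtQCoh
import Groth.Agent.Krr.H487.PullExt
import Groth.Agent.Vancyc.H878.OmegaRank
import Groth.Agent.Vancyc.H878.RelOmega
import Groth.Agent.Sga67.TensorOps
import Groth.Agent.Sga2lef.H24.ToPn
import Groth.Agent.Sga2lef.H298.VanX0Core
import Groth.Agent.Desc.FinLocFreeSections
import Groth.Agent.S0002

/-!
# Smooth projective models; exterior powers of the differentials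

* `exists_smooth_ample_model`: a smooth proper `X/k` with an ample module `L` comes from `X₀/S` smooth and proper,
  `L₀` ample, `S ≤ k` a finitely generated subring.
* `exists_extPow_omega`: the exterior powers of `Ω_{X₀/S}` and their base changes.
* `pullTensor`: `q^*(M ⊗ N) ≅ q^*M ⊗ q^*N`; `exists_inverse`.
* `subsingleton_of_finrank`.
-/

set_option autoImplicit false
universe u v
open CategoryTheory CategoryTheory.Limits AlgebraicGeometry Opposite Topology

namespace K890.Polarized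

open K890.Spread K890.Model K890.Generic K890.Fibres Groth.Agent

section Model

variable {k : Type u} [Field k]

theorem isAffineHom_of_isPullback {X Y X' Y' : Scheme.{u}} {f : X ⟶ Y} {q : X' ⟶ X} {g : X' ⟶ Y'} {t : Y' ⟶ Y}
    [IsAffineHom t] (H : IsPullback q g f t) : IsAffineHom q :=
  MorphismProperty.of_isPullback H.flip inferInstance

/-- Ampleness is inherited by base changes of a model. -/
theorem isAmple_bc {S : Subalgebra ℤ k} {X₀ : Scheme.{u}} {f₀ : X₀ ⟶ Spec (CommRingCat.of S)} {L₀ : X₀.Modules}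
    (hL₀ : CohB1.IsAmple L₀) {T : Type u} [CommRing T] (φ : S →+* T) {X' : Scheme.{u}} {q : X' ⟶ X₀}
    {g : X' ⟶ Spec (CommRingCat.of T)} (H : IsPullback q g f₀ (sp φ)) :
    CohB1.IsAmple ((Scheme.Modules.pullback q).obj L₀) :=
  have := isAffineHom_of_isPullback H
  Flat2H.FamOpen.isAmple_pullback_of_isAffineHom q hL₀

theorem exists_smooth_ample_model {X : Scheme.{u}} (f : X ⟶ Spec (CommRingCat.of k)) [IsProper f] [Smooth f]
    {L : X.Modules} (hL : CohB1.IsAmple L) :
    ∃ (S : Subalgebra ℤ k) (_ : S.FG) (X₀ : Scheme.{u}) (f₀ : X₀ ⟶ Spec (CommRingCat.of S)) (p : X ⟶ X₀)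
      (L₀ : X₀.Modules), IsPullback p f f₀ (sv S) ∧ IsProper f₀ ∧ Smooth f₀ ∧ CohB1.IsAmple L₀ ∧
      Nonempty ((Scheme.Modules.pullback p).obj L₀ ≅ L) := by
  obtain ⟨S, hS, X₀, f₀, p, L₀, H, h1, h2, h3, h4, ⟨e⟩⟩ :=
    Flat2H.AmpleModel.exists_proper_flat_ample_model_Spec k f hL
  have := isZariskiLocalAtTarget_smooth.{u}
  obtain ⟨S', hle, hS', h5⟩ := exists_stage_prop (P := @Smooth)
    Groth.Agent.Sga3.H806.SmoothDescend.descendsAffine_smooth H hS ⟨inferInstance, inferInstance⟩ inferInstance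
  obtain ⟨p', hp', H'⟩ := exists_up f₀ H hle
  refine ⟨S', hS', pullback f₀ (sp (inc hle)), pullback.snd f₀ (sp (inc hle)), p',
    (Scheme.Modules.pullback (pullback.fst f₀ (sp (inc hle)))).obj L₀, H', inferInstance, h5,
    isAmple_bc h4 (inc hle) (IsPullback.of_hasPullback f₀ (sp (inc hle))), ⟨?_⟩⟩
  exact (Scheme.Modules.pullbackComp p' (pullback.fst f₀ (sp (inc hle)))).app L₀ ≪≫
    (Scheme.Modules.pullbackCongr hp').app L₀ ≪≫ e

end Model

section Lift

/-- A base change along a composition is a base change of a base change. -/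
theorem exists_isPullback_lift {X₀ S₀ T T' X' : Scheme.{u}} (f₀ : X₀ ⟶ S₀) (s : T ⟶ S₀) (t : T' ⟶ T) {r : T' ⟶ S₀}
    (hr : t ≫ s = r) {q : X' ⟶ X₀} {g : X' ⟶ T'} (H : IsPullback q g f₀ r) :
    ∃ q' : X' ⟶ pullback f₀ s, q' ≫ pullback.fst f₀ s = q ∧ IsPullback q' g (pullback.snd f₀ s) t := by
  subst hr
  let q' : X' ⟶ pullback f₀ s := pullback.lift q (g ≫ t) (by rw [Category.assoc]; exact H.w)
  have h1 : q' ≫ pullback.fst f₀ s = q := pullback.lift_fst _ _ _
  refine ⟨q', h1, IsPullback.of_right ?_ (pullback.lift_snd _ _ _) (IsPullback.of_hasPullback f₀ s)⟩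
  rw [h1]
  exact H

end Lift

section Ext

/-- Exterior powers only depend on the isomorphism class of the module. -/
theorem isExtPow_of_iso_left {X : Scheme.{u}} {a : ℕ} {E E' L : X.Modules} (hE' : Coh.IsQCoh E') (e : E ≅ E')
    (h : ExtPow.IsExtPow a E L) : ExtPow.IsExtPow a E' L := by
  obtain ⟨L', h'⟩ := Dual.H366.ExtQCoh.exists_isExtPow a hE'
  obtain ⟨e'⟩ := Sga67.TensorOps.nonempty_iso_of_isExtPow e h h'
  exact Krr.H487.ExtPull.isExtPow_of_iso h' e'.symm

theorem isQCoh_of_isFinLocFree {X : Scheme.{u}} {E : X.Modules} (h : FlatMod.IsFinLocFree E) : Coh.IsQCoh E :=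
  Groth.Agent.Models2.FPCoh.isQCoh_of_isFP (Desc.FinLocFreeSections.isFP_of_isFinLocFree h)

/-- The exterior powers of the differentials of a smooth morphism exist and are compatible with base change. -/
theorem exists_extPow_omega {X₀ S₀ : Scheme.{u}} (f₀ : X₀ ⟶ S₀) [Smooth f₀] [IsSeparated f₀] (a : ℕ) :
    ∃ Om₀ : X₀.Modules, FlatMod.IsFinLocFree Om₀ ∧ ExtPow.IsExtPow a (Omega.sheaf f₀) Om₀ ∧
      ∀ (X' T : Scheme.{u}) (q : X' ⟶ X₀) (g : X' ⟶ T) (t : T ⟶ S₀), IsPullback q g f₀ t →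
        ExtPow.IsExtPow a (Omega.sheaf g) ((Scheme.Modules.pullback q).obj Om₀) := by
  have h1 : FlatMod.IsFinLocFree (Omega.sheaf f₀) := Vancyc.H878.OmegaRank.isFinLocFree_omega f₀
  obtain ⟨Om₀, h2⟩ := Dual.H366.ExtQCoh.exists_isExtPow a (isQCoh_of_isFinLocFree h1)
  refine ⟨Om₀, Sga67.LocBasis.isFinLocFree_of_isExtPow h1 h2, h2, fun X' T q g t H => ?_⟩
  have i1 : Smooth g := MorphismProperty.of_isPullback H inferInstance
  have i2 : IsSeparated g := MorphismProperty.of_isPullback H inferInstance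
  have h3 := Krr.H487.PullExt.isExtPow_pullback q h1 h2
  exact isExtPow_of_iso_left (isQCoh_of_isFinLocFree (Vancyc.H878.OmegaRank.isFinLocFree_omega g))
    (Vancyc.H878.RelOmega.omegaBC H) h3

end Ext

section Tensor

/-- pull-back commutes with tensor products -/
noncomputable def pullTensor {X Y : Scheme.{u}} (f : X ⟶ Y) (M N : Y.Modules) :
    (Scheme.Modules.pullback f).obj (CohB1.tensorMod M N) ≅
      CohB1.tensorMod ((Scheme.Modules.pullback f).obj M) ((Scheme.Modules.pullback f).obj N) :=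
  Krr.H482.PullTens.pullTensorIso f M N

/-- An invertible module has an inverse, unique up to isomorphism, whose pull-backs are inverses of the pull-backs. -/
theorem exists_inverse {X : Scheme.{u}} {L : X.Modules} (hL : PicF.IsInvertible L) :
    ∃ M : X.Modules, PicF.IsInvertible M ∧ ClSub.IsInverseOf M L := by
  obtain ⟨M, hM, ⟨e⟩⟩ := Grpsch.PicGrp.exists_inverse hL
  exact ⟨M, hM, ⟨Sga67.TensorOps.tensorComm M L ≪≫ e⟩⟩

theorem isFinLocFree_of_isInvertible {X : Scheme.{u}} {L : X.Modules} (hL : PicF.IsInvertible L) :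
    FlatMod.IsFinLocFree L := by
  intro x
  obtain ⟨U, hU, ⟨e⟩⟩ := hL x
  refine ⟨U, 1, hU, ⟨e ≪≫ ?_⟩⟩
  exact (Limits.coproductUniqueIso (fun _ : Fin 1 => Coh.structureModule (↑U : Scheme.{u}))).symm

theorem nonempty_iso_tensorMod {X : Scheme.{u}} {M M' N N' : X.Modules} (e : Nonempty (M ≅ M'))
    (e' : Nonempty (N ≅ N')) : Nonempty (CohB1.tensorMod M N ≅ CohB1.tensorMod M' N') := by
  rw [← Fga.PicMon.mc_eq_iff] at e e' ⊢
  rw [Fga.PicMon.mc_tensor, Fga.PicMon.mc_tensor, e, e']

end Tensor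

section Finrank

variable {k : Type u} [Field k] {X : Scheme.{u}} [X.Over (Spec (CommRingCat.of k))]
  [IsProper (X ↘ Spec (CommRingCat.of k))]

/-- A finitely presented module on a proper scheme with `dim H^b = 0` has no cohomology in degree `b`. -/
theorem subsingleton_of_finrank {F : X.Modules} (hF : CohB1.IsFP F) (b : ℕ)
    (h : Module.finrank k (Coh.HH X F b) = 0) : Subsingleton (Coh.HH X F b) := by
  have h1 : Module.Finite k (Coh.HH X F b) := Groth.Agent.S0002.result k X F (Groth.Agent.Models2.FPCoh.isCoh_of_isFP hF) b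
  exact Module.finrank_zero_iff.mp h

end Finrank

end K890.Polarized
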