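import Groth.Agent.DelIll.K890.Generic
import Groth.Agent.Flat2D.NGeomConst
import Groth.Agent.Flat2D.GeomFib
import Groth.Agent.Ega43.GeomFibre
import Groth.Agent.Etdl.H426.ConnNhd
import Groth.Agent.S0403
import Groth.Agent.S0404
import Groth.Agent.Etcore.DimBaseChange

/-!
# Fibres over general points: connectedness, irreducibility, dimension

`X₀ → Spec S` a model of `X → Spec k`.
* `ev_geomConn`: if `X` is geometrically connected over `k`, so are the base changes to general fields;
  `ev_irreducible`: if moreover `X` is smooth over `k`, they are irreducible.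
* `ev_dim`: (`X₀` proper and flat) they have the dimension of `X`.
-/

set_option autoImplicit false
universe u v
open CategoryTheory CategoryTheory.Limits AlgebraicGeometry Opposite Topology

namespace K890.Fibres

open K890.Spread K890.Model K890.Generic Groth.Agent

section Conn

variable {k : Type u} [Field k] {S : Subalgebra ℤ k} {X X₀ : Scheme.{u}} {f : X ⟶ Spec (CommRingCat.of k)}
  {f₀ : X₀ ⟶ Spec (CommRingCat.of S)} {p : X ⟶ X₀}

theorem geometricallyConnected_iff {κ : Type u} [Field κ] {X' : Scheme.{u}} (g : X' ⟶ Spec (CommRingCat.of κ))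
    (y : Spec (CommRingCat.of κ)) : GeometricallyConnected g ↔ MoreMor.nGeomConnComp g y = 1 := by
  constructor
  · intro h
    exact Ega43.GeomFibre.nGeomConnComp_eq_one g y inferInstance
  · intro h
    have h1 := (Ega43.GeomFibre.geometricallyConnected_of_nGeomConnComp g y h).geometrically_connectedSpace
    constructor
    rw [Ega43.GeomFibre.geometrically_fiber_iff] at h1
    rw [geometrically_iff_of_isClosedUnderIsomorphisms]
    intro K _ t
    exact h1 K t fun s => Subsingleton.elim (α := PrimeSpectrum κ) _ _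

/-- General base changes to fields of a geometrically connected scheme are geometrically connected. -/
theorem ev_geomConn [LocallyOfFiniteType f₀] [QuasiCompact f₀] (H : IsPullback p f f₀ (sv S)) (hS : S.FG)
    [GeometricallyConnected f] :
    Ev S (OnField fun κ _ φ => ∀ (X' : Scheme.{u}) (q : X' ⟶ X₀) (g : X' ⟶ Spec (CommRingCat.of κ)),
      IsPullback q g f₀ (sp φ) → GeometricallyConnected g) := by
  obtain ⟨n, hn⟩ := Flat2D.NGeomConst.exists_eventually_nGeomConnComp_eq f₀
  let x : Spec (CommRingCat.of k) := IsLocalRing.closedPoint k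
  have h1 : MoreMor.nGeomConnComp f₀ (genericPoint (Spec (CommRingCat.of S))) = 1 := by
    have h2 := Flat2D.GeomFib.nGeomConnComp_baseChange f₀ f p (sv S) H x
    rw [sv_apply] at h2
    rw [← h2]
    exact (geometricallyConnected_iff f x).mp inferInstance
  have h3 : n = 1 := by rw [← h1]; exact (hn.self_of_nhds).symm
  subst h3
  refine onField_of_ev (ev_of_nhds hS hn) fun κ _ φ h X' q g Hq => ?_
  let y : Spec (CommRingCat.of κ) := IsLocalRing.closedPoint κ
  rw [geometricallyConnected_iff g y, Flat2D.GeomFib.nGeomConnComp_baseChange f₀ g q (sp φ) Hq y]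
  exact h y

theorem geometricallyConnected_of_isSepClosed [IsSepClosed k] [ConnectedSpace X] : GeometricallyConnected f := by
  let x : Spec (CommRingCat.of k) := IsLocalRing.closedPoint k
  rw [geometricallyConnected_iff f x]
  have h1 := Flat2D.GeomFib.nGeomConnComp_eq f (𝟙 (Spec (CommRingCat.of k))) (𝟙 X) f (IsPullback.of_id_fst)
  have h2 : ENat.card (_root_.ConnectedComponents X) = 1 := by
    rw [ENat.card_eq_one_iff_unique]
    obtain ⟨z⟩ : Nonempty X := inferInstance
    exact ⟨⟨⟨(z : _root_.ConnectedComponents X)⟩, fun y => Subsingleton.elim _ _⟩⟩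
  rw [h1] at h2
  rw [← h2]
  rfl

/-- General base changes to fields of a smooth and geometrically connected scheme are geometrically connected, smooth
and irreducible. -/
theorem ev_irreducible [LocallyOfFinitePresentation f₀] [QuasiCompact f₀] (H : IsPullback p f f₀ (sv S)) (hS : S.FG)
    [GeometricallyConnected f] [Smooth f] :
    Ev S (OnField fun κ _ φ => ∀ (X' : Scheme.{u}) (q : X' ⟶ X₀) (g : X' ⟶ Spec (CommRingCat.of κ)),
      IsPullback q g f₀ (sp φ) → IrreducibleSpace X') := by
  refine ((ev_geomConn H hS).and (ev_smooth H hS)).mono fun T _ φ h κ _ e X' q g Hq => ?_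
  have h1 := h.1 κ e X' q g Hq
  have h2 : Smooth g := by
    have Hq' : IsPullback q (g ≫ Spec.map (CommRingCat.ofHom (e : T →+* κ))) f₀ (sp φ) := by
      have e1 : IsIso (Spec.map (CommRingCat.ofHom (e : T →+* κ))) := by
        have : IsIso (CommRingCat.ofHom (e : T →+* κ)) := e.toCommRingCatIso.isIso_hom
        infer_instance
      refine (IsPullback.of_iso Hq (Iso.refl _) (Iso.refl _) (asIso (Spec.map (CommRingCat.ofHom (e : T →+* κ))))
        (Iso.refl _) (by simp) (by simp) (by simp) ?_)
      simp only [Iso.refl_hom, Category.comp_id, asIso_hom]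
      rw [← Spec.map_comp]
      rfl
    have h3 := h.2 X' q _ Hq'
    have e1 : IsIso (Spec.map (CommRingCat.ofHom (e : T →+* κ))) := by
      have : IsIso (CommRingCat.ofHom (e : T →+* κ)) := e.toCommRingCatIso.isIso_hom
      infer_instance
    exact (MorphismProperty.cancel_right_of_respectsIso (P := @Smooth) g
      (Spec.map (CommRingCat.ofHom (e : T →+* κ)))).mp h3
  have h4 : ConnectedSpace X' := by
    have := h1.geometrically_connectedSpace (𝟙 _) (𝟙 X') g IsPullback.of_id_fst
    exact this
  exact Etdl.H426.ConnNhd.irreducibleSpace_of_smooth g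

end Conn

section Dim

variable {k : Type u} [Field k] {S : Subalgebra ℤ k} {X X₀ : Scheme.{u}} {f : X ⟶ Spec (CommRingCat.of k)}
  {f₀ : X₀ ⟶ Spec (CommRingCat.of S)} {p : X ⟶ X₀}

/-- The dimension of a base change to a field is that of the corresponding fibre. -/
theorem dim_eq_fiber {κ : Type u} [Field κ] {Y X₀ : Scheme.{u}} (f₀ : X₀ ⟶ Y) [LocallyOfFiniteType f₀]
    (t : Spec (CommRingCat.of κ) ⟶ Y) {X' : Scheme.{u}} (q : X' ⟶ X₀) (g : X' ⟶ Spec (CommRingCat.of κ))
    (H : IsPullback q g f₀ t) (y : Spec (CommRingCat.of κ)) :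
    topologicalKrullDim X' = topologicalKrullDim (f₀.fiber (t y)) := by
  obtain ⟨⟨y', φ⟩, rfl⟩ := (Scheme.SpecToEquivOfField _ _).symm.surjective t
  have hy : (Scheme.SpecToEquivOfField κ Y).symm ⟨y', φ⟩ y = y' := by
    simp [Scheme.SpecToEquivOfField]
  rw [hy]
  simp only [Scheme.SpecToEquivOfField, Equiv.coe_fn_symm_mk] at H
  let q' : X' ⟶ f₀.fiber y' := pullback.lift q (g ≫ Spec.map φ) (by simp [H.w])
  have h1 : IsPullback q' g (f₀.fiberToSpecResidueField y') (Spec.map φ) := by
    refine IsPullback.of_right ?_ (pullback.lift_snd _ _ _) (IsPullback.of_hasPullback f₀ (Y.fromSpecResidueField y'))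
    have : q' ≫ pullback.fst f₀ (Y.fromSpecResidueField y') = q := pullback.lift_fst _ _ _
    rw [this]
    exact H
  have h2 : LocallyOfFiniteType (f₀.fiberToSpecResidueField y') :=
    MorphismProperty.pullback_snd (P := @LocallyOfFiniteType) _ _ inferInstance
  exact Etcore.DimBaseChange.topologicalKrullDim_eq (Field.toIsField (Y.residueField y')) (Field.toIsField κ)
    (f₀.fiberToSpecResidueField y') g q' (Spec.map φ) h1

/-- General base changes to fields have the same dimension. -/
theorem ev_dim [IsProper f₀] [Flat f₀] [LocallyOfFinitePresentation f₀] (H : IsPullback p f f₀ (sv S)) (hS : S.FG)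
    (n : ℕ) (hn : topologicalKrullDim X = n) :
    Ev S (OnField fun κ _ φ => ∀ (X' : Scheme.{u}) (q : X' ⟶ X₀) (g : X' ⟶ Spec (CommRingCat.of κ)),
      IsPullback q g f₀ (sp φ) → topologicalKrullDim X' = n) := by
  let η := genericPoint (Spec (CommRingCat.of S))
  let x : Spec (CommRingCat.of k) := IsLocalRing.closedPoint k
  have hη : topologicalKrullDim (f₀.fiber η) = n := by
    rw [← hn, dim_eq_fiber f₀ (sv S) p f H x, sv_apply]
  have h1 := S0403.result f₀ n
  obtain ⟨V, hVo, hηV, hV⟩ : ∃ V : Set (Spec (CommRingCat.of S)), IsOpen V ∧ η ∈ V ∧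
      ∀ s ∈ V, (n : WithBot ℕ∞) ≤ topologicalKrullDim (f₀.fiber s) := by
    rcases n with _ | m
    · refine ⟨_, S0404.result f₀ ⊥, ?_, fun s hs => ?_⟩
      · change ⊥ < topologicalKrullDim (f₀.fiber η)
        rw [hη]
        exact WithBot.bot_lt_coe _
      · have : ⊥ < topologicalKrullDim (f₀.fiber s) := hs
        rw [bot_lt_iff_ne_bot, WithBot.ne_bot_iff_exists] at this
        obtain ⟨a, ha⟩ := this
        rw [← ha]
        exact WithBot.coe_le_coe.mpr zero_le
    · refine ⟨_, S0404.result f₀ (m : WithBot ℕ∞), ?_, fun s hs => ?_⟩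
      · change (m : WithBot ℕ∞) < topologicalKrullDim (f₀.fiber η)
        rw [hη]
        exact_mod_cast Nat.lt_succ_self m
      · have : (m : WithBot ℕ∞) < topologicalKrullDim (f₀.fiber s) := hs
        obtain ⟨a, ha⟩ := WithBot.ne_bot_iff_exists.mp (ne_bot_of_gt this)
        rw [← ha] at this ⊢
        have h5 : (m : ℕ∞) < a := WithBot.coe_lt_coe.mp this
        exact WithBot.coe_le_coe.mpr (Order.add_one_le_of_lt h5)
  have h3 := Filter.inter_mem (h1.mem_nhds (show topologicalKrullDim (f₀.fiber η) ≤ n from hη.le)) (hVo.mem_nhds hηV)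
  refine onField_of_ev (ev_of_nhds hS h3) fun κ _ φ h X' q g Hq => ?_
  let y : Spec (CommRingCat.of κ) := IsLocalRing.closedPoint κ
  rw [dim_eq_fiber f₀ (sp φ) q g Hq y]
  exact le_antisymm (h y).1 (hV _ (h y).2)

end Dim

end K890.Fibres
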