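import Groth.Agent.DelIll.K890.Flat
import Groth.Agent.VarietyA.EulerAdd
import Groth.Agent.S0002
import Groth.Agent.FormalB.PullCoh

/-!
# Cohomology of arbitrary coherent modules and of injective maps over general points

* `ev_finrank_coh`: the dimensions of the cohomology groups of a coherent module (no flatness hypothesis).
* `surj_iff`: for `0 → G → F → Q → 0` on a scheme over a field, `H^b(G) → H^b(F)` is surjective for all `b` iff
  `h^0(G) = h^0(F)` and `h^{b+1}(G) = h^{b+1}(F) + h^b(Q)` for all `b`.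
* `ev_surjective`: surjectivity of `H^b(G) → H^b(F)` for all `b` at a general point gives surjectivity on `X`.
-/

set_option autoImplicit false
universe u v
open CategoryTheory CategoryTheory.Limits AlgebraicGeometry Opposite TopologicalSpace

namespace K890.Surj

open K890.Spread K890.Model K890.Stage K890.Generic K890.Ncd K890.Flat Groth.Agent
  Groth.Agent.VarietyA.EulerLES Groth.Agent.VarietyA.EulerAdd

section Field

variable (k : Type u) [Field k] {X : Scheme.{u}} [X.Over (Spec (CommRingCat.of k))]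

theorem surj_iff (T : ShortComplex X.Modules) (hT : T.ShortExact)
    (h₁ : ∀ i, Module.Finite k (Coh.HH X T.X₁ i)) (h₂ : ∀ i, Module.Finite k (Coh.HH X T.X₂ i))
    (h₃ : ∀ i, Module.Finite k (Coh.HH X T.X₃ i)) :
    (∀ b, Function.Surjective (mapA k T.f b)) ↔
      (Module.finrank k (Coh.HH X T.X₁ 0) = Module.finrank k (Coh.HH X T.X₂ 0) ∧
        ∀ b, Module.finrank k (Coh.HH X T.X₁ (b + 1)) = Module.finrank k (Coh.HH X T.X₂ (b + 1)) +
          Module.finrank k (Coh.HH X T.X₃ b)) := by
  have a2 := fun i => finrank_eq k T hT i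
  have a3 := fun i => finrank_eq₃ k T hT i
  have a1 := fun i => finrank_eq₁ k T hT i
  have a0 := finrank_eq₀ k T hT
  have key : (∀ b, Function.Surjective (mapA k T.f b)) ↔
      ∀ b, Module.finrank k (LinearMap.range (mapA k T.g b)) = 0 := by
    refine forall_congr' fun b => ⟨fun h => ?_, fun h => ?_⟩
    · have h1 : LinearMap.range (mapA k T.f b) = ⊤ := LinearMap.range_eq_top.mpr h
      have h2 := a2 b
      rw [h1, finrank_top] at h2
      omega
    · rw [← LinearMap.range_eq_top]
      refine Submodule.eq_top_of_finrank_eq ?_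
      rw [a2 b, h, add_zero]
  rw [key]
  constructor
  · intro h
    refine ⟨?_, fun b => ?_⟩
    · rw [a0, a2 0, h, add_zero]
    · rw [a1, a2 (b + 1), a3 b, h, h]
      omega
  · rintro ⟨h, h'⟩ b
    have hb : ∀ b, Module.finrank k (LinearMap.range (mapA k T.g b)) +
        Module.finrank k (LinearMap.range (mapA k T.g (b + 1))) = 0 := by
      intro b
      have := h' b
      rw [a1, a2 (b + 1), a3 b] at this
      omega
    have := hb b
    omega

end Field

variable {k : Type u} [Field k] {S : Subalgebra ℤ k} {X₀ : Scheme.{u}} {f₀ : X₀ ⟶ Spec (CommRingCat.of S)}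
  {X : Scheme.{u}} [X.Over (Spec (CommRingCat.of k))] {p : X ⟶ X₀}

/-- **Dimensions of cohomology groups** of a coherent module, not necessarily flat over `S`. -/
theorem ev_finrank_coh [IsProper f₀] [LocallyOfFinitePresentation f₀]
    (H : IsPullback p (X ↘ Spec (CommRingCat.of k)) f₀ (sv S)) (hS : S.FG) {F : X₀.Modules} (hF : Coh.IsCoh F) :
    Ev S (OnField fun κ _ φ => ∀ (X' : Scheme.{u}) [X'.Over (Spec (CommRingCat.of κ))] (q : X' ⟶ X₀),
      IsPullback q (X' ↘ Spec (CommRingCat.of κ)) f₀ (sp φ) → ∀ b : ℕ,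
      Module.finrank κ (Coh.HH X' ((Scheme.Modules.pullback q).obj F) b) =
        Module.finrank k (Coh.HH X ((Scheme.Modules.pullback p).obj F) b)) := by
  have hn : IsLocallyNoetherian X₀ := isLocallyNoetherian_of_fg (f₀ := f₀) hS
  obtain ⟨S₁, h₁, hfg₁, h2⟩ := exists_stage (ev_isFlatOver (f₀ := f₀) hS hF)
  have h3 : FlatMod.IsFlatOver (st f₀ h₁) ((Scheme.Modules.pullback (pr f₀ h₁)).obj F) :=
    h2 S₁ le_rfl _ _ _ (isPullback_pr f₀ h₁)
  have h4 : CohB1.IsFP ((Scheme.Modules.pullback (pr f₀ h₁)).obj F) :=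
    FormalA.PullbackQC.isFP_pullback _ _ ((S0018.result X₀ _).mp hF)
  have h5 := ev_finrank_all (isPullback_up H h₁) hfg₁ h4 h3
  refine Ev.of_le h₁ (h5.mono fun T _ φ hφ κ _ e X' _ q hq b => ?_)
  obtain ⟨q', w, hq'⟩ := exists_fac f₀ h₁ ((e : T →+* κ).comp φ) hq
  have e1 : (Scheme.Modules.pullback q').obj ((Scheme.Modules.pullback (pr f₀ h₁)).obj F) ≅
      (Scheme.Modules.pullback q).obj F :=
    (Scheme.Modules.pullbackComp q' (pr f₀ h₁)).app F ≪≫ (Scheme.Modules.pullbackCongr w).app F
  have e2 : (Scheme.Modules.pullback (up H h₁)).obj ((Scheme.Modules.pullback (pr f₀ h₁)).obj F) ≅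
      (Scheme.Modules.pullback p).obj F :=
    (Scheme.Modules.pullbackComp (up H h₁) (pr f₀ h₁)).app F ≪≫
      (Scheme.Modules.pullbackCongr (up_pr H h₁)).app F
  have := hφ κ e X' q' hq' b
  rwa [(equivA κ e1 b).finrank_eq, (equivA k e2 b).finrank_eq] at this

/-- **Surjectivity on cohomology** at a general point gives surjectivity on `X`. -/
theorem ev_surjective [IsProper f₀] [LocallyOfFinitePresentation f₀]
    (H : IsPullback p (X ↘ Spec (CommRingCat.of k)) f₀ (sv S)) (hS : S.FG) {G F : X₀.Modules} (hG : Coh.IsCoh G)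
    (hF : Coh.IsCoh F) (w : G ⟶ F) (hw : Mono ((Scheme.Modules.pullback p).map w)) :
    Ev S (OnField fun κ _ φ => ∀ (X' : Scheme.{u}) [X'.Over (Spec (CommRingCat.of κ))] (q : X' ⟶ X₀),
      IsPullback q (X' ↘ Spec (CommRingCat.of κ)) f₀ (sp φ) →
      (∀ b : ℕ, Function.Surjective (Sheaf.H.map ((SheafOfModules.toSheaf X'.ringCatSheaf).map
        ((Scheme.Modules.pullback q).map w)) b)) →
      ∀ b : ℕ, Function.Surjective (Sheaf.H.map ((SheafOfModules.toSheaf X.ringCatSheaf).map
        ((Scheme.Modules.pullback p).map w)) b)) := by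
  have hn : IsLocallyNoetherian X₀ := isLocallyNoetherian_of_fg (f₀ := f₀) hS
  have hC : Coh.IsCoh (cokernel w) := PerfA.CohSerre.isCoh_cokernel w hG.1 hF
  -- `q^*` of the sequence `G → F → coker w → 0`
  have key : ∀ {κ : Type u} [Field κ] {Y : Scheme.{u}} [Y.Over (Spec (CommRingCat.of κ))] (q : Y ⟶ X₀)
      (hpr : IsProper (Y ↘ Spec (CommRingCat.of κ))) (hm : Mono ((Scheme.Modules.pullback q).map w)),
      (∀ b : ℕ, Function.Surjective (Sheaf.H.map ((SheafOfModules.toSheaf Y.ringCatSheaf).map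
        ((Scheme.Modules.pullback q).map w)) b)) ↔
      (Module.finrank κ (Coh.HH Y ((Scheme.Modules.pullback q).obj G) 0) =
        Module.finrank κ (Coh.HH Y ((Scheme.Modules.pullback q).obj F) 0) ∧
        ∀ b, Module.finrank κ (Coh.HH Y ((Scheme.Modules.pullback q).obj G) (b + 1)) =
          Module.finrank κ (Coh.HH Y ((Scheme.Modules.pullback q).obj F) (b + 1)) +
          Module.finrank κ (Coh.HH Y ((Scheme.Modules.pullback q).obj (cokernel w)) b)) := by
    intro κ _ Y _ q hpr hm
    have hfin : ∀ (M : X₀.Modules), Coh.IsCoh M → ∀ i,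
        Module.Finite κ (Coh.HH Y ((Scheme.Modules.pullback q).obj M) i) := by
      intro M hM i
      exact S0002.result κ Y _ (FormalB.PullCoh.isCoh_pullback q hM) i
    have hep : Epi ((Scheme.Modules.pullback q).map (cokernel.π w)) := inferInstance
    let T : ShortComplex X₀.Modules := ShortComplex.mk w (cokernel.π w) (cokernel.condition w)
    let T' : ShortComplex Y.Modules := T.map (Scheme.Modules.pullback q)
    have hT' : T'.ShortExact := by
      refine ShortComplex.ShortExact.mk' ?_ hm hep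
      refine ShortComplex.exact_of_g_is_cokernel _ ?_
      exact CokernelCofork.mapIsColimit _ (cokernelIsCokernel w) (Scheme.Modules.pullback q)
    exact surj_iff κ T' hT' (hfin G hG) (hfin F hF) (hfin _ hC)
  have e1 := ev_finrank_coh H hS hG
  have e2 := ev_finrank_coh H hS hF
  have e3 := ev_finrank_coh H hS hC
  have e4 := onField_of_ev (Φ := fun κ _ φ => ∀ (X' : Scheme.{u}) (q : X' ⟶ X₀) (g : X' ⟶ Spec (CommRingCat.of κ)),
    IsPullback q g f₀ (sp φ) → Mono ((Scheme.Modules.pullback q).map w))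
    (ev_mono (f₀ := f₀) H hS hG hF w hw) (fun κ _ φ h => h)
  refine ((e1.and e2).and (e3.and e4)).mono ?_
  rintro T _ φ ⟨⟨h1, h2⟩, ⟨h3, h4⟩⟩ κ _ e X' _ q hq hs
  have hp : IsProper (X ↘ Spec (CommRingCat.of k)) := MorphismProperty.of_isPullback H inferInstance
  have hp' : IsProper (X' ↘ Spec (CommRingCat.of κ)) := MorphismProperty.of_isPullback hq inferInstance
  have h5 := (key q hp' (h4 κ e X' q _ hq)).mp hs
  refine (key p hp hw).mpr ?_
  simpa only [h1 κ e X' q hq, h2 κ e X' q hq, h3 κ e X' q hq] using h5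

end K890.Surj
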