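import Groth.Agent.DelIll.K890.IdealStage
import Groth.Agent.DelIll.K890.Polarized
import Groth.Agent.Smoothlim.ProperDescend
import Groth.Agent.S0591

/-!
# Models of smooth projective schemes with a normal crossing divisor

* `exists_smooth_ample_ncd_model`: `X/k` smooth and proper with an ample module `L` and a normal crossing divisor `D`
  has a model `X₀/S` smooth and proper, with `L₀` ample and a relative normal crossing divisor `D₀`.
* `exists_smooth_proper_model`, `exists_smooth_proper_ncd_model`: without ample module.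
-/

set_option autoImplicit false
universe u v
open CategoryTheory CategoryTheory.Limits AlgebraicGeometry Opposite TopologicalSpace

namespace K890.NcdModel

open K890.Spread K890.Model K890.Stage K890.Ncd K890.IdealStage K890.Polarized LogNCD
  Groth.Agent.PerfB.ApproxRing Groth.Agent.Smoothlim.LimBase

variable {k : Type u} [Field k]

/-- The property `P` holds at a larger stage, for morphisms of finite presentation (`Q` a consequence of it). -/
theorem exists_stage_of_ev {S : Subalgebra ℤ k} {X₀ : Scheme.{u}} {f₀ : X₀ ⟶ Spec (CommRingCat.of S)}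
    {P : ∀ (T : Type u) [CommRing T] (X' : Scheme.{u}) (_ : X' ⟶ X₀) (_ : X' ⟶ Spec (CommRingCat.of T)), Prop}
    (h : Ev S (BC f₀ P)) :
    ∃ (S' : Subalgebra ℤ k) (h : S ≤ S') (_ : S'.FG), ∀ (S'' : Subalgebra ℤ k) (h' : S' ≤ S''),
      P S'' (St f₀ (h.trans h')) (pr f₀ (h.trans h')) (st f₀ (h.trans h')) := by
  obtain ⟨S', h, hfg, h1⟩ := exists_stage h
  exact ⟨S', h, hfg, fun S'' h' => h1 S'' h' _ _ _ (isPullback_pr f₀ (h.trans h'))⟩

/-- **Models with normal crossing divisors.** -/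
theorem exists_smooth_ample_ncd_model {X : Scheme.{u}} (f : X ⟶ Spec (CommRingCat.of k)) [IsProper f] [Smooth f]
    {L : X.Modules} (hL : CohB1.IsAmple L) {r : ℕ} (D : Fin r → X.IdealSheafData) (hD : IsNCD D f) :
    ∃ (S : Subalgebra ℤ k) (_ : S.FG) (X₀ : Scheme.{u}) (f₀ : X₀ ⟶ Spec (CommRingCat.of S)) (p : X ⟶ X₀)
      (L₀ : X₀.Modules) (D₀ : Fin r → X₀.IdealSheafData), IsPullback p f f₀ (sv S) ∧ IsProper f₀ ∧ Smooth f₀ ∧
      CohB1.IsAmple L₀ ∧ Nonempty ((Scheme.Modules.pullback p).obj L₀ ≅ L) ∧ (∀ i, (D₀ i).comap p = D i) ∧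
      IsNCD D₀ f₀ := by
  obtain ⟨S, hS, X₀, f₀, p, L₀, H, hprop, hsm, hamp, ⟨eL⟩⟩ := exists_smooth_ample_model f hL
  obtain ⟨S₁, h₁, hfg₁, D₁, hD₁⟩ := exists_ideals_stage H hS D
  have hD' : IsNCD (fun i => (D₁ i).comap (up H h₁)) f := by simpa only [hD₁] using hD
  obtain ⟨S₂, h₂, hfg₂, h3⟩ := exists_stage (ev_isNCD (isPullback_up H h₁) hfg₁ D₁ hD')
  have h4 : IsNCD (fun i => (D₁ i).comap (tr f₀ h₁ h₂)) (st f₀ (h₁.trans h₂)) :=
    h3 S₂ le_rfl _ _ _ (isPullback_tr f₀ h₁ h₂)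
  refine ⟨S₂, hfg₂, St f₀ (h₁.trans h₂), st f₀ (h₁.trans h₂), up H (h₁.trans h₂),
    (Scheme.Modules.pullback (pr f₀ (h₁.trans h₂))).obj L₀, fun i => (D₁ i).comap (tr f₀ h₁ h₂),
    isPullback_up H _, inferInstance, inferInstance, isAmple_bc hamp _ (isPullback_pr f₀ (h₁.trans h₂)), ⟨?_⟩,
    fun i => ?_, h4⟩
  · exact (Scheme.Modules.pullbackComp _ (pr f₀ (h₁.trans h₂))).app L₀ ≪≫
      (Scheme.Modules.pullbackCongr (up_pr H (h₁.trans h₂))).app L₀ ≪≫ eL
  · rw [← Scheme.IdealSheafData.comap_comp, up_tr, hD₁]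

/-- A scheme of finite presentation over `k` has a model. -/
theorem exists_model {X : Scheme.{u}} (f : X ⟶ Spec (CommRingCat.of k)) [LocallyOfFinitePresentation f]
    [QuasiCompact f] [QuasiSeparated f] :
    ∃ (S : Subalgebra ℤ k) (_ : S.FG) (X₀ : Scheme.{u}) (f₀ : X₀ ⟶ Spec (CommRingCat.of S)) (p : X ⟶ X₀),
      IsPullback p f f₀ (sv S) ∧ LocallyOfFinitePresentation f₀ ∧ QuasiCompact f₀ ∧ QuasiSeparated f₀ := by
  have i3 : LocallyOfFinitePresentation (Y := (specCone k).pt) f := ‹_›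
  have i4 : QuasiCompact (Y := (specCone k).pt) f := ‹_›
  have i5 : QuasiSeparated (Y := (specCone k).pt) f := ‹_›
  obtain ⟨i, X₀, f₀, g, h1, h2, h3, h4⟩ := Groth.Agent.S0591.result (specDiag k) (specCone k)
    (specIsLimit k) X f
  exact ⟨i.unop.1, i.unop.2, X₀, f₀, g, h4, h1, h2, h3⟩

/-- Models of smooth proper schemes. -/
theorem exists_smooth_proper_model {X : Scheme.{u}} (f : X ⟶ Spec (CommRingCat.of k)) [IsProper f] [Smooth f] :
    ∃ (S : Subalgebra ℤ k) (_ : S.FG) (X₀ : Scheme.{u}) (f₀ : X₀ ⟶ Spec (CommRingCat.of S)) (p : X ⟶ X₀),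
      IsPullback p f f₀ (sv S) ∧ IsProper f₀ ∧ Smooth f₀ := by
  obtain ⟨S, hS, X₀, f₀, p, H, h1, h2, h3⟩ := exists_model f
  have := isZariskiLocalAtTarget_smooth.{u}
  have e1 := ev_prop (P := @Smooth) Groth.Agent.Sga3.H806.SmoothDescend.descendsAffine_smooth H hS
    ⟨inferInstance, inferInstance⟩ inferInstance
  have e2 := ev_prop (P := @IsProper) Groth.Agent.Smoothlim.LimBase.descendsAffine_isProper H hS
    (by exact ⟨⟨inferInstance, inferInstance⟩, inferInstance⟩) inferInstance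
  obtain ⟨S₁, h₁, hfg₁, h4⟩ := exists_stage (e1.and e2)
  obtain ⟨h5, h6⟩ := h4 S₁ le_rfl
  exact ⟨S₁, hfg₁, St f₀ h₁, st f₀ h₁, up H h₁, isPullback_up H h₁, h6 _ _ _ (isPullback_pr f₀ h₁),
    h5 _ _ _ (isPullback_pr f₀ h₁)⟩

/-- Models of smooth proper schemes with a normal crossing divisor. -/
theorem exists_smooth_proper_ncd_model {X : Scheme.{u}} (f : X ⟶ Spec (CommRingCat.of k)) [IsProper f] [Smooth f]
    {r : ℕ} (D : Fin r → X.IdealSheafData) (hD : IsNCD D f) :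
    ∃ (S : Subalgebra ℤ k) (_ : S.FG) (X₀ : Scheme.{u}) (f₀ : X₀ ⟶ Spec (CommRingCat.of S)) (p : X ⟶ X₀)
      (D₀ : Fin r → X₀.IdealSheafData), IsPullback p f f₀ (sv S) ∧ IsProper f₀ ∧ Smooth f₀ ∧
      (∀ i, (D₀ i).comap p = D i) ∧ IsNCD D₀ f₀ := by
  obtain ⟨S, hS, X₀, f₀, p, H, hprop, hsm⟩ := exists_smooth_proper_model f
  obtain ⟨S₁, h₁, hfg₁, D₁, hD₁⟩ := exists_ideals_stage H hS D
  have hD' : IsNCD (fun i => (D₁ i).comap (up H h₁)) f := by simpa only [hD₁] using hD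
  obtain ⟨S₂, h₂, hfg₂, h3⟩ := exists_stage (ev_isNCD (isPullback_up H h₁) hfg₁ D₁ hD')
  have h4 : IsNCD (fun i => (D₁ i).comap (tr f₀ h₁ h₂)) (st f₀ (h₁.trans h₂)) :=
    h3 S₂ le_rfl _ _ _ (isPullback_tr f₀ h₁ h₂)
  exact ⟨S₂, hfg₂, St f₀ (h₁.trans h₂), st f₀ (h₁.trans h₂), up H (h₁.trans h₂),
    fun i => (D₁ i).comap (tr f₀ h₁ h₂), isPullback_up H _, inferInstance, inferInstance,
    fun i => by rw [← Scheme.IdealSheafData.comap_comp, up_tr, hD₁], h4⟩

end K890.NcdModel
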