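import Groth.Agent.DelIll.K905.HTSch
import Groth.Agent.S0002

/-!
# Finiteness of hypercohomology over a noetherian ring
-/

set_option autoImplicit false

universe w w' v u u'

open CategoryTheory CategoryTheory.Limits E1Deg KLinDR K905.HTExact K905.Sigma K905.HTFin K905.HTSingle K905.HTAbs
open AlgebraicGeometry Opposite TopologicalSpace

namespace K890.NoethFin

theorem finite_mid {R : Type*} [CommRing R] [IsNoetherianRing R] {M N P : Type*} [AddCommGroup M] [Module R M]
    [AddCommGroup N] [Module R N] [AddCommGroup P] [Module R P] [Module.Finite R M] [Module.Finite R P]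
    (f : M →ₗ[R] N) (g : N →ₗ[R] P) (h : ∀ x, g x = 0 → ∃ y, f y = x) : Module.Finite R N := by
  have h1 : (LinearMap.ker g).FG := by
    have h2 : (LinearMap.ker g).comap f ⊔ ⊥ = (LinearMap.ker g).comap f := sup_bot_eq _
    have h3 : ((LinearMap.ker g).comap f).map f = LinearMap.ker g := by
      rw [Submodule.map_comap_eq]
      apply inf_eq_right.2
      intro x hx
      exact h x hx
    rw [← h3]
    exact (IsNoetherian.noetherian _).map f
  have h4 : (LinearMap.range g).FG := IsNoetherian.noetherian _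
  refine ⟨Submodule.fg_of_fg_map_of_fg_inf_ker g ?_ ?_⟩
  · rw [Submodule.map_top]
    exact h4
  · rw [top_inf_eq]
    exact h1

variable {A : Type u} [Category.{v} A] [Abelian A] [HasDerivedCategory.{w} A] [HasExt.{w'} A]
  {R : Type u'} [CommRing R] [IsNoetherianRing R]

omit [HasExt.{w'} A] in
theorem finite_V (T : A) (K : CochainComplex A ℤ) (ρ : R →+* End K) (n b : ℤ) (hb : ∀ m, b ≤ m → IsZero (K.X m))
    (hE : ∀ i, Module.Finite R (HTρ T ((HomologicalComplex.single A (ComplexShape.up ℤ) i).obj (K.X i))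
      ((grEnd K i).comp ρ) n)) (j : ℕ) :
    Module.Finite R (HTρ T (sigmaGE K (b - j)) ((sigmaEnd K (b - j)).comp ρ) n) := by
  induction j with
  | zero =>
    have h0 : Subsingleton (HTρ T (sigmaGE K (b - (0 : ℕ))) ((sigmaEnd K (b - (0 : ℕ))).comp ρ) n) := by
      apply HTρ_subsingleton
      apply isZero_Q
      intro m
      by_cases hm : b ≤ m
      · obtain ⟨l, hl⟩ := (emb_exists_iff (b - (0 : ℕ)) m).2 (by simpa using hm)
        exact (hb m hm).of_iso (K.stupidTruncXIso (emb _) hl)
      · exact isZero_sigmaGE K _ m (by simpa using hm)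
    infer_instance
  | succ j ih =>
    have e1 : b - (j : ℤ) = b - ((j + 1 : ℕ) : ℤ) + 1 := by push_cast; ring
    rw [e1] at ih
    have := hE (b - ((j + 1 : ℕ) : ℤ))
    exact finite_mid (HTρmap T (sigmaGEιSucc K (b - ((j + 1 : ℕ) : ℤ)))
        (ρ := (sigmaEnd K (b - ((j + 1 : ℕ) : ℤ) + 1)).comp ρ) (ρ' := (sigmaEnd K (b - ((j + 1 : ℕ) : ℤ))).comp ρ)
        (fun a => sigmaMap_ιSucc (ρ a) _) n)
      (HTρmap T (sigmaGEπ K (b - ((j + 1 : ℕ) : ℤ))) (ρ := (sigmaEnd K (b - ((j + 1 : ℕ) : ℤ))).comp ρ)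
        (ρ' := (grEnd K (b - ((j + 1 : ℕ) : ℤ))).comp ρ) (fun a => sigmaMap_π (ρ a) _) n)
      (fun x hx => HTρmap_ker_of_exact (sc_shortExact K _) T n _ _ x hx)

omit [HasExt.{w'} A] in
theorem finite_HTρ (T : A) (K : CochainComplex A ℤ) (ρ : R →+* End K) (n a b : ℤ) (hab : a ≤ b)
    (ha : ∀ m, m < a → IsZero (K.X m)) (hb : ∀ m, b ≤ m → IsZero (K.X m))
    (hE : ∀ i, Module.Finite R (HTρ T ((HomologicalComplex.single A (ComplexShape.up ℤ) i).obj (K.X i))
      ((grEnd K i).comp ρ) n)) : Module.Finite R (HTρ T K ρ n) := by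
  obtain ⟨j, hj⟩ : ∃ j : ℕ, b - j = a := ⟨(b - a).toNat, by omega⟩
  have := isIso_sigmaGEι K a ha
  have h1 := finite_V T K ρ n b hb hE j
  rw [hj] at h1
  let e : HTρ T (sigmaGE K a) ((sigmaEnd K a).comp ρ) n ≃ₗ[R] HTρ T K ρ n :=
    HTρequiv T (sigmaGEι K a) (fun c => sigmaMap_ι (ρ c) a) n
  exact Module.Finite.equiv e

/-- Hypercohomology of a bounded complex of abelian sheaves with `R`-linear differentials whose terms are coherent
modules on a proper scheme over the noetherian ring `R`. -/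
theorem finite_HdR {X : Scheme.{u}} {R : Type u} [CommRing R] [IsNoetherianRing R]
    [X.Over (Spec (CommRingCat.of R))] [IsProper (X ↘ Spec (CommRingCat.of R))]
    [HasDerivedCategory.{w} (Sheaf (Opens.grothendieckTopology X) AddCommGrpCat.{u})]
    {K : CochainComplex (Sheaf (Opens.grothendieckTopology X) AddCommGrpCat.{u}) ℕ}
    {term : ℕ → X.Modules} {iso : ∀ p : ℕ, K.X p ≅ Coh.toAb (term p)}
    (h : TermwiseLinear (Coh.toGlobal (X ↘ Spec (CommRingCat.of R))) K term iso)
    (hc : ∀ i, Coh.IsCoh (term i)) (N : ℕ) (hN : ∀ i, N ≤ i → IsZero (term i)) (n : ℤ) :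
    Module.Finite R (HTρ (CohCx.freeSheaf (Opens.grothendieckTopology X) (⊤ : X.Opens))
      (K.extend ComplexShape.embeddingUpNat) (scalar h) n) := by
  refine finite_HTρ (CohCx.freeSheaf (Opens.grothendieckTopology X) (⊤ : X.Opens))
    (K.extend ComplexShape.embeddingUpNat) (scalar h) n 0 N (by omega) (K905.HTSch.isZero_extend_neg K)
    (K905.HTSch.isZero_extend_of_le iso N hN) fun i => ?_
  by_cases hi : i < 0
  · have h1 : IsZero ((HomologicalComplex.single _ (ComplexShape.up ℤ) i).obj
        ((K.extend ComplexShape.embeddingUpNat).X i)) :=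
      Functor.map_isZero _ (K905.HTSch.isZero_extend_neg K i hi)
    have : Subsingleton (HTρ (CohCx.freeSheaf (Opens.grothendieckTopology X) (⊤ : X.Opens))
      ((HomologicalComplex.single _ (ComplexShape.up ℤ) i).obj
        ((K.extend ComplexShape.embeddingUpNat).X i)) ((grEnd _ i).comp (scalar h)) n) :=
      HTρ_subsingleton _ _ n (Functor.map_isZero _ h1)
    infer_instance
  · obtain ⟨i, rfl⟩ := Int.eq_ofNat_of_zero_le (not_lt.1 hi)
    by_cases hn : n < i
    · have : Subsingleton (HTρ (CohCx.freeSheaf (Opens.grothendieckTopology X) (⊤ : X.Opens))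
        ((HomologicalComplex.single _ (ComplexShape.up ℤ) (i : ℤ)).obj
          ((K.extend ComplexShape.embeddingUpNat).X i)) ((grEnd _ (i : ℤ)).comp (scalar h)) n) :=
        subsingleton_HT_single _ _ _ _ hn
      infer_instance
    · obtain ⟨m, hm⟩ := Int.eq_ofNat_of_zero_le (show 0 ≤ n - i by omega)
      have h2 := Groth.Agent.S0002.result R X (term i) (hc i) m
      exact Module.Finite.equiv (grLin (K905.HTSch.zIso X) (K.extend ComplexShape.embeddingUpNat) (scalar h)
        (i : ℤ) n m (by omega) (K.extendXIso ComplexShape.embeddingUpNat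
          (ComplexShape.embeddingUpNat_f i) ≪≫ iso i)
        (fun a => Coh.smulAb (term i) (Coh.toGlobal (X ↘ Spec (CommRingCat.of R)) a))
        (fun a => K905.HTSch.scalar_f_comp h i a) (W := Coh.HH X (term i) m) (AddEquiv.refl _)
        (fun a x => rfl)).symm

end K890.NoethFin
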