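import Groth.Agent.DelIll.K890.BcTot
import Groth.Agent.DelIll.K890.NoethFin
import Groth.Agent.Ega3B.AcyclicBC
import Groth.Agent.Fga.PicTanSheaf

/-!
# Generic constancy of the ranks of hypercohomology

`A` a noetherian domain, `X` proper over `A`, `K` a bounded complex of abelian sheaves with `A`-linear differentials
whose terms are coherent modules, flat over `A`.  There are `s ≠ 0` in `A` and `r : ℕ → ℕ` such that for every
`A`-field `B` with `s ≠ 0` in `B` and every base change `K'` of `K` to `X_B` (`IsBc`): `dim_B H^n(X_B, K') = r n`.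
-/

set_option autoImplicit false

universe w w' v u

open CategoryTheory CategoryTheory.Limits AlgebraicGeometry TopologicalSpace Opposite TensorProduct

namespace K890.RankBC

open Groth.Agent.Ega3B Groth.Agent.Ega3B.CombRes K890.CechHT K890.TotMod K890.BcTot Groth.Agent.VarietyB.BCAlg
open Groth.Agent.Fga.PicTanSheaf (sec rs ap)
open KLinDR

attribute [local instance 3000] LocExact.hasSheafify

section Basic

variable {X : Scheme.{u}} {A : Type u} [CommRing A] {f : X ⟶ Spec (CommRingCat.of A)}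
  {K : CochainComplex (Sheaf (Opens.grothendieckTopology X) AddCommGrpCat.{u}) ℕ}
  {term : ℕ → X.Modules} {iso : ∀ p : ℕ, K.X p ≅ Coh.toAb (term p)}
  (h : TermwiseLinear (Coh.toGlobal f) K term iso)

/-- the action of the base ring -/
noncomputable def act : RAct A K := RAct.of (scalarN h)

lemma act_f (r : A) (a : ℕ) : (act h).f r a = scalarEnd (Coh.toGlobal f) term iso r a := rfl

lemma smul_eq (a : ℕ) (W : X.Opens) (r : A) (x : GS (act h) a W) :
    r • x = ap (scalarEnd (Coh.toGlobal f) term iso r a) W x := rfl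

lemma acyclic_of_iso {X : TopCat.{u}} {D : Data X} [HasExt.{w'} (Sheaf (Opens.grothendieckTopology X) AddCommGrpCat.{u})]
    {F F' : Sheaf (Opens.grothendieckTopology X) AddCommGrpCat.{u}}
    (e : F ≅ F') (hF : D.Acyclic F) : D.Acyclic F' := by
  intro k b q
  have h1 := hF k b q
  refine subsingleton_of_forall_eq 0 fun x => ?_
  have h2 : (x.comp (Abelian.Ext.mk₀ e.inv) (add_zero _)).comp (Abelian.Ext.mk₀ e.hom) (add_zero _) = x := by
    rw [Abelian.Ext.comp_assoc_of_third_deg_zero, Abelian.Ext.mk₀_comp_mk₀, e.inv_hom_id,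
      Abelian.Ext.comp_mk₀_id]
  rw [← h2, Subsingleton.elim (x.comp (Abelian.Ext.mk₀ e.inv) (add_zero _)) 0, Abelian.Ext.zero_comp]

lemma acyclic_term (iso : ∀ p : ℕ, K.X p ≅ Coh.toAb (term p)) (D : Data X.toPresheafedSpace.carrier) (hW : ∀ n b, IsAffineOpen (X := X) (D.W n b))
    (hqc : ∀ a, Coh.IsQCoh (term a)) (a : ℕ) : D.Acyclic (K.X a) :=
  acyclic_of_iso (iso a).symm (CombMod.acyclic D (hqc a) hW)

end Basic

section BC

variable {A B : Type u} [CommRing A] [CommRing B] [Algebra A B] {X X' : Scheme.{u}}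
  (f : X ⟶ Spec (CommRingCat.of A)) (f' : X' ⟶ Spec (CommRingCat.of B)) (q : X' ⟶ X)
  {K : CochainComplex (Sheaf (Opens.grothendieckTopology X) AddCommGrpCat.{u}) ℕ}
  {term : ℕ → X.Modules} (iso : ∀ p : ℕ, K.X p ≅ Coh.toAb (term p))
  {K' : CochainComplex (Sheaf (Opens.grothendieckTopology X') AddCommGrpCat.{u}) ℕ}
  {term' : ℕ → X'.Modules} (iso' : ∀ p : ℕ, K'.X p ≅ Coh.toAb (term' p))

/-- `K'` is the base change of `K` (on the sections over affine opens). -/
def IsBc : Prop :=
  ∃ β : ∀ (a : ℕ) (U : X.affineOpens), sec (K.X a) U.1 →+ sec (K'.X a) (q ⁻¹ᵁ U.1),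
    (∀ (a : ℕ) (U V : X.affineOpens) (h : V.1 ≤ U.1) (s : sec (K.X a) U.1),
      β a V (rs _ h s) = rs _ (q.preimage_mono h) (β a U s)) ∧
    (∀ (a : ℕ) (U : X.affineOpens) (x : A) (s : sec (K.X a) U.1),
      β a U (ap (scalarEnd (Coh.toGlobal f) term iso x a) U.1 s) =
        ap (scalarEnd (Coh.toGlobal f') term' iso' (algebraMap A B x) a) (q ⁻¹ᵁ U.1) (β a U s)) ∧
    (∀ (a b : ℕ) (U : X.affineOpens) (s : sec (K.X a) U.1),
      β b U (ap (K.d a b) U.1 s) = ap (K'.d a b) (q ⁻¹ᵁ U.1) (β a U s)) ∧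
    (∀ (a : ℕ) (U : X.affineOpens) [Module A (sec (K.X a) U.1)]
      (_ : ∀ (x : A) (s : sec (K.X a) U.1), x • s = ap (scalarEnd (Coh.toGlobal f) term iso x a) U.1 s)
      (l : B ⊗[A] sec (K.X a) U.1 →+ sec (K'.X a) (q ⁻¹ᵁ U.1))
      (_ : ∀ (x : B) (s : sec (K.X a) U.1),
        l (x ⊗ₜ s) = ap (scalarEnd (Coh.toGlobal f') term' iso' x a) (q ⁻¹ᵁ U.1) (β a U s)),
      Function.Bijective l)

variable {f f' q iso iso'} (h : TermwiseLinear (Coh.toGlobal f) K term iso)
  (h' : TermwiseLinear (Coh.toGlobal f') K' term' iso')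

theorem nonempty_bc (hbc : IsBc f f' q iso iso') (D : Data X.toPresheafedSpace.carrier)
    (hW : ∀ n b, IsAffineOpen (X := X) (D.W n b)) :
    Nonempty (Bc (X' := X'.toPresheafedSpace.carrier) q.base D (act h) (act h')) := by
  obtain ⟨β, h1, h2, h3, h4⟩ := hbc
  let γ : ∀ (a b : ℕ) (i : D.B b), GS (act h) a (D.W b i) →ₛₗ[algebraMap A B]
      GS (act h') a ((Opens.map q.base).obj (D.W b i)) := fun a b i =>
    { toFun := fun x => β a ⟨D.W b i, hW b i⟩ x
      map_add' := fun x y => map_add (β a ⟨D.W b i, hW b i⟩) x y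
      map_smul' := fun r x => h2 a ⟨D.W b i, hW b i⟩ r x }
  refine ⟨⟨γ, ?_, ?_, ?_⟩⟩
  · intro a b i j hij hij' x
    exact h1 a ⟨D.W b i, hW b i⟩ ⟨D.W (b + 1) j, hW (b + 1) j⟩ hij x
  · intro a b i x
    exact h3 a (a + 1) ⟨D.W b i, hW b i⟩ x
  · intro a b i
    exact @h4 a ⟨D.W b i, hW b i⟩ (show Module A (GS (act h) a (D.W b i)) from inferInstance) (fun _ _ => rfl)
      (bc (γ a b i)).toAddMonoidHom fun x s => bc_tmul (γ a b i) x s

end BC

section Rank

variable {A : Type u} [CommRing A] {X : Scheme.{u}} {f : X ⟶ Spec (CommRingCat.of A)}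
  {K : CochainComplex (Sheaf (Opens.grothendieckTopology X) AddCommGrpCat.{u}) ℕ}
  {term : ℕ → X.Modules} {iso : ∀ p : ℕ, K.X p ≅ Coh.toAb (term p)}
  (h : TermwiseLinear (Coh.toGlobal f) K term iso)

/-- The cohomology of the total cochains of an affine datum is the hypercohomology. -/
theorem nonempty_equiv_HT [HasDerivedCategory.{w} (Sheaf (Opens.grothendieckTopology X) AddCommGrpCat.{u})]
    (D : Data X.toPresheafedSpace.carrier) (hD : D.LocGood) (hW : ∀ n b, IsAffineOpen (X := X) (D.W n b))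
    (hqc : ∀ a, Coh.IsQCoh (term a)) (n : ℕ) :
    Nonempty (RingLem.H (dm (act h) D) n ≃ₗ[A]
      HTρ (CohCx.freeSheaf (Opens.grothendieckTopology X) (⊤ : X.Opens)) (K.extend ComplexShape.embeddingUpNat)
        (scalar h) n) :=
  TotMod.nonempty_equiv (act h) hD (acyclic_term iso D hW hqc) n (scalar h) fun _ => rfl

/-- The hypotheses of this file on a complex over a noetherian base ring. -/
structure Good : Prop where
  coh : ∀ i, Coh.IsCoh (term i)
  flat : ∀ (a : ℕ) (U : X.affineOpens), Module.Flat A (GS (act h) a U.1)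
  bdd : ∃ N, ∀ i, N ≤ i → IsZero (term i)

omit h in
lemma exists_datum (X : Scheme.{u}) [CompactSpace X] [X.IsSeparated] :
    ∃ (n : ℕ) (U : Fin n → X.Opens), (⨆ i, U i = ⊤) ∧
      ∀ m b, IsAffineOpen (X := X) ((CubeData.cech (X := X.toPresheafedSpace.carrier) U).W m b) := by
  obtain ⟨n, U, hU, hs⟩ := AcyclicBC.exists_cover X
  exact ⟨n, U, hU, fun m b => hs b.1 b.2.1⟩

lemma isEmpty_B {X : TopCat.{u}} {n : ℕ} (U : Fin n → Opens X) (b : ℕ) (hb : n ≤ b) :
    IsEmpty ((CubeData.cech U).B b) := by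
  refine ⟨fun s => ?_⟩
  have h1 := s.2.2
  have h2 := Finset.card_le_univ s.1
  rw [Fintype.card_fin] at h2
  omega

theorem finite_H [IsNoetherianRing A] [IsProper f] (hg : Good h) (D : Data X.toPresheafedSpace.carrier)
    (hD : D.LocGood) (hW : ∀ n b, IsAffineOpen (X := X) (D.W n b)) (n : ℕ) :
    Module.Finite A (RingLem.H (dm (act h) D) n) := by
  let _ : HasDerivedCategory.{u + 1} (Sheaf (Opens.grothendieckTopology X) AddCommGrpCat.{u}) :=
    HasDerivedCategory.standard _
  let _ : X.Over (Spec (CommRingCat.of A)) := ⟨f⟩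
  have _ : IsProper (X ↘ Spec (CommRingCat.of A)) := ‹IsProper f›
  obtain ⟨N, hN⟩ := hg.bdd
  obtain ⟨e⟩ := nonempty_equiv_HT h D hD hW (fun a => (hg.coh a).1) n
  have h1 : Module.Finite A (HTρ (CohCx.freeSheaf (Opens.grothendieckTopology X) (⊤ : X.Opens))
      (K.extend ComplexShape.embeddingUpNat) (scalar h) n) :=
    K890.NoethFin.finite_HdR (X := X) (R := A) h hg.coh N hN (n : ℤ)
  exact Module.Finite.equiv e.symm

variable (f iso) in
/-- The ranks of the hypercohomology of all base changes to `A`-fields with `s ≠ 0` are given by `r`. -/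
def RankP (s : A) (r : ℕ → ℕ) : Prop :=
  ∀ (B : Type u) [Field B] [Algebra A B], algebraMap A B s ≠ 0 →
      ∀ {X' : Scheme.{u}} {f' : X' ⟶ Spec (CommRingCat.of B)} {q : X' ⟶ X}
        (_ : IsPullback q f' f (Spec.map (CommRingCat.ofHom (algebraMap A B))))
        [HasDerivedCategory.{w} (Sheaf (Opens.grothendieckTopology X') AddCommGrpCat.{u})]
        {K' : CochainComplex (Sheaf (Opens.grothendieckTopology X') AddCommGrpCat.{u}) ℕ}
        {term' : ℕ → X'.Modules} {iso' : ∀ p : ℕ, K'.X p ≅ Coh.toAb (term' p)}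
        (h' : TermwiseLinear (Coh.toGlobal f') K' term' iso') (_ : ∀ i, Coh.IsQCoh (term' i))
        (_ : IsBc f f' q iso iso') (n : ℕ),
        Module.Finite B (HTρ (CohCx.freeSheaf (Opens.grothendieckTopology X') (⊤ : X'.Opens))
          (K'.extend ComplexShape.embeddingUpNat) (scalar h') n) ∧
        Module.finrank B (HTρ (CohCx.freeSheaf (Opens.grothendieckTopology X') (⊤ : X'.Opens))
          (K'.extend ComplexShape.embeddingUpNat) (scalar h') n) = r n

/-- **Generic constancy of the ranks of hypercohomology** (for two universes of derived categories). -/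
theorem exists_rank₂ [IsDomain A] [IsNoetherianRing A] [IsProper f] (hg : Good h) :
    ∃ s : A, s ≠ 0 ∧ ∃ r : ℕ → ℕ, RankP.{w} f iso s r ∧ RankP.{w'} f iso s r := by
  have hsep : X.IsSeparated := (HasAffineProperty.iff_of_isAffine (P := @IsSeparated) (f := f)).mp inferInstance
  have hcpt : CompactSpace X := QuasiCompact.compactSpace_of_compactSpace f
  obtain ⟨n₀, U, hU, hW⟩ := exists_datum X
  obtain ⟨N, hN⟩ := hg.bdd
  have hD := CubeData.cech_locGood (X := X.toPresheafedSpace.carrier) U hU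
  have hK : ∀ a, N ≤ a → IsZero (K.X a) := fun a ha =>
    IsZero.of_iso (Functor.map_isZero (SheafOfModules.toSheaf X.ringCatSheaf) (hN a ha)) (iso a)
  obtain ⟨s, hs, r, hr⟩ := RingLem.exists_rank (d := dm (act h) (CubeData.cech (X := X.toPresheafedSpace.carrier) U))
    (fun p => dm_dm _ hD p) (fun p => flat_Tm _ _ (fun a b i => hg.flat a ⟨_, hW b i⟩) p)
    (fun p => finite_H h hg _ hD hW p) (2 * max n₀ N)
    (fun p hp => subsingleton_Tm _ _ (max n₀ N) (fun b hb => isEmpty_B U b ((le_max_left _ _).trans hb))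
      (fun a ha => hK a ((le_max_right _ _).trans ha)) p hp)
  refine ⟨s, hs, r, ?_, ?_⟩
  · intro B _ _ hB X' f' q sq _ K' term' iso' h' hqc' hbc n
    obtain ⟨S⟩ := nonempty_bc h h' hbc _ hW
    have hq : IsAffineHom q := MorphismProperty.of_isPullback (P := @IsAffineHom) sq.flip inferInstance
    obtain ⟨h1, h2⟩ := hr B hB (d' := dm (act h') (comapD q.base (CubeData.cech (X := X.toPresheafedSpace.carrier) U)))
      S.sig S.sig_dm S.bij_sig n
    obtain ⟨e⟩ := nonempty_equiv_HT h' (comapD q.base (CubeData.cech (X := X.toPresheafedSpace.carrier) U))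
      (comapD_cech_locGood q.base U hU) (fun m b => (hW m b).preimage q) hqc' n
    exact ⟨Module.Finite.equiv e, e.finrank_eq.symm.trans h2⟩
  · intro B _ _ hB X' f' q sq _ K' term' iso' h' hqc' hbc n
    obtain ⟨S⟩ := nonempty_bc h h' hbc _ hW
    have hq : IsAffineHom q := MorphismProperty.of_isPullback (P := @IsAffineHom) sq.flip inferInstance
    obtain ⟨h1, h2⟩ := hr B hB (d' := dm (act h') (comapD q.base (CubeData.cech (X := X.toPresheafedSpace.carrier) U)))
      S.sig S.sig_dm S.bij_sig n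
    obtain ⟨e⟩ := nonempty_equiv_HT h' (comapD q.base (CubeData.cech (X := X.toPresheafedSpace.carrier) U))
      (comapD_cech_locGood q.base U hU) (fun m b => (hW m b).preimage q) hqc' n
    exact ⟨Module.Finite.equiv e, e.finrank_eq.symm.trans h2⟩

end Rank

end K890.RankBC
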