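import Groth.Agent.Ega3B.CombCmp
import Mathlib.Order.Fin.Basic
import Mathlib.Algebra.BigOperators.Fin
import Mathlib.Data.Fin.Parity

/-!
# The full (unordered) Čech datum of a finite family of opens

`full U : Data X` with `B n = (Fin (n + 1) → ι)`, `W n σ = ⨅ j, U (σ j)` and matrix
`m n τ σ = ∑_j (-1)^j [τ ∘ δ_j = σ]`.  It is locally good if `U` covers `X`, and
`(full U).δ n G x σ = ∑_j (-1)^j x (σ ∘ δ_j)` restricted (`full_δ_apply`).
-/

set_option autoImplicit false

universe u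

open CategoryTheory TopologicalSpace Finset Opposite

namespace K890.CechFull

open Groth.Agent.Ega3B.CombRes

variable {ι : Type} [Fintype ι] [DecidableEq ι]

/-- matrix coefficients -/
def mat (n : ℕ) (τ : Fin (n + 2) → ι) (σ : Fin (n + 1) → ι) : ℤ :=
  ∑ j : Fin (n + 2), if τ ∘ j.succAbove = σ then (-1) ^ (j : ℕ) else 0

omit [Fintype ι] in
lemma mat_ne_zero {n : ℕ} {τ : Fin (n + 2) → ι} {σ : Fin (n + 1) → ι} (h : mat n τ σ ≠ 0) :
    ∃ j : Fin (n + 2), τ ∘ j.succAbove = σ := by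
  obtain ⟨j, -, hj⟩ := exists_ne_zero_of_sum_ne_zero h
  exact ⟨j, by by_contra h'; exact hj (if_neg h')⟩

/-- pairing with the matrix, on the small side -/
lemma sum_mat_left {A : Type*} [AddCommGroup A] (n : ℕ) (τ : Fin (n + 2) → ι) (c : (Fin (n + 1) → ι) → A) :
    ∑ σ, mat n τ σ • c σ = ∑ j : Fin (n + 2), (-1 : ℤ) ^ (j : ℕ) • c (τ ∘ j.succAbove) := by
  unfold mat
  simp only [sum_smul]
  rw [sum_comm]
  refine sum_congr rfl fun j _ => ?_
  rw [sum_eq_single (τ ∘ j.succAbove)]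
  · rw [if_pos rfl]
  · intro σ _ hσ
    rw [if_neg (Ne.symm hσ), zero_smul]
  · intro h
    exact absurd (mem_univ _) h

omit [Fintype ι] [DecidableEq ι] in
/-- the alternating sum over the faces squares to zero -/
lemma face_face {A : Type*} [AddCommGroup A] (n : ℕ) (τ : Fin (n + 3) → ι) (c : (Fin (n + 1) → ι) → A) :
    ∑ j : Fin (n + 3), (-1 : ℤ) ^ (j : ℕ) • ∑ i : Fin (n + 2), (-1 : ℤ) ^ (i : ℕ) •
      c ((τ ∘ j.succAbove) ∘ i.succAbove) = 0 := by
  simp only [smul_sum, smul_smul, ← pow_add]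
  rw [← Finset.sum_product', Finset.univ_product_univ]
  refine Finset.sum_involution (fun p _ => (p.1.succAbove p.2, p.2.predAbove p.1)) ?_ ?_ ?_ ?_
  · rintro ⟨i, j⟩ _
    dsimp only
    rw [Fin.neg_one_pow_succAbove_add_predAbove, neg_smul]
    have h : (τ ∘ (i.succAbove j).succAbove) ∘ (j.predAbove i).succAbove =
        (τ ∘ i.succAbove) ∘ j.succAbove := by
      funext a
      exact congrArg τ (Fin.succAbove_succAbove_succAbove_predAbove i j a)
    rw [h, add_neg_cancel]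
  · rintro ⟨i, j⟩ _ _ h
    exact Fin.succAbove_ne i j (congrArg Prod.fst h)
  · intro _ _; exact Finset.mem_univ _
  · rintro ⟨i, j⟩ _
    exact Prod.ext (Fin.succAbove_succAbove_predAbove i j) (Fin.predAbove_predAbove_succAbove i j)

omit [Fintype ι] in
lemma mat_eq (n : ℕ) (τ : Fin (n + 2) → ι) (σ : Fin (n + 1) → ι) :
    mat n τ σ = ∑ j : Fin (n + 2), (-1 : ℤ) ^ (j : ℕ) • (Pi.single σ (1 : ℤ) : (Fin (n + 1) → ι) → ℤ) (τ ∘ j.succAbove) := by
  unfold mat
  refine sum_congr rfl fun j _ => ?_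
  by_cases h : τ ∘ j.succAbove = σ
  · rw [if_pos h, h, Pi.single_eq_same, smul_eq_mul, mul_one]
  · rw [if_neg h, Pi.single_eq_of_ne h, smul_zero]

variable {X : TopCat.{u}} (U : ι → Opens X)

/-- The full Čech datum. -/
def full : Data X where
  B n := Fin (n + 1) → ι
  W _ σ := ⨅ j, U (σ j)
  m n := mat n
  le n τ σ h := by
    obtain ⟨j, rfl⟩ := mat_ne_zero h
    exact le_iInf fun i => iInf_le _ (j.succAbove i)
  e _ := 1
  mm n τ σ := by
    have h := sum_mat_left (n + 1) τ (fun τ' => mat n τ' σ)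
    simp only [smul_eq_mul] at h
    rw [h]
    simp only [mat_eq]
    exact face_face n τ _
  em τ := by
    have h := sum_mat_left 0 τ (fun _ => (1 : ℤ))
    simp only [smul_eq_mul] at h
    rw [h, Fin.sum_univ_two]
    simp

/-- the contracting homotopy -/
def hom (i₀ : ι) {A : Type*} [Zero A] {n : ℕ} (c : (Fin (n + 1) → ι) → A) (τ : Fin (n + 2) → ι) : A :=
  if τ 0 = i₀ then c (Fin.tail τ) else 0

lemma sum_hom (i₀ : ι) {A : Type*} [AddCommGroup A] {n : ℕ} (f : (Fin (n + 2) → ι) → ℤ)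
    (c : (Fin (n + 1) → ι) → A) : ∑ τ, f τ • hom i₀ c τ = ∑ σ, f (Fin.cons i₀ σ) • c σ := by
  rw [← (Fin.consEquiv (fun _ : Fin (n + 2) => ι)).sum_comp, Fintype.sum_prod_type, sum_eq_single i₀]
  · refine sum_congr rfl fun σ _ => ?_
    change f (Fin.cons i₀ σ) • hom i₀ c (Fin.cons i₀ σ) = _
    rw [hom, Fin.cons_zero, if_pos rfl, Fin.tail_cons]
  · intro i _ hi
    refine sum_eq_zero fun σ _ => ?_
    change f (Fin.cons i σ) • hom i₀ c (Fin.cons i σ) = _
    rw [hom, Fin.cons_zero, if_neg hi, smul_zero]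
  · intro h
    exact absurd (mem_univ _) h

omit [Fintype ι] [DecidableEq ι] in
lemma cons_comp_zero (i₀ : ι) {n : ℕ} (σ : Fin (n + 1) → ι) :
    (Fin.cons i₀ σ : Fin (n + 2) → ι) ∘ (0 : Fin (n + 2)).succAbove = σ := by
  funext a
  simp

omit [Fintype ι] [DecidableEq ι] in
lemma cons_comp_succ (i₀ : ι) {n : ℕ} (σ : Fin (n + 2) → ι) (j : Fin (n + 2)) :
    (Fin.cons i₀ σ : Fin (n + 3) → ι) ∘ j.succ.succAbove = Fin.cons i₀ (σ ∘ j.succAbove) := by
  funext a
  refine Fin.cases ?_ (fun b => ?_) a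
  · simp
  · simp

omit [Fintype ι] in
lemma mat_cons (i₀ : ι) {n : ℕ} (σ' : Fin (n + 2) → ι) (σ : Fin (n + 2) → ι) :
    mat (n + 1) (Fin.cons i₀ σ') σ = (if σ' = σ then 1 else 0) - (if σ 0 = i₀ then mat n σ' (Fin.tail σ) else 0) := by
  unfold mat
  rw [Fin.sum_univ_succ, cons_comp_zero, Fin.val_zero, pow_zero, sub_eq_add_neg]
  congr 1
  by_cases h : σ 0 = i₀
  · rw [if_pos h, ← sum_neg_distrib]
    refine sum_congr rfl fun j _ => ?_
    rw [cons_comp_succ]
    have h1 : (Fin.cons i₀ (σ' ∘ j.succAbove) : Fin (n + 2) → ι) = σ ↔ σ' ∘ j.succAbove = Fin.tail σ := by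
      constructor
      · intro h2
        rw [← h2, Fin.tail_cons]
      · intro h2
        rw [h2, ← h, Fin.cons_self_tail]
    by_cases h2 : σ' ∘ j.succAbove = Fin.tail σ
    · rw [if_pos (h1.2 h2), if_pos h2, Fin.val_succ, pow_succ]
      ring
    · rw [if_neg (fun h3 => h2 (h1.1 h3)), if_neg h2, neg_zero]
  · rw [if_neg h, neg_zero]
    refine sum_eq_zero fun j _ => ?_
    rw [cons_comp_succ, if_neg]
    intro h2
    apply h
    rw [← h2, Fin.cons_zero]

omit [Fintype ι] in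
lemma mat_cons_zero (i₀ : ι) (σ' : Fin 1 → ι) (σ : Fin 1 → ι) :
    mat 0 (Fin.cons i₀ σ') σ = (if σ' = σ then 1 else 0) - (if σ 0 = i₀ then 1 else 0) := by
  unfold mat
  rw [Fin.sum_univ_succ, cons_comp_zero, Fin.val_zero, pow_zero, sub_eq_add_neg]
  congr 1
  rw [Fin.sum_univ_one]
  have h1 : (Fin.cons i₀ σ' : Fin 2 → ι) ∘ (Fin.succ (0 : Fin 1)).succAbove = σ ↔ σ 0 = i₀ := by
    constructor
    · intro h
      rw [← h]
      rfl
    · intro h
      funext a
      obtain rfl : a = 0 := Subsingleton.elim _ _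
      rw [h]
      rfl
  by_cases h : σ 0 = i₀
  · rw [if_pos (h1.2 h), if_pos h]
    simp
  · rw [if_neg (fun h3 => h (h1.1 h3)), if_neg h, neg_zero]

lemma sum_ite_smul {A : Type*} [AddCommGroup A] {n : ℕ} (c : (Fin (n + 1) → ι) → A) (σ : Fin (n + 1) → ι) :
    ∑ x, (if x = σ then (1 : ℤ) else 0) • c x = c σ := by
  rw [sum_eq_single σ]
  · rw [if_pos rfl, one_smul]
  · intro σ' _ h
    rw [if_neg h, zero_smul]
  · intro h
    exact absurd (mem_univ _) h

variable {U}

lemma hom_mem {V : Opens X} {i₀ : ι} (hi : V ≤ U i₀) {n : ℕ} {c : (full U).B n → ULift.{u} ℤ}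
    (hc : c ∈ (full U).supp n V) : (hom i₀ c : (full U).B (n + 1) → ULift.{u} ℤ) ∈ (full U).supp (n + 1) V := by
  intro τ hτ
  unfold hom at hτ
  split_ifs at hτ with h
  · have h1 := hc _ hτ
    refine le_iInf fun j => ?_
    refine Fin.cases ?_ (fun k => ?_) j
    · rw [h]
      exact hi
    · exact h1.trans (iInf_le _ k)
  · exact absurd rfl hτ

lemma dFun_hom {i₀ : ι} (n : ℕ) (c : (full U).B (n + 1) → ULift.{u} ℤ) (σ : (full U).B (n + 1)) :
    (full U).dFun (n + 1) (hom i₀ c) σ = c σ - hom i₀ ((full U).dFun n c) σ := by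
  rw [Data.dFun_apply]
  refine (sum_hom i₀ (fun τ => mat (n + 1) τ σ) c).trans ?_
  simp only [mat_cons, sub_smul]
  rw [sum_sub_distrib]
  congr 1
  · exact sum_ite_smul c σ
  · unfold hom
    by_cases h : σ 0 = i₀
    · simp only [if_pos h]
      rfl
    · simp only [if_neg h, zero_smul, sum_const_zero]

lemma dFun_hom_zero {i₀ : ι} (c : (full U).B 0 → ULift.{u} ℤ) (σ : (full U).B 0) :
    (full U).dFun 0 (hom i₀ c) σ = c σ - (if σ 0 = i₀ then (full U).eFun c else 0) := by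
  rw [Data.dFun_apply]
  refine (sum_hom i₀ (fun τ => mat 0 τ σ) c).trans ?_
  simp only [mat_cons_zero, sub_smul]
  rw [sum_sub_distrib]
  congr 1
  · exact sum_ite_smul c σ
  · by_cases h : σ 0 = i₀
    · simp only [if_pos h]
      rfl
    · simp only [if_neg h, zero_smul, sum_const_zero]

lemma full_good {V : Opens X} {i : ι} (hi : V ≤ U i) : (full U).Good V where
  surj := by
    refine ⟨Pi.single (fun _ => i) ⟨1⟩, ?_, ?_⟩
    · intro b hb
      by_cases h : b = fun _ => i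
      · subst h
        exact le_iInf fun _ => hi
      · exact absurd (Pi.single_eq_of_ne h _) hb
    · rw [Data.eFun_apply]
      refine (sum_eq_single (fun _ : Fin 1 => i) ?_ ?_).trans ?_
      · intro b _ hb
        change (1 : ℤ) • (Pi.single (fun _ : Fin 1 => i) ({ down := 1 } : ULift.{u} ℤ) : (Fin 1 → ι) → ULift.{u} ℤ) b = 0
        rw [Pi.single_eq_of_ne hb, smul_zero]
      · intro h
        exact absurd (mem_univ _) h
      · change (1 : ℤ) • (Pi.single (fun _ : Fin 1 => i) ({ down := 1 } : ULift.{u} ℤ) : (Fin 1 → ι) → ULift.{u} ℤ) _ = _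
        rw [one_smul, Pi.single_eq_same]
  exact0 := by
    intro c hc he
    refine ⟨hom i c, hom_mem hi hc, ?_⟩
    funext σ
    rw [dFun_hom_zero, he, ite_self, sub_zero]
  exact := by
    intro n c hc he
    refine ⟨hom i c, hom_mem hi hc, ?_⟩
    funext σ
    rw [dFun_hom, he]
    have h1 : hom i (0 : (full U).B n → ULift.{u} ℤ) σ = 0 := by
      unfold hom
      split_ifs <;> rfl
    rw [h1, sub_zero]

/-- The full Čech complex of a covering is locally exact. -/
lemma full_locGood (hU : ⨆ i, U i = ⊤) : (full U).LocGood := by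
  intro x
  have hx : x ∈ ⨆ i, U i := by rw [hU]; trivial
  obtain ⟨i, hi⟩ := Opens.mem_iSup.1 hx
  exact ⟨U i, hi, fun V' hV' => full_good hV'⟩

lemma face_le {n : ℕ} (τ : Fin (n + 2) → ι) (j : Fin (n + 2)) :
    (full U).W (n + 1) τ ≤ (full U).W n (τ ∘ j.succAbove) :=
  le_iInf fun i => iInf_le _ (j.succAbove i)

/-- the usual formula for the Čech differential -/
lemma full_δ_apply (n : ℕ) {G : (Opens X)ᵒᵖ ⥤ AddCommGrpCat.{u}} (x : (full U).K n G) (τ : Fin (n + 2) → ι) :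
    (full U).δ n G x τ = ∑ j : Fin (n + 2), (-1 : ℤ) ^ (j : ℕ) •
      G.map (homOfLE (face_le (U := U) τ j)).op (x (τ ∘ j.succAbove)) := by
  classical
  rw [Data.δ_apply]
  have h1 := sum_mat_left n τ (fun σ => if h : (full U).W (n + 1) τ ≤ (full U).W n σ then
    G.map (homOfLE h).op (x σ) else (0 : G.obj (op ((full U).W (n + 1) τ))))
  refine Eq.trans ?_ (h1.trans ?_)
  · refine sum_congr rfl fun σ _ => ?_
    by_cases h : (full U).W (n + 1) τ ≤ (full U).W n σ
    · rw [dif_pos h, dif_pos h]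
      rfl
    · rw [dif_neg h, dif_neg h, smul_zero]
  · refine sum_congr rfl fun j _ => ?_
    rw [dif_pos (face_le (U := U) τ j)]

end K890.CechFull
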