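import Groth.Agent.DelIll.K890.TotMod
import Groth.Agent.DelIll.K890.CechFull
import Groth.Agent.Ega3B.CubeData

/-!
# Base change of total Čech cochains

`q : X' → X` continuous, `D` a Čech datum on `X`, `comapD q D` its inverse image.  A base change system (`Bc`):
semilinear maps on the sections over the opens of `D`, compatible with restrictions and differentials, whose
linearizations are bijective.  It gives such maps on total cochains (`exists_sigma`).
-/

set_option autoImplicit false

universe u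

open CategoryTheory CategoryTheory.Limits TopologicalSpace Opposite TensorProduct

namespace K890.BcTot

open Groth.Agent.Ega3B Groth.Agent.Ega3B.CombRes K890.CechHT K890.TotMod Groth.Agent.VarietyB.BCAlg

attribute [local instance 3000] LocExact.hasSheafify

variable {X X' : TopCat.{u}} (q : X' ⟶ X) (D : Data X)

/-- the inverse image of a datum -/
def comapD : Data X' where
  B := D.B
  fin := D.fin
  dec := D.dec
  W n b := (Opens.map q).obj (D.W n b)
  m := D.m
  le n b b' h := fun _ hx => D.le n b b' h hx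
  e := D.e
  mm := D.mm
  em := D.em

lemma comapD_cech {ι : Type} [Fintype ι] [LinearOrder ι] (U : ι → Opens X) :
    comapD q (CubeData.cech U) = CubeData.cech (fun i => (Opens.map q).obj (U i)) := by
  have h1 : ∀ s : Finset ι, (Opens.map q).obj (s.inf U) = s.inf (fun i => (Opens.map q).obj (U i)) := by
    intro s
    classical
    induction s using Finset.induction_on with
    | empty => rfl
    | insert a s ha ih =>
      rw [Finset.inf_insert, Finset.inf_insert, ← ih]
      rfl
  unfold comapD CubeData.cech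
  congr 1
  funext n s
  exact h1 s.1

theorem comapD_cech_locGood {ι : Type} [Fintype ι] [LinearOrder ι] (U : ι → Opens X) (hU : ⨆ i, U i = ⊤) :
    (comapD q (CubeData.cech U)).LocGood := by
  rw [comapD_cech]
  refine CubeData.cech_locGood _ ?_
  have h1 : (Opens.map q).obj (⨆ i, U i) = ⨆ i, (Opens.map q).obj (U i) := by
    ext x
    simp
  rw [← h1, hU]
  rfl

variable {K : CochainComplex (Sheaf (Opens.grothendieckTopology X) AddCommGrpCat.{u}) ℕ}
  {K' : CochainComplex (Sheaf (Opens.grothendieckTopology X') AddCommGrpCat.{u}) ℕ}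
  {R R' : Type u} [CommRing R] [CommRing R'] [Algebra R R'] (ρ : RAct R K) (ρ' : RAct R' K')

/-- a base change system -/
structure Bc where
  /-- the maps -/
  β : ∀ (a b : ℕ) (i : D.B b), GS ρ a (D.W b i) →ₛₗ[algebraMap R R'] GS ρ' a ((Opens.map q).obj (D.W b i))
  res : ∀ (a b : ℕ) (i : D.B b) (j : D.B (b + 1)) (h : D.W (b + 1) j ≤ D.W b i)
    (h' : (Opens.map q).obj (D.W (b + 1) j) ≤ (Opens.map q).obj (D.W b i)) (x : GS ρ a (D.W b i)),
    β a (b + 1) j (resG ρ a h x) = resG ρ' a h' (β a b i x)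
  d : ∀ (a b : ℕ) (i : D.B b) (x : GS ρ a (D.W b i)),
    β (a + 1) b i (dG ρ a (a + 1) _ x) = dG ρ' a (a + 1) _ (β a b i x)
  bij : ∀ (a b : ℕ) (i : D.B b), Function.Bijective (bc (β a b i))

variable {q D ρ ρ'}

/-- the map on cochains of degree `n` -/
noncomputable def Bc.sig (S : Bc q D ρ ρ') (n : ℕ) : Tm ρ D n →ₛₗ[algebraMap R R'] Tm ρ' (comapD q D) n :=
  piS fun p : Ix n => piS fun b : D.B p.1.2 => S.β p.1.1 p.1.2 b

lemma Bc.sig_apply (S : Bc q D ρ ρ') (n : ℕ) (x : Tm ρ D n) (p : Ix n) (b : D.B p.1.2) :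
    S.sig n x p b = S.β p.1.1 p.1.2 b (x p b) := rfl

lemma Bc.bij_sig (S : Bc q D ρ ρ') (n : ℕ) : Function.Bijective (bc (S.sig n)) :=
  bc_piS_bijective _ fun p => bc_piS_bijective _ fun b => S.bij p.1.1 p.1.2 b

lemma hor_sig (S : Bc q D ρ ρ') (n : ℕ) (x : Tm ρ D n) (a b : ℕ) (hab : a + b = n + 1) (i : D.B b) :
    (hor (toT ρ' (comapD q D) n (S.sig n x)) a b hab i : GS ρ' a ((Opens.map q).obj (D.W b i))) =
      S.β a b i (hor (toT ρ D n x) a b hab i : GS ρ a (D.W b i)) := by
  cases a with
  | zero => exact (map_zero (S.β 0 b i)).symm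
  | succ a => exact (S.d a b i (x ⟨(a, b), by omega⟩ i)).symm

open Classical in
lemma ver_sig (S : Bc q D ρ ρ') (n : ℕ) (x : Tm ρ D n) (a b : ℕ) (hab : a + b = n + 1) (i : D.B b) :
    (ver (toT ρ' (comapD q D) n (S.sig n x)) a b hab i : GS ρ' a ((Opens.map q).obj (D.W b i))) =
      S.β a b i (ver (toT ρ D n x) a b hab i : GS ρ a (D.W b i)) := by
  cases b with
  | zero => exact (map_zero (S.β a 0 i)).symm
  | succ b =>
    have e1 : (ver (toT ρ D n x) a (b + 1) hab i : GS ρ a (D.W (b + 1) i)) =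
        ∑ j, if h : D.W (b + 1) i ≤ D.W b j then D.m b i j • resG ρ a h (x ⟨(a, b), by omega⟩ j) else 0 :=
      D.δ_apply b _ i
    have e2 : (ver (toT ρ' (comapD q D) n (S.sig n x)) a (b + 1) hab i :
        GS ρ' a ((Opens.map q).obj (D.W (b + 1) i))) =
        ∑ j, if h : (Opens.map q).obj (D.W (b + 1) i) ≤ (Opens.map q).obj (D.W b j) then
          D.m b i j • resG ρ' a h (S.β a b j (x ⟨(a, b), by omega⟩ j)) else 0 :=
      (comapD q D).δ_apply b _ i
    rw [e1, e2, map_sum]
    refine Finset.sum_congr rfl fun j _ => ?_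
    by_cases h : D.W (b + 1) i ≤ D.W b j
    · have h' : (Opens.map q).obj (D.W (b + 1) i) ≤ (Opens.map q).obj (D.W b j) := fun _ hx => h hx
      rw [dif_pos h, dif_pos h', map_zsmul, S.res a b j i h h']
    · have h0 : D.m b i j = 0 := by
        by_contra h0
        exact h (D.le b i j h0)
      rw [dif_neg h, h0, map_zero]
      split_ifs
      · exact zero_smul _ _
      · rfl

lemma Bc.sig_dm (S : Bc q D ρ ρ') (n : ℕ) (x : Tm ρ D n) :
    dm ρ' (comapD q D) n (S.sig n x) = S.sig (n + 1) (dm ρ D n x) := by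
  funext p i
  obtain ⟨⟨a, b⟩, hab⟩ := p
  have key : ∀ i : D.B b,
      (hor (toT ρ' (comapD q D) n (S.sig n x)) a b hab i : GS ρ' a ((Opens.map q).obj (D.W b i))) +
      ((n + 1 : ℕ) : ℤ).negOnePow • (ver (toT ρ' (comapD q D) n (S.sig n x)) a b hab i :
        GS ρ' a ((Opens.map q).obj (D.W b i))) =
      S.β a b i ((hor (toT ρ D n x) a b hab i : GS ρ a (D.W b i)) +
        ((n + 1 : ℕ) : ℤ).negOnePow • (ver (toT ρ D n x) a b hab i : GS ρ a (D.W b i))) := by
    intro i
    rw [hor_sig, ver_sig, Units.smul_def, Units.smul_def]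
    exact ((map_add (S.β a b i) _ _).trans (congrArg _ (map_zsmul (S.β a b i) _ _))).symm
  exact key i

end K890.BcTot
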