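import Groth.Agent.DelIll.K890.LogRank
import Groth.Prelude.Def_Omega2

/-!
# Degeneration in characteristic zero from degeneration in large characteristics
-/

set_option autoImplicit false

universe w w' v u

open CategoryTheory CategoryTheory.Limits AlgebraicGeometry TopologicalSpace Opposite

namespace K890.LogFinal

open K890.LogRank KLinDR Groth.Agent LogNCD E1Deg Groth.Agent.VarietyA.EulerLES

/-- Degeneration in characteristic `ℓ` for liftable `(X, D)` of dimension `≤ m < ℓ` over algebraically closed fields. -/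
def DegW (r : ℕ) : Prop :=
  ∀ (ℓ : ℕ) [Fact ℓ.Prime] (κ : Type u) [Field κ] [IsAlgClosed κ] [CharP κ ℓ] (X : Scheme.{u})
    [X.Over (Spec (CommRingCat.of κ))] [IsProper (X ↘ Spec (CommRingCat.of κ))]
    [Smooth (X ↘ Spec (CommRingCat.of κ))] (m : ℕ) (_ : m < ℓ) (_ : topologicalKrullDim X ≤ m)
    (Xl : Scheme.{u}) (g : Xl ⟶ Spec (CommRingCat.of (FrobAlg.W2 ℓ κ))) [Smooth g] (i : X ⟶ Xl)
    (_ : IsPullback i (X ↘ Spec (CommRingCat.of κ)) g (Spec.map (CommRingCat.ofHom (FrobAlg.res ℓ κ))))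
    (D : Fin r → X.IdealSheafData) (_ : IsNCD D (X ↘ Spec (CommRingCat.of κ)))
    (Dl : Fin r → Xl.IdealSheafData) (_ : ∀ j, (Dl j).comap i = D j) (_ : ∀ j, Flat ((Dl j).subschemeι ≫ g))
    (Ω' : X.Modules) (d : OmegaSh.Der (X ↘ Spec (CommRingCat.of κ)) Ω') (_ : OmegaSh.IsUniversal d)
    (Λ : LogMod d D) (K : DeRhamSh.Cx (X ↘ Spec (CommRingCat.of κ)) Λ.L (LogNCD.der Λ))
    [HasDerivedCategory.{w} (Sheaf (Opens.grothendieckTopology X) AddCommGrpCat.{u})],
    HyperDegenerates K.KZ (⊤ : X.Opens)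

section Field

variable {k : Type u} [Field k] {X : Scheme.{u}} [X.Over (Spec (CommRingCat.of k))]
  [IsProper (X ↘ Spec (CommRingCat.of k))] [Smooth (X ↘ Spec (CommRingCat.of k))] {r : ℕ}
  {D : Fin r → X.IdealSheafData} (hD : IsNCD D (X ↘ Spec (CommRingCat.of k))) {Ω' : X.Modules}
  {d : OmegaSh.Der (X ↘ Spec (CommRingCat.of k)) Ω'} (hd : OmegaSh.IsUniversal d) {Λ : LogMod d D}
  (K : DeRhamSh.Cx (X ↘ Spec (CommRingCat.of k)) Λ.L (LogNCD.der Λ))
  (h : TermwiseLinear (Coh.toGlobal (X ↘ Spec (CommRingCat.of k))) K.K K.term K.iso)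
  [HasDerivedCategory.{w} (Sheaf (Opens.grothendieckTopology X) AddCommGrpCat.{u})]

include hD hd in
/-- The dimension count for logarithmic de Rham complexes. -/
theorem count (n : ℕ) :
    Module.finrank k (HTρ (CohCx.freeSheaf (Opens.grothendieckTopology X) (⊤ : X.Opens))
      (K.K.extend ComplexShape.embeddingUpNat) (scalar h) n) =
        ∑ a ∈ Finset.range (n + 1), Module.finrank k (Coh.HH X (K.term a) (n - a)) ↔
      ∀ i, DegeneratesAt (CohCx.freeSheaf (Opens.grothendieckTopology X) (⊤ : X.Opens))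
        (K.K.extend ComplexShape.embeddingUpNat) n i := by
  have hcpt : CompactSpace X := QuasiCompact.compactSpace_of_compactSpace (X ↘ Spec (CommRingCat.of k))
  obtain ⟨N, hN⟩ := K904.LogCxZ.exists_isZero_term (K922.Univ.affUniv hd) hD K
  exact (K905.HTSch.count h (fun i m => Groth.Agent.S0002.result k X (K.term i)
    (PerfA.CohSerre.isCoh_of_isFinLocFree (K904.LogCxM.isFinLocFree_term (K922.Univ.affUniv hd) hD K i)) m)
    (N + 1) (fun i hi => hN i (by omega)) n).2.2

include hd hD in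
theorem hyperDegenerates_of_dim (hdim : ∀ n : ℕ, Module.finrank k (HTρ (CohCx.freeSheaf
      (Opens.grothendieckTopology X) (⊤ : X.Opens)) (K.K.extend ComplexShape.embeddingUpNat) (scalar h) n) =
        ∑ a ∈ Finset.range (n + 1), Module.finrank k (Coh.HH X (K.term a) (n - a))) :
    HyperDegenerates K.KZ (⊤ : X.Opens) := by
  intro n i
  by_cases hn : n < 0
  · exact K905.HTAbs.degeneratesAt_of_neg _ _ (K905.HTSch.isZero_extend_neg K.K) n i hn
  · obtain ⟨n, rfl⟩ := Int.eq_ofNat_of_zero_le (not_lt.1 hn)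
    exact (count hD hd K h n).1 (hdim n) i

end Field

theorem degP_of_degW {r : ℕ} (hW : DegW.{w, u} r) : DegP.{w, u} r := by
  intro ℓ _ κ _ _ _ X _ _ _ m hm hdim Xl g _ i hi D hD Dl hDl hfl _
  have hd : OmegaSh.IsUniversal (OmegaSh.dOmega (X ↘ Spec (CommRingCat.of κ))) := S5005.result _
  obtain ⟨Λ⟩ := K922.LogExist.exists_logMod hd hD
  obtain ⟨K⟩ := K904.LogCxK.nonempty_cx (K922.Univ.affUniv hd) Λ hD
  have h := K904.LogCxL.termwiseLinear (K922.Univ.affUniv hd) Λ hD K
  exact ⟨_, _, hd, Λ, K, h, fun n => (count hD hd K h n).2 fun j =>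
    hW ℓ κ X m hm hdim Xl g i hi D hD Dl hDl hfl _ _ hd Λ K n j⟩

section Final

variable {k : Type u} [Field k] [CharZero k] {X : Scheme.{u}} [X.Over (Spec (CommRingCat.of k))]
  [IsProper (X ↘ Spec (CommRingCat.of k))] [Smooth (X ↘ Spec (CommRingCat.of k))]

theorem nonempty_standard (Y : Scheme.{u}) :
    Nonempty (HasDerivedCategory.{u + 1} (Sheaf (Opens.grothendieckTopology Y) AddCommGrpCat.{u})) :=
  ⟨HasDerivedCategory.standard _⟩

/-- The logarithmic case. -/
theorem hyperDegenerates {r : ℕ} (hP : DegP.{u + 1, u} r)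
    {D : Fin r → X.IdealSheafData} (hD : IsNCD D (X ↘ Spec (CommRingCat.of k))) {Ω' : X.Modules}
    {d : OmegaSh.Der (X ↘ Spec (CommRingCat.of k)) Ω'} (hd : OmegaSh.IsUniversal d) {Λ : LogMod d D}
    (K : DeRhamSh.Cx (X ↘ Spec (CommRingCat.of k)) Λ.L (LogNCD.der Λ))
    [HasDerivedCategory.{w} (Sheaf (Opens.grothendieckTopology X) AddCommGrpCat.{u})] :
    HyperDegenerates K.KZ (⊤ : X.Opens) := by
  have h := K904.LogCxL.termwiseLinear (K922.Univ.affUniv hd) Λ hD K
  exact hyperDegenerates_of_dim hD hd K h fun n => (LogRank.main hP nonempty_standard hD hd K h n).2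

/-- The case of no divisor, in dimension form. -/
theorem finrank_eq (hP : DegP.{u + 1, u} 0) (D : DeRhamSh.OmegaCx (X ↘ Spec (CommRingCat.of k)))
    (h : KLinDR.TermwiseLinear (Coh.toGlobal (X ↘ Spec (CommRingCat.of k))) D.K D.term D.iso)
    [HasDerivedCategory.{w} (Sheaf (Opens.grothendieckTopology X) AddCommGrpCat.{u})] (l : ℕ) :
    Module.Finite k (KLinDR.HdR (Coh.toGlobal (X ↘ Spec (CommRingCat.of k))) D h l) ∧
      Module.finrank k (KLinDR.HdR (Coh.toGlobal (X ↘ Spec (CommRingCat.of k))) D h l) =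
        ∑ a ∈ Finset.range (l + 1), Module.finrank k (Coh.HH X (D.term a) (l - a)) :=
  LogRank.main hP nonempty_standard (K904.LogCxT.isNCD_empty _ (Fin.elim0 : Fin 0 → X.IdealSheafData))
    (S5005.result (X ↘ Spec (CommRingCat.of k)))
    (K904.LogCxT.ofCx D (Fin.elim0 : Fin 0 → X.IdealSheafData)) h l

/-- The case of no divisor, as an additive isomorphism. -/
theorem nonempty_addEquiv (hP : DegP.{u + 1, u} 0) (D : DeRhamSh.OmegaCx (X ↘ Spec (CommRingCat.of k)))
    [HasDerivedCategory.{w} (Sheaf (Opens.grothendieckTopology X) AddCommGrpCat.{u})]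
    (Om : ℕ → X.Modules) (hOm : ∀ a, ExtPow.IsExtPow a (Omega.sheaf (X ↘ Spec (CommRingCat.of k))) (Om a))
    (l : ℕ) :
    Nonempty (DeRhamSh.HdR D (l : ℤ) ≃+
      (Fin (∑ a ∈ Finset.range (l + 1), Module.finrank k (Coh.HH X (Om a) (l - a))) → k)) := by
  have h := K904.LogCxT.termwiseLinear_univ (S5005.result (X ↘ Spec (CommRingCat.of k))) D
  obtain ⟨h1, h2⟩ := finrank_eq hP D h l
  have h3 : ∑ a ∈ Finset.range (l + 1), Module.finrank k (Coh.HH X (Om a) (l - a)) =
      ∑ a ∈ Finset.range (l + 1), Module.finrank k (Coh.HH X (D.term a) (l - a)) := by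
    refine Finset.sum_congr rfl fun a _ => ?_
    obtain ⟨c⟩ := Groth.Agent.Sga67.TensorOps.nonempty_iso_of_isExtPow (Iso.refl _) (hOm a) (D.isExtPow a)
    exact (equivA k c (l - a)).finrank_eq
  rw [h3, ← h2]
  exact ⟨(KLinDR.toHdRU D h l ⊤).symm.trans (Module.finBasis k _).equivFun.toAddEquiv⟩

end Final

end K890.LogFinal
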