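import Groth.Agent.DelIll.K890.LogRank
import Groth.Agent.DelIll.K905.Band

/-!
# The degeneration in dimension `< ℓ` without divisor (Deligne–Illusie), universe-polymorphic
-/

set_option autoImplicit false

universe w u

open CategoryTheory CategoryTheory.Limits AlgebraicGeometry TopologicalSpace Opposite

namespace K890.NoDiv

open K890.LogRank KLinDR Groth.Agent LogNCD E1Deg K905 K905.GeoMain K905.GeoUp K905.GeoPhi K905.SysP K905.SheafKos

/-- Decomposition of windows (`K905.GeoMain.decomp` for any universe of the derived category). -/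
theorem decomp {p : ℕ} [hp : Fact p.Prime] {X Xl S : Scheme.{u}} {f : X ⟶ S} {i : X ⟶ Xl}
    {Ω' : X.Modules} {δ : OmegaSh.Der f Ω'} (D : DeRhamSh.Cx f Ω' δ)
    (hi : Topology.IsOpenEmbedding i) (hp0 : ∀ U : X.Opens, ((p : ℕ) : Γ(X, U)) = 0)
    (hcov : ∀ (U : Opens X) (x : X), x ∈ U → ∃ V ∈ chs hi hp0 δ, x ∈ V ∧ V ≤ U)
    [HasDerivedCategory.{w} (Sheaf (Opens.grothendieckTopology ↥X) AddCommGrpCat.{u})]
    (a b : ℤ) (hab : b + 2 ≤ a + p ∨ b < p) :
    Nonempty ((DerivedCategory.TStructure.t.truncGELE a b).obj (DerivedCategory.Q.obj D.KZ) ≅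
      ⨁ (fun j : Finset.Icc a b =>
        (DerivedCategory.singleFunctor (Sheaf (Opens.grothendieckTopology ↥X) AddCommGrpCat.{u}) j.1).obj
          (D.KZ.homology j.1))) := by
  refine Decomp.complex D.K a b fun j haj hjb => ?_
  refine ⟨shC (PC (sys p hi hp0) j), shHom hcov (bm D hi hp0 j),
    fun m ham hmj => ?_, GeoMain.quasiIsoAt D hi hp0 hcov j⟩
  exact GeoMain.exactAt hi hp0 hcov j m hmj (by omega)

/-- **Degeneration in dimension `< ℓ` without divisor.** -/
theorem degP_zero : DegP.{w, u} 0 := by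
  intro ℓ _ κ _ _ _ X _ _ _ m hm hdim Xl g _ i hi D hD Dl hDl hfl _
  have hperf : PerfectRing κ ℓ := inferInstance
  have hd : OmegaSh.IsUniversal (OmegaSh.dOmega (X ↘ Spec (CommRingCat.of κ))) := S5005.result _
  obtain ⟨K⟩ := K904.LogCxT.nonempty_cx_univ hd
  have h := K904.LogCxT.termwiseLinear_univ hd K
  refine ⟨_, _, hd, K904.LogCxT.triv _ D, K904.LogCxT.ofCx K D, h, fun n => ?_⟩
  have hcov := fun U x hx => CartCov.exists_isC ℓ hd U x hx
  have hfin := FinSch.finite_HH hd K
  have hN : ∀ i, ℓ ≤ i → IsZero (K.term i) := fun i hi =>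
    FinSch.isZero_term _ hd K m hdim i (by omega)
  refine (Degen.finrank_eq K hcov h hfin ℓ hN (fun j n hj hjn => ?_) n).2
  refine Band.Sj_of_vanishing K hcov h hfin (a := 0) (by omega)
    (decomp K (K905.GeoUp.isOpenEmbedding hi) (K905.GeoCov.natCast_eq_zero ℓ κ X)
      (K905.GeoCov.exists_isCh hi hd _ _) _ _ (Or.inr (by omega))) fun l hl => by omega

end K890.NoDiv
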