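import Groth.Agent.Pic13.H943.BetaAlg
import Groth.Agent.FlatA.GenericFree2
import Mathlib.LinearAlgebra.Dimension.Constructions
import Mathlib.LinearAlgebra.Dimension.Free
import Mathlib.RingTheory.TensorProduct.Free
import Mathlib.RingTheory.Flat.Localization

/-!
# Cohomology of bounded flat complexes over a domain is generically free and commutes with base change

`exists_rank`: `A` a domain, `C` a bounded complex of flat `A`-modules with finite cohomology.  There are `s ≠ 0`
and integers `r p` such that for every field `B` over `A` in which `s` is not zero, and every model `C'` of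
`B ⊗ C`, `dim_B H^p(C') = r p`.
-/

set_option autoImplicit false
universe u
open TensorProduct

namespace K890.RingLem

open Groth.Agent.VarietyB.BCAlg Groth.Agent.Ega3B Groth.Agent.Pic13.H943.BetaAlg Groth.Agent.FlatA.GenericFree

/-- cohomology -/
abbrev H {A : Type u} [CommRing A] {C : ℕ → Type u} [∀ n, AddCommGroup (C n)]
    [∀ n, Module A (C n)] (d : ∀ n, C n →ₗ[A] C (n + 1)) (p : ℕ) : Type u :=
  LinearMap.ker (d p) ⧸ FlatCxB.bz d p

section Flat

variable {A : Type u} [CommRing A] {C : ℕ → Type u} [∀ n, AddCommGroup (C n)]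
  [∀ n, Module A (C n)] {d : ∀ n, C n →ₗ[A] C (n + 1)}
  (hd : ∀ p, d (p + 1) ∘ₗ d p = 0) (N : Type u) [AddCommGroup N] [Module A N] [Module.Flat A N]

lemma exists_of_lTensor_eq_zero (p : ℕ) (x : N ⊗[A] C p) (hx : (d p).lTensor N x = 0) :
    ∃ z, (LinearMap.ker (d p)).subtype.lTensor N z = x := by
  have h1 : Function.Exact (LinearMap.ker (d p)).subtype (d p) := by
    rw [LinearMap.exact_iff, Submodule.range_subtype]
  exact (Module.Flat.lTensor_exact N h1 x).1 hx

lemma lTensor_ker_injective (p : ℕ) : Function.Injective ((LinearMap.ker (d p)).subtype.lTensor N) :=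
  Module.Flat.lTensor_preserves_injective_linearMap _ (Submodule.subtype_injective _)

include hd in
lemma lTensor_mkQ_eq_zero_iff (p : ℕ) (z : N ⊗[A] LinearMap.ker (d (p + 1))) :
    (FlatCxB.bz d (p + 1)).mkQ.lTensor N z = 0 ↔
      ∃ y, (d p).lTensor N y = (LinearMap.ker (d (p + 1))).subtype.lTensor N z := by
  rw [lTensor_exact N (FlatCxB.exact_bToZ hd (p + 1)) (Submodule.mkQ_surjective _) z, Set.mem_range]
  have h1 : (d p) = (LinearMap.ker (d (p + 1))).subtype ∘ₗ FlatCxB.bToZ hd (p + 1) ∘ₗ FlatCxB.toB d p := rfl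
  constructor
  · rintro ⟨w, rfl⟩
    obtain ⟨y, rfl⟩ := LinearMap.lTensor_surjective N (FlatCxB.toB_surjective p) w
    refine ⟨y, ?_⟩
    rw [h1, LinearMap.lTensor_comp, LinearMap.lTensor_comp]
    rfl
  · rintro ⟨y, hy⟩
    refine ⟨(FlatCxB.toB d p).lTensor N y, lTensor_ker_injective N (p + 1) ?_⟩
    rw [← hy, h1, LinearMap.lTensor_comp, LinearMap.lTensor_comp]
    rfl

include hd in
lemma lTensor_mkQ_eq_zero_iff_zero (z : N ⊗[A] LinearMap.ker (d 0)) :
    (FlatCxB.bz d 0).mkQ.lTensor N z = 0 ↔ (LinearMap.ker (d 0)).subtype.lTensor N z = 0 := by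
  rw [lTensor_exact N (FlatCxB.exact_bToZ hd 0) (Submodule.mkQ_surjective _) z, Set.mem_range]
  constructor
  · rintro ⟨w, rfl⟩
    have : Subsingleton (FlatCxB.bdry d 0) := inferInstanceAs (Subsingleton (⊥ : Submodule A (C 0)))
    have h2 : FlatCxB.bToZ hd 0 = 0 := by
      ext x
      rw [Subsingleton.elim x 0]
      simp
    rw [h2, LinearMap.lTensor_zero]
    simp
  · intro h
    refine ⟨0, ?_⟩
    rw [map_zero]
    exact (lTensor_ker_injective N 0 (h.trans (map_zero _).symm)).symm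

variable {B : Type u} [CommRing B] [Algebra A B] [Module.Flat A B] {C' : ℕ → Type u} [∀ n, AddCommGroup (C' n)]
  [∀ n, Module B (C' n)] {d' : ∀ n, C' n →ₗ[B] C' (n + 1)}
  (s : ∀ n, C n →ₛₗ[algebraMap A B] C' n) (hs : ∀ n x, d' n (s n x) = s (n + 1) (d n x))
  (hbc : ∀ n, Function.Bijective (bc (s n)))

include hd hbc in
theorem bijective_of_map_flat (p : ℕ) {H H' : Type u} [AddCommGroup H] [Module A H] [AddCommGroup H'] [Module B H']
    (θ : LinearMap.ker (d p) →ₗ[A] H) (hθ : Function.Surjective θ)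
    (hθ0 : ∀ z, θ z = 0 ↔ z ∈ FlatCxB.bz d p)
    (θ' : LinearMap.ker (d' p) →ₗ[B] H') (hθ' : Function.Surjective θ')
    (hθ'0 : ∀ z, θ' z = 0 ↔ z ∈ FlatCxB.bz d' p)
    (β : H →ₛₗ[algebraMap A B] H') (hβ : ∀ z, β (θ z) = θ' (sZ s hs p z)) :
    Function.Bijective (bc β) := by
  have h1 : ∀ x, θ' (bc (sZ s hs p) x) = bc β (θ.lTensor B x) :=
    bc_comm (sZ s hs p) β θ θ' fun z => (hβ z).symm
  have h2 : ∀ x, (LinearMap.ker (d' p)).subtype (bc (sZ s hs p) x) =
      bc (s p) ((LinearMap.ker (d p)).subtype.lTensor B x) :=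
    bc_comm (sZ s hs p) (s p) (LinearMap.ker (d p)).subtype (LinearMap.ker (d' p)).subtype fun z => rfl
  constructor
  · rw [injective_iff_map_eq_zero]
    intro x hx
    obtain ⟨z, rfl⟩ := LinearMap.lTensor_surjective B hθ x
    rw [← h1, hθ'0, FlatCxB.mem_bz] at hx
    rw [FlatCxB.lTensor_eq_zero_iff θ hθ hθ0]
    have h3 : (bc (sZ s hs p) z : C' p) = bc (s p) ((LinearMap.ker (d p)).subtype.lTensor B z) := h2 z
    cases p with
    | zero =>
      rw [lTensor_mkQ_eq_zero_iff_zero hd B]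
      have h4 : (bc (sZ s hs 0) z : C' 0) = 0 := (Submodule.mem_bot B).mp hx
      apply (hbc 0).1
      rw [← h3, h4, map_zero]
    | succ n =>
      rw [lTensor_mkQ_eq_zero_iff hd B]
      obtain ⟨y, hy⟩ := hx
      obtain ⟨w, rfl⟩ := (hbc n).2 y
      refine ⟨w, (hbc (n + 1)).1 ?_⟩
      rw [← bc_comm (s n) (s (n + 1)) (d n) (d' n) (hs n), hy, h3]
  · intro y
    obtain ⟨y, rfl⟩ := hθ' y
    obtain ⟨x, hx⟩ := (hbc p).2 y.1
    have h4 : (d p).lTensor B x = 0 := (hbc (p + 1)).1 (by
      rw [← bc_comm (s p) (s (p + 1)) (d p) (d' p) (hs p), hx, map_zero]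
      exact y.2)
    obtain ⟨z, hz⟩ := exists_of_lTensor_eq_zero B p x h4
    refine ⟨θ.lTensor B z, ?_⟩
    rw [← h1]
    congr 1
    apply Subtype.ext
    change (LinearMap.ker (d' p)).subtype (bc (sZ s hs p) z) = _
    rw [h2, hz, hx]

include hs hd hbc in
/-- Flat base change of cohomology. -/
theorem nonempty_equiv_flat (p : ℕ) : Nonempty (B ⊗[A] H d p ≃ₗ[B] H d' p) := by
  obtain ⟨β, hβ⟩ := exists_map s hs p (FlatCxB.bz d p).mkQ (Submodule.mkQ_surjective _)
    (fun z => Submodule.Quotient.mk_eq_zero _) (FlatCxB.bz d' p).mkQ (fun z => Submodule.Quotient.mk_eq_zero _)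
  exact ⟨LinearEquiv.ofBijective (bc β) (bijective_of_map_flat hd s hs hbc p _ (Submodule.mkQ_surjective _)
    (fun z => Submodule.Quotient.mk_eq_zero _) _ (Submodule.mkQ_surjective _)
    (fun z => Submodule.Quotient.mk_eq_zero _) β hβ)⟩

end Flat

section Main

variable {A : Type u} [CommRing A] {C : ℕ → Type u} [∀ n, AddCommGroup (C n)]
  [∀ n, Module A (C n)] {d : ∀ n, C n →ₗ[A] C (n + 1)}

/-- the tautological semilinear map -/
noncomputable def inc (B : Type u) [CommRing B] [Algebra A B] (M : Type u) [AddCommGroup M] [Module A M] :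
    M →ₛₗ[algebraMap A B] B ⊗[A] M where
  toFun m := 1 ⊗ₜ m
  map_add' := TensorProduct.tmul_add 1
  map_smul' a m := by
    rw [TensorProduct.tmul_smul, algebraMap_smul]

lemma bc_inc (B : Type u) [CommRing B] [Algebra A B] (M : Type u) [AddCommGroup M] [Module A M] :
    (bc (inc B M) : B ⊗[A] M →ₗ[B] B ⊗[A] M) = LinearMap.id := by
  ext m
  simp [inc]

section Ext

variable {R' B : Type u} [CommRing R'] [Algebra A R'] [CommRing B] [Algebra A B] [Algebra R' B]
  [IsScalarTower A R' B] {M M' : Type u} [AddCommGroup M] [Module A M] [AddCommGroup M'] [Module B M']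

/-- extension of a semilinear map -/
noncomputable def extS (σ : M →ₛₗ[algebraMap A B] M') : R' ⊗[A] M →ₛₗ[algebraMap R' B] M' :=
  letI : Module R' M' := Module.compHom M' (algebraMap R' B)
  let σ' : M →ₛₗ[algebraMap A R'] M' :=
    { toFun := σ
      map_add' := map_add σ
      map_smul' := fun a m => by
        rw [map_smulₛₗ, IsScalarTower.algebraMap_apply A R' B]
        rfl }
  { toFun := bc σ'
    map_add' := map_add (bc σ')
    map_smul' := fun r x => map_smul (bc σ') r x }

lemma extS_tmul (σ : M →ₛₗ[algebraMap A B] M') (r : R') (m : M) :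
    extS σ (r ⊗ₜ[A] m) = algebraMap R' B r • σ m := by
  let _ : Module R' M' := Module.compHom M' (algebraMap R' B)
  exact bc_tmul _ r m

lemma bijective_extS (σ : M →ₛₗ[algebraMap A B] M') (h : Function.Bijective (bc σ)) :
    Function.Bijective (bc (extS (R' := R') σ)) := by
  have h1 : ∀ x, bc (extS (R' := R') σ) x = bc σ (AlgebraTensorModule.cancelBaseChange A R' B B M x) := by
    intro x
    induction x with
    | zero => simp
    | add x y hx hy => simp only [map_add, hx, hy]
    | tmul b x =>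
      induction x with
      | zero => simp
      | add x y hx hy => simp only [map_add, TensorProduct.tmul_add, hx, hy]
      | tmul r m =>
        rw [bc_tmul, extS_tmul, AlgebraTensorModule.cancelBaseChange_tmul, bc_tmul, smul_smul, Algebra.smul_def,
          mul_comm]
  have h2 : (bc (extS (R' := R') σ) : _ → _) = bc σ ∘ (AlgebraTensorModule.cancelBaseChange A R' B B M) :=
    funext h1
  rw [h2]
  exact h.comp (AlgebraTensorModule.cancelBaseChange A R' B B M).bijective

end Ext

lemma exists_freeAway [IsDomain A] (hfin : ∀ p, Module.Finite A (H d p)) (m : ℕ) :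
    ∃ s : A, s ≠ 0 ∧ ∀ p, p < m → FreeAway A (H d p) s := by
  have h : ∀ p, ∃ f : A, f ≠ 0 ∧ FreeAway A (H d p) f := fun p => by
    have := hfin p
    exact exists_freeAway_of_finite (H d p)
  choose f hf hf' using h
  refine ⟨∏ p ∈ Finset.range m, f p, Finset.prod_ne_zero_iff.2 fun p _ => hf p, fun p hp => ?_⟩
  exact (hf' p).of_dvd (Finset.dvd_prod_of_mem f (Finset.mem_range.2 hp))

variable (d) in
/-- the localised complex -/
noncomputable def dB (B : Type u) [CommRing B] [Algebra A B] (n : ℕ) : B ⊗[A] C n →ₗ[B] B ⊗[A] C (n + 1) :=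
  (d n).baseChange B

lemma dB_dB (hd : ∀ p, d (p + 1) ∘ₗ d p = 0) (B : Type u) [CommRing B] [Algebra A B] (p : ℕ) :
    dB d B (p + 1) ∘ₗ dB d B p = 0 := by
  rw [dB, dB, ← LinearMap.baseChange_comp, hd, LinearMap.baseChange_zero]

theorem rank_of_bc (hd : ∀ p, d (p + 1) ∘ₗ d p = 0) (hC : ∀ p, Module.Flat A (C p))
    (hF : ∀ q, Module.Free A (H d q) ∧ Module.Finite A (H d q)) (m : ℕ) (hm : ∀ p, m ≤ p → Subsingleton (C p))
    (B : Type u) [Field B] [Algebra A B]
    {C' : ℕ → Type u} [∀ n, AddCommGroup (C' n)] [∀ n, Module B (C' n)] {d' : ∀ n, C' n →ₗ[B] C' (n + 1)}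
    (σ : ∀ n, C n →ₛₗ[algebraMap A B] C' n) (hσ : ∀ n x, d' n (σ n x) = σ (n + 1) (d n x))
    (hbc : ∀ n, Function.Bijective (bc (σ n))) (p : ℕ) :
    Module.Finite B (H d' p) ∧ Module.finrank B (H d' p) = Module.finrank A (H d p) := by
  have hH : ∀ q, Module.Flat A (H d q) := fun q => by
    have := (hF q).1
    infer_instance
  obtain ⟨β, -, hβ⟩ := exists_beta (d := d) σ hσ hd hC hH m
    hm hbc p (H := H d p) (H' := H d' p)
    (FlatCxB.bz d p).mkQ (Submodule.mkQ_surjective _) (fun z => Submodule.Quotient.mk_eq_zero _)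
    (FlatCxB.bz d' p).mkQ (Submodule.mkQ_surjective _) (fun z => Submodule.Quotient.mk_eq_zero _)
  let e := LinearEquiv.ofBijective (bc β) hβ
  have h3 := (hF p).1
  have h4 := (hF p).2
  have h5 : Nontrivial A := (algebraMap A B).domain_nontrivial
  exact ⟨Module.Finite.equiv e, by rw [← e.finrank_eq, Module.finrank_baseChange]⟩

theorem free_dB (hd : ∀ p, d (p + 1) ∘ₗ d p = 0) (hfin : ∀ p, Module.Finite A (H d p)) (m : ℕ)
    (hm : ∀ p, m ≤ p → Subsingleton (C p)) (s : A) (hfree : ∀ p, p < m → FreeAway A (H d p) s)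
    (R' : Type u) [CommRing R'] [Algebra A R'] [IsLocalization.Away s R'] (q : ℕ) :
    Module.Free R' (H (dB d R') q) ∧ Module.Finite R' (H (dB d R') q) := by
  have hflat : Module.Flat A R' := IsLocalization.flat R' (Submonoid.powers s)
  by_cases hq : q < m
  · obtain ⟨e⟩ := nonempty_equiv_flat (B := R') (d' := dB d R') hd (fun n => inc R' (C n))
      (fun n x => by simp [inc, dB]) (fun n => by rw [bc_inc]; exact Function.bijective_id) q
    have h1 : Module.Free R' (R' ⊗[A] H d q) := (hfree q hq).free_tensor R'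
    have h2 := hfin q
    have h3 : Module.Finite R' (R' ⊗[A] H d q) := inferInstance
    exact ⟨Module.Free.of_equiv e, Module.Finite.equiv e⟩
  · have h0 := hm q (by omega)
    have h1 : Subsingleton (R' ⊗[A] C q) := inferInstance
    have h2 : Subsingleton (H (dB d R') q) := inferInstance
    exact ⟨Module.Free.of_subsingleton R' _, inferInstance⟩

lemma extS_dB {R' B : Type u} [CommRing R'] [Algebra A R'] [CommRing B] [Algebra A B] [Algebra R' B]
    [IsScalarTower A R' B] {C' : ℕ → Type u} [∀ n, AddCommGroup (C' n)] [∀ n, Module B (C' n)]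
    {d' : ∀ n, C' n →ₗ[B] C' (n + 1)}
    (σ : ∀ n, C n →ₛₗ[algebraMap A B] C' n) (hσ : ∀ n x, d' n (σ n x) = σ (n + 1) (d n x)) (n : ℕ)
    (x : R' ⊗[A] C n) : d' n (extS (R' := R') (σ n) x) = extS (σ (n + 1)) (dB d R' n x) := by
  induction x with
  | zero => simp
  | add x y hx hy => simp only [map_add, hx, hy]
  | tmul r y => rw [extS_tmul, map_smul, hσ, dB, LinearMap.baseChange_tmul, extS_tmul]

theorem rank_of_away (hd : ∀ p, d (p + 1) ∘ₗ d p = 0) (hC : ∀ p, Module.Flat A (C p))
    (hfin : ∀ p, Module.Finite A (H d p)) (m : ℕ) (hm : ∀ p, m ≤ p → Subsingleton (C p))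
    (s : A) (hfree : ∀ p, p < m → FreeAway A (H d p) s)
    (R' : Type u) [CommRing R'] [Algebra A R'] [IsLocalization.Away s R']
    (B : Type u) [Field B] [Algebra A B] [Algebra R' B] [IsScalarTower A R' B]
    {C' : ℕ → Type u} [∀ n, AddCommGroup (C' n)] [∀ n, Module B (C' n)] {d' : ∀ n, C' n →ₗ[B] C' (n + 1)}
    (σ : ∀ n, C n →ₛₗ[algebraMap A B] C' n) (hσ : ∀ n x, d' n (σ n x) = σ (n + 1) (d n x))
    (hbc : ∀ n, Function.Bijective (bc (σ n))) (p : ℕ) :
    Module.Finite B (H d' p) ∧ Module.finrank B (H d' p) = Module.finrank R' (H (dB d R') p) := by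
  refine rank_of_bc (d := dB d R') (dB_dB hd R') (fun q => ?_) (free_dB hd hfin m hm s hfree R') m (fun q hq => ?_)
    B (fun n => extS (R' := R') (σ n)) (extS_dB σ hσ) (fun n => bijective_extS (σ n) (hbc n)) p
  · have := hC q
    infer_instance
  · have := hm q hq
    infer_instance

theorem exists_rank [IsDomain A] (hd : ∀ p, d (p + 1) ∘ₗ d p = 0) (hC : ∀ p, Module.Flat A (C p))
    (hfin : ∀ p, Module.Finite A (H d p)) (m : ℕ) (hm : ∀ p, m ≤ p → Subsingleton (C p)) :
    ∃ s : A, s ≠ 0 ∧ ∃ r : ℕ → ℕ, ∀ (B : Type u) [Field B] [Algebra A B], algebraMap A B s ≠ 0 →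
      ∀ {C' : ℕ → Type u} [∀ n, AddCommGroup (C' n)] [∀ n, Module B (C' n)] {d' : ∀ n, C' n →ₗ[B] C' (n + 1)}
        (σ : ∀ n, C n →ₛₗ[algebraMap A B] C' n) (_ : ∀ n x, d' n (σ n x) = σ (n + 1) (d n x))
        (_ : ∀ n, Function.Bijective (bc (σ n))) (p : ℕ),
        Module.Finite B (H d' p) ∧ Module.finrank B (H d' p) = r p := by
  obtain ⟨s, hs, hfree⟩ := exists_freeAway hfin m
  refine ⟨s, hs, fun p => Module.finrank (Localization.Away s) (H (dB d (Localization.Away s)) p), ?_⟩
  intro B _ _ hB C' _ _ d' σ hσ hbc p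
  let _ : Algebra (Localization.Away s) B :=
    (IsLocalization.Away.lift (S := Localization.Away s) s (g := algebraMap A B) (isUnit_iff_ne_zero.2 hB)).toAlgebra
  have hT : IsScalarTower A (Localization.Away s) B := IsScalarTower.of_algebraMap_eq fun a =>
    (IsLocalization.Away.lift_eq (S := Localization.Away s) s (isUnit_iff_ne_zero.2 hB) a).symm
  exact rank_of_away hd hC hfin m hm s hfree (Localization.Away s) B σ hσ hbc p

end Main

end K890.RingLem
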