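import Groth.Agent.DelIll.K890.CechHT
import Groth.Agent.DelIll.K890.RingLem
import Mathlib.RingTheory.Flat.Basic
import Mathlib.LinearAlgebra.DirectSum.Finsupp

/-!
# Total cochains as modules over a ring acting on the complex

`ρ : RAct R K` (a ring map `R →+* End K`).  `GS ρ a W` sections of `K^a` over `W` as an `R`-module, `Tm ρ D n` total
cochains, `dm` the differential; `nonempty_equiv`: the cohomology of `Tm ρ D` is the hypercohomology `HTρ`,
`R`-linearly.
-/

set_option autoImplicit false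

universe w w' v u

open CategoryTheory CategoryTheory.Limits TopologicalSpace Opposite TensorProduct

namespace K890.TotMod

open Groth.Agent.Ega3B Groth.Agent.Ega3B.CombRes K890.CechHT Groth.Agent.VarietyB.BCAlg

attribute [local instance 3000] LocExact.hasSheafify

section Act

variable {C : Type*} [Category C] [Preadditive C]

/-- an action of `R` on a complex -/
def RAct (R : Type*) [CommRing R] (K : CochainComplex C ℕ) : Type _ := R →+* End K

variable {R : Type*} [CommRing R] {K : CochainComplex C ℕ}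

namespace RAct

/-- from a ring map -/
def of (ρ : R →+* End K) : RAct R K := ρ

/-- the ring map -/
def toHom (ρ : RAct R K) : R →+* End K := ρ

/-- the endomorphism given by a scalar -/
def map (ρ : RAct R K) (r : R) : K ⟶ K := ρ.toHom r

/-- in degree `a` -/
def f (ρ : RAct R K) (r : R) (a : ℕ) : K.X a ⟶ K.X a := (ρ.map r).f a

variable (ρ : RAct R K)

lemma f_one (a : ℕ) : ρ.f 1 a = 𝟙 _ := by
  change HomologicalComplex.Hom.f (A := K) (B := K) (ρ.toHom 1) a = _
  rw [map_one]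
  rfl

lemma f_zero (a : ℕ) : ρ.f 0 a = 0 := by
  change HomologicalComplex.Hom.f (A := K) (B := K) (ρ.toHom 0) a = _
  rw [map_zero]
  rfl

lemma f_mul (r s : R) (a : ℕ) : ρ.f (r * s) a = ρ.f s a ≫ ρ.f r a := by
  change HomologicalComplex.Hom.f (A := K) (B := K) (ρ.toHom (r * s)) a = _
  rw [map_mul]
  rfl

lemma f_add (r s : R) (a : ℕ) : ρ.f (r + s) a = ρ.f r a + ρ.f s a := by
  change HomologicalComplex.Hom.f (A := K) (B := K) (ρ.toHom (r + s)) a = _
  rw [map_add]
  rfl

lemma comm (r : R) (a a' : ℕ) : ρ.f r a ≫ K.d a a' = K.d a a' ≫ ρ.f r a' :=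
  (ρ.map r).comm a a'

end RAct

end Act

section Lin

open E1Deg KLinDR

variable {A : Type u} [Category.{v} A] [Abelian A] [HasDerivedCategory.{w} A]

/-- An additive map onto `HT` compatible with scalars, as a linear equivalence. -/
theorem mkLin {R : Type*} [CommRing R] (T : A) (K : CochainComplex A ℤ) (ρ : R →+* End K) (n : ℤ)
    {M : Type*} [AddCommGroup M] [Module R M] (θ : M →+ HT T K n)
    (h : ∀ (r : R) (x : M), θ (r • x) = HTmap T (ρ r) n (θ x)) (hs : Function.Surjective θ) (N : Submodule R M)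
    (hN : ∀ x, θ x = 0 ↔ x ∈ N) : Nonempty ((M ⧸ N) ≃ₗ[R] HTρ T K ρ n) := by
  let θ' : M →ₗ[R] HTρ T K ρ n :=
    { toFun := fun x => HTρ.toHT.symm (θ x)
      map_add' := fun x y => congrArg HTρ.toHT.symm (map_add θ x y)
      map_smul' := fun r x => congrArg HTρ.toHT.symm (h r x) }
  have h1 : LinearMap.ker θ' = N := by
    ext x
    exact hN x
  exact ⟨(Submodule.quotEquivOfEq _ _ h1.symm).trans (θ'.quotKerEquivOfSurjective hs)⟩

end Lin

variable {X : TopCat.{u}} {K : CochainComplex (Sheaf (Opens.grothendieckTopology X) AddCommGrpCat.{u}) ℕ}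
  {R : Type u} [CommRing R] (ρ : RAct R K)

/-- sections of `K^a` over `W` -/
def GS (_ρ : RAct R K) (a : ℕ) (W : Opens X) : Type u := (K.X a).obj.obj (op W)

noncomputable instance (a : ℕ) (W : Opens X) : AddCommGroup (GS ρ a W) :=
  inferInstanceAs (AddCommGroup ((K.X a).obj.obj (op W)))

noncomputable instance (a : ℕ) (W : Opens X) : Module R (GS ρ a W) where
  smul r x := ((ρ.f r a).hom.app (op W)).hom x
  one_smul x := by
    change ((ρ.f 1 a).hom.app (op W)).hom x = x
    rw [ρ.f_one]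
    rfl
  mul_smul r s x := by
    change ((ρ.f (r * s) a).hom.app (op W)).hom x = ((ρ.f r a).hom.app (op W)).hom
      (((ρ.f s a).hom.app (op W)).hom x)
    rw [ρ.f_mul]
    rfl
  smul_zero r := map_zero _
  smul_add r x y := map_add _ _ _
  add_smul r s x := by
    change ((ρ.f (r + s) a).hom.app (op W)).hom x = ((ρ.f r a).hom.app (op W)).hom x +
      ((ρ.f s a).hom.app (op W)).hom x
    rw [ρ.f_add]
    rfl
  zero_smul x := by
    change ((ρ.f 0 a).hom.app (op W)).hom x = 0
    rw [ρ.f_zero]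
    rfl

lemma smul_def (a : ℕ) (W : Opens X) (r : R) (x : GS ρ a W) :
    r • x = ((ρ.f r a).hom.app (op W)).hom x := rfl

/-- restriction of sections -/
noncomputable def resG (a : ℕ) {W W' : Opens X} (h : W' ≤ W) : GS ρ a W →ₗ[R] GS ρ a W' where
  toFun x := ((K.X a).obj.map (homOfLE h).op).hom x
  map_add' := map_add ((K.X a).obj.map (homOfLE h).op).hom
  map_smul' r x := (ConcreteCategory.congr_hom ((ρ.f r a).hom.naturality (homOfLE h).op) x).symm

/-- the differential on sections -/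
noncomputable def dG (a a' : ℕ) (W : Opens X) : GS ρ a W →ₗ[R] GS ρ a' W where
  toFun x := ((K.d a a').hom.app (op W)).hom x
  map_add' := map_add ((K.d a a').hom.app (op W)).hom
  map_smul' r x := congrArg (fun t : K.X a ⟶ K.X a' => (t.hom.app (op W)).hom x) (ρ.comm r a a')

variable (D : Data X)

/-- total cochains as an `R`-module -/
def Tm (n : ℕ) : Type u := ∀ p : Ix n, ∀ b : D.B p.1.2, GS ρ p.1.1 (D.W p.1.2 b)

noncomputable instance (n : ℕ) : AddCommGroup (Tm ρ D n) :=
  inferInstanceAs (AddCommGroup (∀ p : Ix n, ∀ b : D.B p.1.2, GS ρ p.1.1 (D.W p.1.2 b)))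

noncomputable instance (n : ℕ) : Module R (Tm ρ D n) :=
  inferInstanceAs (Module R (∀ p : Ix n, ∀ b : D.B p.1.2, GS ρ p.1.1 (D.W p.1.2 b)))

/-- the same, as groups -/
noncomputable def toT (n : ℕ) : Tm ρ D n ≃+ T D K n := AddEquiv.refl _

lemma toT_smul (n : ℕ) (r : R) (x : Tm ρ D n) : toT ρ D n (r • x) = mapT D (ρ.map r) n (toT ρ D n x) := rfl

/-- the differential -/
noncomputable def dm (n : ℕ) : Tm ρ D n →ₗ[R] Tm ρ D (n + 1) where
  toFun x := (toT ρ D (n + 1)).symm (dT D K n (toT ρ D n x))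
  map_add' x y := by rw [map_add, map_add, map_add]
  map_smul' r x := by
    apply (toT ρ D (n + 1)).injective
    rw [AddEquiv.apply_symm_apply, toT_smul, mapT_dT]
    rfl

lemma toT_dm (n : ℕ) (x : Tm ρ D n) : toT ρ D (n + 1) (dm ρ D n x) = dT D K n (toT ρ D n x) := rfl

/-- `dT ∘ dT = 0` (for a locally good datum) -/
lemma dT_dT {D : Data X} (h : D.LocGood) (n : ℕ) (x : T D K n) : dT D K (n + 1) (dT D K n x) = 0 := by
  obtain ⟨z, rfl⟩ := ev_surjective (h := h) (K := K) n x
  rw [← ev_δ, ← ev_δ, CochainComplex.HomComplex.δ_δ, map_zero]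

lemma dm_dm {D : Data X} (h : D.LocGood) (n : ℕ) : dm ρ D (n + 1) ∘ₗ dm ρ D n = 0 := by
  ext x : 1
  exact dT_dT h n (toT ρ D n x)

section HT

variable {D} (h : D.LocGood) [HasDerivedCategory.{w} (Sheaf (Opens.grothendieckTopology X) AddCommGrpCat.{u})]

/-- cocycles -/
noncomputable def kerι (D : Data X) (n : ℕ) : LinearMap.ker (dm ρ D n) →+ (dT D K n).ker :=
  AddMonoidHom.mk' (fun x => ⟨toT ρ D n x.1, x.2⟩) fun _ _ => rfl

/-- the class map on cocycles -/
noncomputable def clsA (n : ℕ) := (clsT h K n).comp (kerι ρ D n)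

lemma clsA_smul (n : ℕ) (r : R) (x : LinearMap.ker (dm ρ D n)) :
    clsA ρ h n (r • x) = E1Deg.HTmap (Z₀ X) (HomologicalComplex.extendMap (ρ.map r) ComplexShape.embeddingUpNat) n
      (clsA ρ h n x) :=
  clsT_naturality h (ρ.map r) n (kerι ρ D n x)

variable [HasExt.{w'} (Sheaf (Opens.grothendieckTopology X) AddCommGrpCat.{u})]

theorem clsA_surjective (hK : ∀ a, D.Acyclic (K.X a)) (n : ℕ) : Function.Surjective (clsA ρ h n) := by
  intro y
  obtain ⟨x, hx⟩ := clsT_surjective h hK n y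
  exact ⟨⟨(toT ρ D n).symm x.1, x.2⟩, hx⟩

theorem clsA_eq_zero_iff (hK : ∀ a, D.Acyclic (K.X a)) (n : ℕ) (x : LinearMap.ker (dm ρ D n)) :
    clsA ρ h n x = 0 ↔ x ∈ FlatCxB.bz (dm ρ D) n := by
  refine Iff.trans (clsT_eq_zero_iff h hK n (kerι ρ D n x)) ?_
  rw [FlatCxB.mem_bz]
  cases n with
  | zero => exact (Submodule.mem_bot (M := Tm ρ D 0) R).symm
  | succ n => exact Iff.rfl

include h in
/-- The cohomology of the total cochains is the hypercohomology. -/
theorem nonempty_equiv (hK : ∀ a, D.Acyclic (K.X a)) (n : ℕ) (ρ' : R →+* End (KZ K))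
    (hρ' : ∀ r, ρ' r = HomologicalComplex.extendMap (ρ.map r) ComplexShape.embeddingUpNat) :
    Nonempty (RingLem.H (dm ρ D) n ≃ₗ[R] KLinDR.HTρ (Z₀ X) (KZ K) ρ' n) :=
  mkLin (Z₀ X) (KZ K) ρ' n (clsA ρ h n) (fun r x => by rw [hρ' r]; exact clsA_smul ρ h n r x)
    (clsA_surjective ρ h hK n) _ (clsA_eq_zero_iff ρ h hK n)

end HT

section Flat

instance (n : ℕ) : Finite (Ix n) :=
  Set.Finite.to_subtype (s := {p : ℕ × ℕ | p.1 + p.2 = n})
    (((Finset.antidiagonal n).finite_toSet).subset fun p hp => by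
      simpa using hp)

theorem flat_pi {R : Type*} [CommRing R] {ι : Type*} [Finite ι] (M : ι → Type*) [∀ i, AddCommGroup (M i)]
    [∀ i, Module R (M i)] (h : ∀ i, Module.Flat R (M i)) : Module.Flat R (∀ i, M i) := by
  classical
  cases nonempty_fintype ι
  exact Module.Flat.of_linearEquiv (DirectSum.linearEquivFunOnFintype R ι M).symm

theorem flat_Tm (hfl : ∀ (a b : ℕ) (β : D.B b), Module.Flat R (GS ρ a (D.W b β))) (n : ℕ) :
    Module.Flat R (Tm ρ D n) :=
  flat_pi _ fun p => flat_pi _ fun b => hfl p.1.1 p.1.2 b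

theorem subsingleton_GS (a : ℕ) (h : IsZero (K.X a)) (W : Opens X) : Subsingleton (GS ρ a W) := by
  refine ⟨fun x y => ?_⟩
  have h1 : ∀ z : GS ρ a W, z = 0 := fun z => by
    have h2 := congrArg (fun t : K.X a ⟶ K.X a => (t.hom.app (op W)).hom z) ((IsZero.iff_id_eq_zero _).1 h)
    exact h2
  rw [h1 x, h1 y]

theorem subsingleton_Tm (N : ℕ) (hB : ∀ b, N ≤ b → IsEmpty (D.B b)) (hK : ∀ a, N ≤ a → IsZero (K.X a)) (n : ℕ)
    (hn : 2 * N ≤ n) : Subsingleton (Tm ρ D n) := by
  have h1 : ∀ p : Ix n, Subsingleton (∀ b : D.B p.1.2, GS ρ p.1.1 (D.W p.1.2 b)) := by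
    intro p
    have hp := p.2
    by_cases ha : N ≤ p.1.1
    · have h2 : ∀ b : D.B p.1.2, Subsingleton (GS ρ p.1.1 (D.W p.1.2 b)) := fun b =>
        subsingleton_GS ρ p.1.1 (hK _ ha) _
      infer_instance
    · have h2 := hB p.1.2 (by omega)
      infer_instance
  exact inferInstanceAs (Subsingleton (∀ p : Ix n, ∀ b : D.B p.1.2, GS ρ p.1.1 (D.W p.1.2 b)))

end Flat

end K890.TotMod
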