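import Groth.Agent.DelIll.K890.ResCx
import Groth.Agent.DelIll.K905.HTSch

/-!
# Hypercohomology as the cohomology of a total complex of combinatorial cochains

`X` a space, `D : CombRes.Data X` locally good (e.g. the ordered or the full Čech datum of a finite cover), `K` a
complex (`ℕ`-indexed) of abelian sheaves without higher cohomology on the opens of `D`.  `T D K n` is the group
of families `x (a, b) ∈ ∏_β K^a(W_β)` (`β ∈ D.B b`), `a + b = n`, with differential
`(dT x) (a, b) = d (x (a - 1, b)) + (-1)^n δ (x (a, b - 1))`.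
`clsT : ker dT → HT (ℤ_X) K n` is surjective, its kernel is the group of coboundaries, and it is natural in `K`.
-/

set_option autoImplicit false

universe w w' v u

open CategoryTheory CategoryTheory.Limits CochainComplex CochainComplex.HomComplex TopologicalSpace Opposite

namespace K890.CechHT

open Groth.Agent.Ega3B Groth.Agent.Ega3B.CombRes Groth.Agent.Htor.H253.HomCone Groth.Agent.LoccohB.HomCls
  K890.ResCx

attribute [local instance 3000] LocExact.hasSheafify

/-- pairs with sum `n` -/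
abbrev Ix (n : ℕ) : Type := {p : ℕ × ℕ // p.1 + p.2 = n}

section Def

variable {X : TopCat.{u}} (D : Data X)
  (K : CochainComplex (Sheaf (Opens.grothendieckTopology X) AddCommGrpCat.{u}) ℕ)

/-- total cochains -/
def T (n : ℕ) : Type u := ∀ p : Ix n, D.K p.1.2 (K.X p.1.1).obj

instance (n : ℕ) : AddCommGroup (T D K n) :=
  inferInstanceAs (AddCommGroup (∀ p : Ix n, D.K p.1.2 (K.X p.1.1).obj))

variable {D K}

/-- value of the component `(a, b)` -/
def T.at {n : ℕ} (x : T D K n) (a b : ℕ) (h : a + b = n) : D.K b (K.X a).obj := x ⟨(a, b), h⟩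

lemma T.add_at {n : ℕ} (x y : T D K n) (a b : ℕ) (h : a + b = n) :
    (x + y).at a b h = x.at a b h + y.at a b h := rfl

lemma T.zero_at {n : ℕ} (a b : ℕ) (h : a + b = n) : (0 : T D K n).at a b h = 0 := rfl

@[ext]
lemma T.ext {n : ℕ} {x y : T D K n} (h : ∀ a b h, x.at a b h = y.at a b h) : x = y :=
  funext fun p => h p.1.1 p.1.2 p.2

/-- the internal part of the differential -/
def hor {n : ℕ} (x : T D K n) : ∀ (a b : ℕ) (_ : a + b = n + 1), D.K b (K.X a).obj
  | 0, _, _ => 0
  | a + 1, b, h => D.Kmap b (K.d a (a + 1)).hom (x.at a b (by omega))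

/-- the Čech part of the differential -/
noncomputable def ver {n : ℕ} (x : T D K n) : ∀ (a b : ℕ) (_ : a + b = n + 1), D.K b (K.X a).obj
  | _, 0, _ => 0
  | a, b + 1, h => D.δ b (K.X a).obj (x.at a b (by omega))

lemma hor_add {n : ℕ} (x y : T D K n) (a b : ℕ) (h : a + b = n + 1) :
    hor (x + y) a b h = hor x a b h + hor y a b h := by
  cases a with
  | zero => exact (add_zero _).symm
  | succ a => exact map_add (D.Kmap b (K.d a (a + 1)).hom) _ _

lemma ver_add {n : ℕ} (x y : T D K n) (a b : ℕ) (h : a + b = n + 1) :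
    ver (x + y) a b h = ver x a b h + ver y a b h := by
  cases b with
  | zero => exact (add_zero _).symm
  | succ b => exact map_add (D.δ b (K.X a).obj) _ _

variable (D K)

/-- the total differential -/
noncomputable def dT (n : ℕ) : T D K n →+ T D K (n + 1) :=
  AddMonoidHom.mk' (fun x p => hor x p.1.1 p.1.2 p.2 + ((n + 1 : ℕ) : ℤ).negOnePow • ver x p.1.1 p.1.2 p.2) (by
    intro x y
    refine T.ext fun a b h => ?_
    change hor (x + y) a b h + ((n + 1 : ℕ) : ℤ).negOnePow • ver (x + y) a b h =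
      (hor x a b h + ((n + 1 : ℕ) : ℤ).negOnePow • ver x a b h) +
        (hor y a b h + ((n + 1 : ℕ) : ℤ).negOnePow • ver y a b h)
    rw [hor_add, ver_add, smul_add]
    abel)

variable {D K}

lemma dT_at {n : ℕ} (x : T D K n) (a b : ℕ) (h : a + b = n + 1) :
    (dT D K n x).at a b h = hor x a b h + ((n + 1 : ℕ) : ℤ).negOnePow • ver x a b h := rfl

variable {L : CochainComplex (Sheaf (Opens.grothendieckTopology X) AddCommGrpCat.{u}) ℕ}

/-- functoriality -/
def mapT (D : Data X) (g : K ⟶ L) (n : ℕ) : T D K n →+ T D L n :=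
  AddMonoidHom.mk' (fun x p => D.Kmap p.1.2 (g.f p.1.1).hom (x p)) fun _ _ =>
    T.ext fun a b _ => map_add (D.Kmap b (g.f a).hom) _ _

lemma mapT_at (g : K ⟶ L) {n : ℕ} (x : T D K n) (a b : ℕ) (h : a + b = n) :
    (mapT D g n x).at a b h = D.Kmap b (g.f a).hom (x.at a b h) := rfl

end Def

section Ev

variable {X : TopCat.{u}} {D : Data X} (h : D.LocGood)
  (K : CochainComplex (Sheaf (Opens.grothendieckTopology X) AddCommGrpCat.{u}) ℕ)

/-- the complex extended to all integers -/
noncomputable abbrev KZ : CochainComplex (Sheaf (Opens.grothendieckTopology X) AddCommGrpCat.{u}) ℤ :=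
  K.extend ComplexShape.embeddingUpNat

/-- the term of degree `a` -/
noncomputable def yIso (n : ℤ) (a : ℕ) (h : (a : ℤ) = n) : (KZ K).X n ≅ K.X a :=
  K.extendXIso ComplexShape.embeddingUpNat h

lemma KZ_d (n m : ℤ) (a : ℕ) (hn : (a : ℤ) = n) (hm : ((a + 1 : ℕ) : ℤ) = m) :
    (KZ K).d n m = (yIso K n a hn).hom ≫ K.d a (a + 1) ≫ (yIso K m (a + 1) hm).inv :=
  K.extend_d_eq ComplexShape.embeddingUpNat hn hm

/-- `Hom(P b, F)` is the group of cochains of degree `b` -/
noncomputable def hE (b : ℕ) (F : Sheaf (Opens.grothendieckTopology X) AddCommGrpCat.{u}) :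
    ((D.res h).P b ⟶ F) ≃+ D.K b F.obj :=
  D.sheafHomEquiv b F

lemma hE_naturality {b : ℕ} {F F' : Sheaf (Opens.grothendieckTopology X) AddCommGrpCat.{u}}
    (φ : (D.res h).P b ⟶ F) (g : F ⟶ F') : hE h b F' (φ ≫ g) = D.Kmap b g.hom (hE h b F φ) :=
  D.sheafHomEquiv_naturality b φ g

lemma hE_d {b : ℕ} {F : Sheaf (Opens.grothendieckTopology X) AddCommGrpCat.{u}}
    (φ : (D.res h).P b ⟶ F) : hE h (b + 1) F ((D.res h).d b ≫ φ) = D.δ b F.obj (hE h b F φ) :=
  D.sheafHomEquiv_d b φ

/-- the components of a cochain as combinatorial cochains -/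
noncomputable def ev (n : ℕ) : Cochain (cx (D.res h)) (KZ K) n →+ T D K n :=
  AddMonoidHom.mk' (fun z p => hE h p.1.2 (K.X p.1.1)
    ((xIso (D.res h) (-(p.1.2 : ℤ)) p.1.2 rfl).inv ≫
      z.v (-(p.1.2 : ℤ)) p.1.1 (by have := p.2; omega) ≫ (yIso K p.1.1 p.1.1 rfl).hom)) (by
    intro z z'
    funext p
    rw [Cochain.add_v, Preadditive.add_comp, Preadditive.comp_add, map_add]
    rfl)

variable {h K}

lemma ev_at (n : ℕ) (z : Cochain (cx (D.res h)) (KZ K) n) (a b : ℕ) (hab : a + b = n) :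
    (ev h K n z).at a b hab = hE h b (K.X a) ((xIso (D.res h) (-(b : ℤ)) b rfl).inv ≫
      z.v (-(b : ℤ)) a (by omega) ≫ (yIso K a a rfl).hom) := rfl

lemma ev_injective (n : ℕ) : Function.Injective (ev h K n) := by
  rw [injective_iff_map_eq_zero]
  intro z hz
  refine Cochain.ext _ _ fun p q hpq => ?_
  rw [Cochain.zero_v]
  by_cases hp : 0 < p
  · exact (isZero_cx (D.res h) p hp).eq_of_src _ _
  by_cases hq : q < 0
  · exact (K905.HTSch.isZero_extend_neg K q hq).eq_of_tgt _ _
  obtain ⟨b, rfl⟩ : ∃ b : ℕ, p = -(b : ℤ) := ⟨(-p).toNat, by omega⟩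
  obtain ⟨a, rfl⟩ : ∃ a : ℕ, q = (a : ℤ) := ⟨q.toNat, by omega⟩
  have h1 : (ev h K n z).at a b (by omega) = 0 := by rw [hz]; rfl
  rw [ev_at, map_eq_zero_iff _ (hE h b (K.X a)).injective] at h1
  rw [← cancel_epi (xIso (D.res h) (-(b : ℤ)) b rfl).inv, ← cancel_mono (yIso K a a rfl).hom, comp_zero,
    zero_comp, Category.assoc]
  exact h1

lemma ev_surjective (n : ℕ) : Function.Surjective (ev h K n) := by
  classical
  intro x
  refine ⟨Cochain.mk fun p q hpq => if hh : p ≤ 0 ∧ 0 ≤ q then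
    (xIso (D.res h) p (-p).toNat (by omega)).hom ≫
      (hE h (-p).toNat (K.X q.toNat)).symm (x.at q.toNat (-p).toNat (by omega)) ≫
        (yIso K q q.toNat (by omega)).inv else 0, T.ext fun a b hab => ?_⟩
  rw [ev_at, Cochain.mk_v, dif_pos (show -(b : ℤ) ≤ 0 ∧ 0 ≤ (a : ℤ) by omega)]
  have key : ∀ (a' b' : ℕ) (ha : a' = a) (hb : b' = b),
      hE h b (K.X a) ((xIso (D.res h) (-(b : ℤ)) b rfl).inv ≫
        ((xIso (D.res h) (-(b : ℤ)) b' (by rw [hb])).hom ≫
          (hE h b' (K.X a')).symm (x.at a' b' (by omega)) ≫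
            (yIso K (a : ℤ) a' (by rw [ha])).inv) ≫ (yIso K a a rfl).hom) = x.at a b hab := by
    intro a' b' ha hb
    subst ha hb
    rw [Category.assoc, Category.assoc, Iso.inv_hom_id_assoc, Iso.inv_hom_id, Category.comp_id,
      AddEquiv.apply_symm_apply]
  exact key _ _ (by omega) (by omega)

lemma ev_δ (n : ℕ) (z : Cochain (cx (D.res h)) (KZ K) n) :
    ev h K (n + 1) (δ (n : ℤ) ((n + 1 : ℕ) : ℤ) z) = dT D K n (ev h K n z) := by
  refine T.ext fun a b hab => ?_
  rw [ev_at, dT_at, δ_v (n : ℤ) ((n + 1 : ℕ) : ℤ) (by push_cast; rfl) z (-(b : ℤ)) a (by omega)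
    ((a : ℤ) - 1) (-(b : ℤ) + 1) rfl rfl, Preadditive.add_comp, Preadditive.comp_add, map_add]
  congr 1
  · cases a with
    | zero =>
      have h1 : z.v (-(b : ℤ)) (((0 : ℕ) : ℤ) - 1) (by omega) = 0 :=
        (K905.HTSch.isZero_extend_neg K _ (by omega)).eq_of_tgt _ _
      rw [h1, zero_comp, zero_comp, comp_zero, map_zero]
      rfl
    | succ a =>
      change _ = D.Kmap b (K.d a (a + 1)).hom ((ev h K n z).at a b (by omega))
      rw [ev_at, ← hE_naturality]
      congr 1
      have key : ∀ (m : ℤ) (hm : m = (a : ℤ)),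
          z.v (-(b : ℤ)) m (by omega) ≫ (KZ K).d m ((a + 1 : ℕ) : ℤ) ≫ (yIso K ((a + 1 : ℕ) : ℤ) (a + 1) rfl).hom =
            z.v (-(b : ℤ)) (a : ℤ) (by omega) ≫ (yIso K a a rfl).hom ≫ K.d a (a + 1) := by
        intro m hm
        subst hm
        rw [KZ_d K (a : ℤ) _ a rfl rfl, Category.assoc, Category.assoc, Iso.inv_hom_id, Category.comp_id]
      rw [Category.assoc, Category.assoc, Category.assoc]
      exact congrArg _ (key _ (by push_cast; omega))
  · rw [Linear.units_smul_comp, Linear.comp_units_smul, Units.smul_def, Units.smul_def, map_zsmul]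
    congr 1
    cases b with
    | zero =>
      have h1 : z.v (-((0 : ℕ) : ℤ) + 1) (a : ℤ) (by omega) = 0 :=
        (isZero_cx (D.res h) _ (by omega)).eq_of_src _ _
      rw [h1, comp_zero, zero_comp, comp_zero, map_zero]
      rfl
    | succ b =>
      change _ = D.δ b (K.X a).obj ((ev h K n z).at a b (by omega))
      rw [ev_at, ← hE_d]
      congr 1
      have key : ∀ (m : ℤ) (hm : m = -(b : ℤ)),
          (xIso (D.res h) (-((b + 1 : ℕ) : ℤ)) (b + 1) rfl).inv ≫
            (cx (D.res h)).d (-((b + 1 : ℕ) : ℤ)) m ≫ z.v m (a : ℤ) (by omega) =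
            (D.res h).d b ≫ (xIso (D.res h) (-(b : ℤ)) b rfl).inv ≫ z.v (-(b : ℤ)) (a : ℤ) (by omega) := by
        intro m hm
        subst hm
        rw [cx_d (D.res h) _ _ b rfl rfl, Category.assoc, Category.assoc, Iso.inv_hom_id_assoc]
      have h2 := key (-((b + 1 : ℕ) : ℤ) + 1) (by push_cast; omega)
      have h3 := congrArg (fun t => t ≫ (yIso K a a rfl).hom) h2
      simpa only [Category.assoc] using h3

variable {L : CochainComplex (Sheaf (Opens.grothendieckTopology X) AddCommGrpCat.{u}) ℕ}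

lemma extendMap_f (g : K ⟶ L) (a : ℕ) :
    (HomologicalComplex.extendMap g ComplexShape.embeddingUpNat).f (a : ℤ) =
      (yIso K a a rfl).hom ≫ g.f a ≫ (yIso L a a rfl).inv :=
  HomologicalComplex.extendMap_f g ComplexShape.embeddingUpNat (rfl : ComplexShape.embeddingUpNat.f a = (a : ℤ))

lemma ev_comp (g : K ⟶ L) (n : ℕ) (z : Cochain (cx (D.res h)) (KZ K) n) :
    ev h L n (z.comp (Cochain.ofHom (HomologicalComplex.extendMap g ComplexShape.embeddingUpNat)) (add_zero _)) =
      mapT D g n (ev h K n z) := by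
  refine T.ext fun a b hab => ?_
  rw [ev_at, mapT_at, ev_at, ← hE_naturality, Cochain.comp_zero_cochain_v, Cochain.ofHom_v, extendMap_f]
  congr 1
  simp only [Category.assoc, Iso.inv_hom_id, Category.comp_id]

/-- `ev` as an equivalence -/
noncomputable def evE (h : D.LocGood) (K : CochainComplex (Sheaf (Opens.grothendieckTopology X) AddCommGrpCat.{u}) ℕ)
    (n : ℕ) : Cochain (cx (D.res h)) (KZ K) n ≃+ T D K n :=
  AddEquiv.ofBijective (ev h K n) ⟨ev_injective n, ev_surjective n⟩

/-- the cocycle of a total cocycle -/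
noncomputable def toCoc (h : D.LocGood) (K : CochainComplex (Sheaf (Opens.grothendieckTopology X) AddCommGrpCat.{u}) ℕ)
    (n : ℕ) : (dT D K n).ker →+ Cocycle (cx (D.res h)) (KZ K) (n : ℤ) :=
  AddMonoidHom.mk' (fun x => Cocycle.mk ((evE h K n).symm x.1) ((n + 1 : ℕ) : ℤ) (by push_cast; rfl) (by
    apply ev_injective (n + 1)
    rw [ev_δ, map_zero]
    exact (congrArg (dT D K n) ((evE h K n).apply_symm_apply x.1)).trans x.2)) (by
    intro x y
    apply Subtype.ext
    exact map_add (evE h K n).symm x.1 y.1)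

lemma ev_toCoc (n : ℕ) (x : (dT D K n).ker) : ev h K n (toCoc h K n x).1 = x.1 :=
  (evE h K n).apply_symm_apply x.1

lemma toCoc_surjective (n : ℕ) : Function.Surjective (toCoc h K n) := by
  intro z
  refine ⟨⟨ev h K n z.1, ?_⟩, ?_⟩
  · rw [AddMonoidHom.mem_ker, ← ev_δ, z.δ_eq_zero, map_zero]
  · apply Subtype.ext
    exact (evE h K n).symm_apply_apply z.1

/-- coboundaries (only `0` in degree `0`) -/
def IsB (D : Data X) (K : CochainComplex (Sheaf (Opens.grothendieckTopology X) AddCommGrpCat.{u}) ℕ) :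
    (n : ℕ) → T D K n → Prop
  | 0, x => x = 0
  | n + 1, x => ∃ y : T D K n, dT D K n y = x

lemma mem_coboundaries_iff_isB (n : ℕ) (x : (dT D K n).ker) :
    toCoc h K n x ∈ coboundaries (cx (D.res h)) (KZ K) n ↔ IsB D K n x.1 := by
  cases n with
  | zero =>
    rw [mem_coboundaries_iff _ (-1) (by simp)]
    constructor
    · rintro ⟨y, hy⟩
      have h1 : y = 0 := by
        refine Cochain.ext _ _ fun p q hpq => ?_
        by_cases hp : 0 < p
        · exact (isZero_cx (D.res h) p hp).eq_of_src _ _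
        · exact (K905.HTSch.isZero_extend_neg K q (by omega)).eq_of_tgt _ _
      rw [h1, δ_zero] at hy
      change x.1 = 0
      rw [← ev_toCoc (h := h) 0 x, ← hy, map_zero]
    · intro hx
      refine ⟨0, ?_⟩
      rw [δ_zero]
      apply ev_injective 0
      rw [map_zero, ev_toCoc]
      exact (hx : x.1 = 0).symm
  | succ n =>
    rw [mem_coboundaries_iff _ (n : ℤ) (by push_cast; rfl)]
    constructor
    · rintro ⟨y, hy⟩
      exact ⟨ev h K n y, by rw [← ev_δ, hy, ev_toCoc]⟩
    · rintro ⟨y, hy⟩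
      refine ⟨(evE h K n).symm y, ?_⟩
      apply ev_injective (n + 1)
      rw [ev_δ, ev_toCoc, ← hy]
      exact congrArg (dT D K n) ((evE h K n).apply_symm_apply y)

end Ev

section Acyc

variable {A : Type u} [Category.{v} A] [Abelian A] [HasExt.{w} A]

open CategoryTheory.Abelian

lemma extAcyc_of_isZero_src {G Y : A} (hG : IsZero G) : ExtAcyc G Y := by
  intro q x
  have h1 : x = (Ext.mk₀ (𝟙 G)).comp x (zero_add _) := (x.mk₀_id_comp).symm
  rw [h1, (IsZero.iff_id_eq_zero G).1 hG, Ext.mk₀_zero, Ext.zero_comp]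

lemma ExtAcyc.of_iso {G G' Y Y' : A} (h : ExtAcyc G Y) (e : G' ≅ G) (f : Y' ≅ Y) : ExtAcyc G' Y' := by
  intro q x
  have h3 : ((Ext.mk₀ e.inv).comp x (zero_add _)).comp (Ext.mk₀ f.hom) (add_zero _) = 0 := h q _
  have h2 : (Ext.mk₀ e.inv).comp x (zero_add _) = 0 := by
    have h4 := congrArg (fun t => Ext.comp t (Ext.mk₀ f.inv) (add_zero _)) h3
    simpa using h4
  have h5 := congrArg (fun t => (Ext.mk₀ e.hom).comp t (zero_add _)) h2
  simpa using h5

end Acyc

section Main

variable {X : TopCat.{u}} {D : Data X} (h : D.LocGood)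
  (K : CochainComplex (Sheaf (Opens.grothendieckTopology X) AddCommGrpCat.{u}) ℕ)

/-- the free abelian sheaf on the whole space -/
noncomputable abbrev Z₀ (X : TopCat.{u}) : Sheaf (Opens.grothendieckTopology X) AddCommGrpCat.{u} :=
  CohCx.freeSheaf (Opens.grothendieckTopology X) (⊤ : Opens X)

lemma extAcyc_cx [HasExt.{w'} (Sheaf (Opens.grothendieckTopology X) AddCommGrpCat.{u})]
    {F : Sheaf (Opens.grothendieckTopology X) AddCommGrpCat.{u}} (hF : D.Acyclic F) (i : ℤ) :
    ExtAcyc ((cx (D.res h)).X i) F := by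
  by_cases hi : 0 < i
  · exact extAcyc_of_isZero_src (isZero_cx (D.res h) i hi)
  · obtain ⟨b, rfl⟩ : ∃ b : ℕ, i = -(b : ℤ) := ⟨(-i).toNat, by omega⟩
    refine ExtAcyc.of_iso ?_ (xIso (D.res h) (-(b : ℤ)) b rfl) (Iso.refl F)
    intro q x
    have := Data.res_acyclic h hF b q
    exact Subsingleton.elim _ _

lemma extAcyc_KZ [HasExt.{w'} (Sheaf (Opens.grothendieckTopology X) AddCommGrpCat.{u})] {K}
    (hK : ∀ a, D.Acyclic (K.X a)) (i j : ℤ) : ExtAcyc ((cx (D.res h)).X i) ((KZ K).X j) := by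
  by_cases hj : j < 0
  · exact extAcyc_of_isZero (K905.HTSch.isZero_extend_neg K j hj)
  · obtain ⟨a, rfl⟩ : ∃ a : ℕ, j = (a : ℤ) := ⟨j.toNat, by omega⟩
    exact ExtAcyc.of_iso (extAcyc_cx h (hK a) i) (Iso.refl _) (yIso K a a rfl)

variable [HasDerivedCategory.{w} (Sheaf (Opens.grothendieckTopology X) AddCommGrpCat.{u})]

/-- `ℤ_X` is the class of the combinatorial resolution -/
noncomputable def pre : (DerivedCategory.singleFunctor _ 0).obj (Z₀ X) ≅ DerivedCategory.Q.obj (cx (D.res h)) :=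
  (DerivedCategory.singleFunctor _ 0).mapIso (E1Deg.freeSheafIsoConstant (Opens.grothendieckTopology X)
    (CategoryTheory.Limits.isTerminalTop : IsTerminal (⊤ : Opens X))) ≪≫
    (asIso (DerivedCategory.Q.map (cxAug (D.res h)))).symm

/-- the hypercohomology class of a total cocycle -/
noncomputable def clsT (n : ℕ) : (dT D K n).ker →+ E1Deg.HT (Z₀ X) (KZ K) (n : ℤ) :=
  AddMonoidHom.mk' (fun x => (pre h).hom ≫ hcls (toCoc h K n x)) (by
    intro x y
    rw [map_add, hcls_add, Preadditive.comp_add])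

variable {K} {L : CochainComplex (Sheaf (Opens.grothendieckTopology X) AddCommGrpCat.{u}) ℕ}

omit [HasDerivedCategory.{w} (Sheaf (Opens.grothendieckTopology X) AddCommGrpCat.{u})] in
lemma mapT_dT (g : K ⟶ L) (n : ℕ) (x : T D K n) : dT D L n (mapT D g n x) = mapT D g (n + 1) (dT D K n x) := by
  refine T.ext fun a b hab => ?_
  rw [dT_at, mapT_at, dT_at, map_add, Units.smul_def, Units.smul_def, map_zsmul]
  congr 1
  · cases a with
    | zero => exact (map_zero (D.Kmap b (g.f 0).hom)).symm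
    | succ a =>
      change D.Kmap b (L.d a (a + 1)).hom (D.Kmap b (g.f a).hom (x.at a b (by omega))) =
        D.Kmap b (g.f (a + 1)).hom (D.Kmap b (K.d a (a + 1)).hom (x.at a b (by omega)))
      exact congrArg (fun t : K.X a ⟶ L.X (a + 1) => D.Kmap b t.hom (x.at a b (by omega))) (g.comm a (a + 1))
  · congr 1
    cases b with
    | zero => exact (map_zero (D.Kmap 0 (g.f a).hom)).symm
    | succ b => exact D.δ_naturality b (g.f a).hom (x.at a b (by omega))

/-- functoriality on cocycles -/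
noncomputable def mapZ (g : K ⟶ L) (n : ℕ) : (dT D K n).ker →+ (dT D L n).ker :=
  AddMonoidHom.mk' (fun x => ⟨mapT D g n x.1, by
    rw [AddMonoidHom.mem_ker, mapT_dT, x.2, map_zero]⟩) fun x y => Subtype.ext (map_add (mapT D g n) x.1 y.1)

theorem clsT_naturality (g : K ⟶ L) (n : ℕ) (x : (dT D K n).ker) :
    clsT h L n (mapZ g n x) = E1Deg.HTmap (Z₀ X) (HomologicalComplex.extendMap g ComplexShape.embeddingUpNat) n
      (clsT h K n x) := by
  have h1 : toCoc h L n (mapZ g n x) =
      (toCoc h K n x).postcomp (HomologicalComplex.extendMap g ComplexShape.embeddingUpNat) := by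
    apply Subtype.ext
    apply ev_injective n
    rw [ev_toCoc]
    exact ((ev_comp g n _).trans (congrArg (mapT D g n) (ev_toCoc n x))).symm
  change (pre h).hom ≫ hcls (toCoc h L n (mapZ g n x)) = ((pre h).hom ≫ hcls (toCoc h K n x)) ≫ _
  rw [h1, hcls_postcomp, Category.assoc]

variable [HasExt.{w'} (Sheaf (Opens.grothendieckTopology X) AddCommGrpCat.{u})]

theorem clsT_surjective (hK : ∀ a, D.Acyclic (K.X a)) (n : ℕ) : Function.Surjective (clsT h K n) := by
  obtain ⟨I, φ, hφ, hI, hI', haI⟩ := Groth.Agent.Htor.H253.CechHyper.exists_injective_resolution (KZ K) 0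
    (fun i hi => K905.HTSch.isZero_extend_neg K i hi)
  intro x
  obtain ⟨z, hz⟩ := K890.HomRes.hcls_surjective (P := cx (D.res h)) φ (fun i hi => isZero_cx (D.res h) i hi) 0
    (fun i hi => K905.HTSch.isZero_extend_neg K i hi) haI (extAcyc_KZ h hK)
    (fun i j => extAcyc_of_injective) n ((pre h).inv ≫ x)
  obtain ⟨y, rfl⟩ := toCoc_surjective (h := h) n z
  exact ⟨y, by
    change (pre h).hom ≫ hcls (toCoc h K n y) = x
    rw [hz, Iso.hom_inv_id_assoc]⟩

theorem clsT_eq_zero_iff (hK : ∀ a, D.Acyclic (K.X a)) (n : ℕ) (x : (dT D K n).ker) :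
    clsT h K n x = 0 ↔ IsB D K n x.1 := by
  obtain ⟨I, φ, hφ, hI, hI', haI⟩ := Groth.Agent.Htor.H253.CechHyper.exists_injective_resolution (KZ K) 0
    (fun i hi => K905.HTSch.isZero_extend_neg K i hi)
  have h1 := K890.HomRes.hcls_eq_zero_iff (P := cx (D.res h)) φ (fun i hi => isZero_cx (D.res h) i hi) 0
    (fun i hi => K905.HTSch.isZero_extend_neg K i hi) haI (extAcyc_KZ h hK)
    (fun i j => extAcyc_of_injective) (toCoc h K n x)
  rw [← mem_coboundaries_iff _ _ (by lia), mem_coboundaries_iff_isB] at h1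
  rw [← h1]
  change (pre h).hom ≫ hcls (toCoc h K n x) = 0 ↔ _
  constructor
  · intro h2
    rw [← Iso.inv_hom_id_assoc (pre h) (hcls (toCoc h K n x)), h2, comp_zero]
  · intro h2
    rw [h2, comp_zero]

end Main

end K890.CechHT
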