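import Groth.Agent.DelIll.K890.Stage
import Groth.Agent.DelIll.K890.EtaleDescend
import Groth.Agent.Flat2D.LfpComp
import Groth.Agent.Pi1.H403.RelSNCBase

/-!
# Spreading out of étale coordinates

* `ev_prop_over`: a property of a morphism `X ⟶ Y` of `k`-schemes which descends along limits spreads out, for models
  `X₀ ⟶ Y₀` over `Spec S`;
* `ev_etale_homOfVector`: functions on `X₀` defining an étale morphism from `X` to affine space over `k` define étale
  morphisms from sufficiently general base changes.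
-/

set_option autoImplicit false
universe u v
open CategoryTheory CategoryTheory.Limits AlgebraicGeometry Opposite TopologicalSpace

namespace K890.Etale

open K890.Spread K890.Model K890.Stage Groth.Agent.PerfB.ApproxRing Groth.Agent.Smoothlim.LimBase

variable {k : Type u} [Field k] {S : Subalgebra ℤ k}

theorem ev_prop_over {P Q : MorphismProperty Scheme.{u}} [P.IsStableUnderBaseChange]
    [IsZariskiLocalAtTarget P] [Q.IsStableUnderBaseChange] (hA : DescendsAffine Q P)
    {X₀ Y₀ X Y : Scheme.{u}} [CompactSpace Y₀] {g₀ : Y₀ ⟶ Spec (CommRingCat.of S)} {f₀ : X₀ ⟶ Y₀}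
    {f : X ⟶ Y} {g : Y ⟶ Spec (CommRingCat.of k)} {qY : Y ⟶ Y₀} {qX : X ⟶ X₀}
    (hY : IsPullback qY g g₀ (sv S)) (hX : IsPullback qX f f₀ qY) (hS : S.FG) (hQ : Q f₀) (hP : P f) :
    Ev S (fun T _ φ => ∀ (Y' X' : Scheme.{u}) (a : Y' ⟶ Y₀) (b : Y' ⟶ Spec (CommRingCat.of T)) (c : X' ⟶ X₀)
      (d : X' ⟶ Y'), IsPullback a b g₀ (sp φ) → IsPullback c d f₀ a → P d) := by
  let B : Idx k := ⟨S, hS⟩
  obtain ⟨i, φ, hi⟩ := exists_descend hA (specDiag k) (specCone k) (specIsLimit k) (op B)
    (Y₀ := Y₀) (Y := Y) (f₀ := f₀) (g₀ := g₀) (f := f) (g := g) (qY := qY) (qX := qX) hY hX hQ hP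
  have hle : S ≤ i.unop.1 := φ.unop.le
  have hi' : P (pullback.snd f₀ (pullback.fst g₀ (sp (inc hle)))) := hi
  refine Ev.of_le hle (Ev.of_forall i.unop.2 fun T _ φ' Y' X' a b c d hab hcd => ?_)
  obtain ⟨a', ha', hab'⟩ := exists_fac g₀ hle φ' hab
  have h1 : IsPullback (pullback.lift c (d ≫ a') (by rw [Category.assoc, ha']; exact hcd.w)) d
      (pullback.snd f₀ (pullback.fst g₀ (sp (inc hle)))) a' := by
    refine IsPullback.of_right (h₁₂ := pullback.fst f₀ (pullback.fst g₀ (sp (inc hle))))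
      (h₂₂ := pullback.fst g₀ (sp (inc hle))) (v₁₃ := f₀) ?_ (pullback.lift_snd _ _ _) (IsPullback.of_hasPullback _ _)
    rw [pullback.lift_fst, ha']
    exact hcd
  exact MorphismProperty.of_isPullback h1 hi'

theorem isPullback_homOfVector {X S X' S' : Scheme.{u}} {f : X ⟶ S} {f' : X' ⟶ S'} {p : X' ⟶ X}
    {h : S' ⟶ S} (sq : IsPullback p f' f h) {n : Type u} (v : n → Γ(X, ⊤)) :
    IsPullback p (AffineSpace.homOfVector f' (fun i => p.appTop (v i)))
      (AffineSpace.homOfVector f v) (AffineSpace.map n h) := by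
  refine IsPullback.of_bot ?_ ?_ (AffineSpace.isPullback_map (n := n) h)
  · simpa using sq
  · rw [AffineSpace.comp_homOfVector, AffineSpace.map]
    apply AffineSpace.hom_ext
    · simp [sq.w]
    · intro i
      simp

theorem isZariskiLocalAtTarget_etale : IsZariskiLocalAtTarget (@Etale.{u}) := inferInstance

/-- Étale coordinates spread out. -/
theorem ev_etale_homOfVector {X X₀ : Scheme.{u}} {f : X ⟶ Spec (CommRingCat.of k)}
    {f₀ : X₀ ⟶ Spec (CommRingCat.of S)} {p : X ⟶ X₀} [LocallyOfFinitePresentation f₀] [QuasiCompact f₀]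
    (H : IsPullback p f f₀ (sv S)) (hS : S.FG) {n : Type u} [Finite n] (v : n → Γ(X₀, ⊤))
    (he : Etale (AffineSpace.homOfVector f (fun i => p.appTop (v i)))) :
    Ev S (BC f₀ (fun _ _ _ q g => Etale (AffineSpace.homOfVector g (fun i => q.appTop (v i))))) := by
  have h1 : AffineSpace.homOfVector f₀ v ≫ (𝔸(n; Spec (CommRingCat.of S)) ↘ Spec (CommRingCat.of S)) = f₀ := by
    simp
  have h2 : LocallyOfFinitePresentation (AffineSpace.homOfVector f₀ v ≫
    (𝔸(n; Spec (CommRingCat.of S)) ↘ Spec (CommRingCat.of S))) := by rw [h1]; infer_instance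
  have h3 : LocallyOfFinitePresentation (AffineSpace.homOfVector f₀ v) :=
    Groth.Agent.Flat2D.LfpComp.lfp_of_comp _ (𝔸(n; Spec (CommRingCat.of S)) ↘ Spec (CommRingCat.of S))
  have h4 : QuasiCompact (AffineSpace.homOfVector f₀ v ≫
    (𝔸(n; Spec (CommRingCat.of S)) ↘ Spec (CommRingCat.of S))) := by rw [h1]; infer_instance
  have h5 : QuasiCompact (AffineSpace.homOfVector f₀ v) :=
    MorphismProperty.of_postcomp (W := @QuasiCompact) (W' := @QuasiSeparated) _
      (𝔸(n; Spec (CommRingCat.of S)) ↘ Spec (CommRingCat.of S)) inferInstance h4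
  refine (ev_prop_over (P := @Etale) K890.EtaleDescend.descendsAffine_etale
    (AffineSpace.isPullback_map (n := n) (sv S)) (isPullback_homOfVector H v) hS ⟨h3, h5⟩ he).mono
    fun T _ φ h X' q g hq => ?_
  exact h _ _ _ _ _ _ (AffineSpace.isPullback_map (n := n) (sp φ)) (isPullback_homOfVector hq v)

end K890.Etale
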