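import Groth.Agent.DelIll.K890.Surj
import Groth.Agent.Vanish.K27.Strata
import Groth.Agent.Vanish.K911.Ncd

/-!
# The fibre of a model with normal crossing divisor at a general point, with its lifting to `W₂`

* `exists_lift_of_point`: the lifting of the fibre over `φ : S → κ` given by `ψ : S → W₂(κ)`.
* `exists_fibre` (`κ` algebraically closed), `exists_fibre_finite` (`κ` finite): everything at once.
-/

set_option autoImplicit false
universe u v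
open CategoryTheory CategoryTheory.Limits AlgebraicGeometry Opposite TopologicalSpace

namespace K890.Fibre

open K890.Spread K890.Model K890.Stage K890.Generic K890.Ncd K890.Polarized Groth.Agent LogNCD

variable {k : Type u} [Field k] {S : Subalgebra ℤ k} {X₀ : Scheme.{u}} {f₀ : X₀ ⟶ Spec (CommRingCat.of S)}

/-- The lifting to `W₂(κ)` of the fibre of a smooth model with relative normal crossing divisor. -/
theorem exists_lift_of_point [Smooth f₀] {r : ℕ} {D₀ : Fin r → X₀.IdealSheafData} (hD₀ : IsNCD D₀ f₀)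
    {ℓ : ℕ} [Fact ℓ.Prime] {κ : Type u} [CommRing κ] {φ : S →+* κ} {ψ : S →+* FrobAlg.W2 ℓ κ}
    (hψ : (FrobAlg.res ℓ κ).comp ψ = φ) {X' : Scheme.{u}} {q : X' ⟶ X₀} {g' : X' ⟶ Spec (CommRingCat.of κ)}
    (hq : IsPullback q g' f₀ (sp φ)) :
    ∃ (Xl : Scheme.{u}) (g : Xl ⟶ Spec (CommRingCat.of (FrobAlg.W2 ℓ κ))) (i : X' ⟶ Xl) (ql : Xl ⟶ X₀),
      Smooth g ∧ IsPullback i g' g (Spec.map (CommRingCat.ofHom (FrobAlg.res ℓ κ))) ∧ i ≫ ql = q ∧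
      IsPullback ql g f₀ (sp ψ) ∧ (∀ j, ((D₀ j).comap ql).comap i = (D₀ j).comap q) ∧
      IsNCD (fun j => (D₀ j).comap q) g' ∧ IsNCD (fun j => (D₀ j).comap ql) g ∧
      ∀ j, Flat (((D₀ j).comap ql).subschemeι ≫ g) := by
  have hφψ : sp φ = Spec.map (CommRingCat.ofHom (FrobAlg.res ℓ κ)) ≫ sp ψ := by
    rw [← hψ, ← Spec.map_comp]; rfl
  obtain ⟨i, hi, hi'⟩ := exists_isPullback_lift f₀ (sp ψ) _ hφψ.symm hq
  have H := IsPullback.of_hasPullback f₀ (sp ψ)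
  have hN : IsNCD (fun j => (D₀ j).comap (pullback.fst f₀ (sp ψ))) (pullback.snd f₀ (sp ψ)) :=
    K911.Ncd.isNCD_of_isPullback H hD₀
  refine ⟨_, pullback.snd f₀ (sp ψ), i, pullback.fst f₀ (sp ψ), inferInstance, hi', hi, H, fun j => ?_,
    K911.Ncd.isNCD_of_isPullback hq hD₀, hN, fun j => ?_⟩
  · rw [← Scheme.IdealSheafData.comap_comp, hi]
  · have := K27.Strata.smooth_component (pullback.snd f₀ (sp ψ)) hN j
    infer_instance

section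

variable [CharZero k]

/-- **General fibres over algebraically closed fields of large characteristic**, with their liftings to `W₂`. -/
theorem exists_fibre [Smooth f₀] {r : ℕ} {D₀ : Fin r → X₀.IdealSheafData} (hD₀ : IsNCD D₀ f₀)
    {Φ : ∀ (T : Type u) [CommRing T], (S →+* T) → Prop} (hΦ : Ev S Φ) (N : ℕ) :
    ∃ (ℓ : ℕ) (_ : Fact ℓ.Prime) (κ : Type u) (_ : Field κ) (_ : IsAlgClosed κ) (_ : CharP κ ℓ) (φ : S →+* κ)
      (X' : Scheme.{u}) (_ : X'.Over (Spec (CommRingCat.of κ))) (q : X' ⟶ X₀)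
      (Xl : Scheme.{u}) (g : Xl ⟶ Spec (CommRingCat.of (FrobAlg.W2 ℓ κ))) (i : X' ⟶ Xl) (ql : Xl ⟶ X₀),
      N < ℓ ∧ Φ κ φ ∧ IsPullback q (X' ↘ Spec (CommRingCat.of κ)) f₀ (sp φ) ∧
      Smooth g ∧ IsPullback i (X' ↘ Spec (CommRingCat.of κ)) g (Spec.map (CommRingCat.ofHom (FrobAlg.res ℓ κ))) ∧
      i ≫ ql = q ∧ (∀ j, ((D₀ j).comap ql).comap i = (D₀ j).comap q) ∧
      IsNCD (fun j => (D₀ j).comap q) (X' ↘ Spec (CommRingCat.of κ)) ∧ IsNCD (fun j => (D₀ j).comap ql) g ∧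
      ∀ j, Flat (((D₀ j).comap ql).subschemeι ≫ g) := by
  obtain ⟨ℓ, i1, κ, i2, i3, i4, φ, ψ, hN, hψ, hφ, -⟩ := hΦ.exists_algClosed_point N
  have hq := IsPullback.of_hasPullback f₀ (sp φ)
  obtain ⟨Xl, g, i, ql, h1, h2, h3, h4, h5, h6, h7, h8⟩ := exists_lift_of_point hD₀ hψ hq
  exact ⟨ℓ, i1, κ, i2, i3, i4, φ, _, ⟨pullback.snd f₀ (sp φ)⟩, pullback.fst f₀ (sp φ), Xl, g, i, ql, hN, hφ, hq, h1,
    h2, h3, h5, h6, h7, h8⟩

/-- **General fibres over finite fields of large characteristic**, with their liftings to `W₂`. -/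
theorem exists_fibre_finite [Smooth f₀] {r : ℕ} {D₀ : Fin r → X₀.IdealSheafData} (hD₀ : IsNCD D₀ f₀)
    {Φ : ∀ (T : Type u) [CommRing T], (S →+* T) → Prop} (hΦ : Ev S Φ) (N : ℕ) :
    ∃ (ℓ : ℕ) (_ : Fact ℓ.Prime) (κ : Type u) (_ : Field κ) (_ : Finite κ) (_ : CharP κ ℓ) (φ : S →+* κ)
      (X' : Scheme.{u}) (_ : X'.Over (Spec (CommRingCat.of κ))) (q : X' ⟶ X₀)
      (Xl : Scheme.{u}) (g : Xl ⟶ Spec (CommRingCat.of (FrobAlg.W2 ℓ κ))) (i : X' ⟶ Xl) (ql : Xl ⟶ X₀),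
      N < ℓ ∧ Φ κ φ ∧ IsPullback q (X' ↘ Spec (CommRingCat.of κ)) f₀ (sp φ) ∧
      Smooth g ∧ IsPullback i (X' ↘ Spec (CommRingCat.of κ)) g (Spec.map (CommRingCat.ofHom (FrobAlg.res ℓ κ))) ∧
      i ≫ ql = q ∧ (∀ j, ((D₀ j).comap ql).comap i = (D₀ j).comap q) ∧
      IsNCD (fun j => (D₀ j).comap q) (X' ↘ Spec (CommRingCat.of κ)) ∧ IsNCD (fun j => (D₀ j).comap ql) g ∧
      ∀ j, Flat (((D₀ j).comap ql).subschemeι ≫ g) := by
  obtain ⟨ℓ, i1, κ, i2, i3, i4, φ, ψ, hN, hψ, hφ, -⟩ := hΦ.exists_point N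
  have hq := IsPullback.of_hasPullback f₀ (sp φ)
  obtain ⟨Xl, g, i, ql, h1, h2, h3, h4, h5, h6, h7, h8⟩ := exists_lift_of_point hD₀ hψ hq
  exact ⟨ℓ, i1, κ, i2, i3, i4, φ, _, ⟨pullback.snd f₀ (sp φ)⟩, pullback.fst f₀ (sp φ), Xl, g, i, ql, hN, hφ, hq, h1,
    h2, h3, h5, h6, h7, h8⟩

end

end K890.Fibre
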