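import Groth.Agent.DelIll.K890.NcdModel
import Groth.Agent.Pic13.H949.GenFlat
import Groth.Agent.Pic13.H504.GenFlat
import Groth.Agent.Pic13.H504.KernelFamily
import Groth.Agent.PerfA.CohSerre
import Groth.Agent.PerfB.FlatPull
import Groth.Agent.S0018

/-!
# Generic flatness and injective maps of coherent modules over general base changes

* `ev_isFlatOver`, `ev_isFlatOverAt`: a coherent module on `X₀` is flat at almost all base changes.
* `ev_mono`: a map of coherent modules injective on `X` is injective at almost all base changes.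
-/

set_option autoImplicit false
universe u v
open CategoryTheory CategoryTheory.Limits AlgebraicGeometry Opposite TopologicalSpace

namespace K890.Flat

open K890.Spread K890.Model K890.Stage K890.Generic K890.Ncd Groth.Agent

variable {k : Type u} [Field k] {S : Subalgebra ℤ k} {X₀ : Scheme.{u}} {f₀ : X₀ ⟶ Spec (CommRingCat.of S)}

/-- **Generic flatness.** -/
theorem ev_isFlatOver [LocallyOfFiniteType f₀] [QuasiCompact f₀] (hS : S.FG) {F : X₀.Modules} (hF : Coh.IsCoh F) :
    Ev S (BC f₀ fun _ _ _ q g => FlatMod.IsFlatOver g ((Scheme.Modules.pullback q).obj F)) := by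
  let _ : X₀.Over (Spec (CommRingCat.of S)) := ⟨f₀⟩
  have h1 : LocallyOfFiniteType (X₀ ↘ Spec (CommRingCat.of S)) := ‹_›
  have h2 : CompactSpace X₀ := QuasiCompact.compactSpace_of_compactSpace f₀
  obtain ⟨a, ha, h⟩ := Pic13.H949.GenFlat.exists_flat (A := S) F hF
  refine Ev.of_isUnit hS a ha fun T _ φ hφ X' q g hq => ?_
  let _ : Algebra S T := φ.toAlgebra
  exact h T hφ hq

/-- Generic flatness, at the points in the image. -/
theorem ev_isFlatOverAt [LocallyOfFiniteType f₀] [QuasiCompact f₀] (hS : S.FG) {F : X₀.Modules}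
    (hF : Coh.IsCoh F) : Ev S (BC f₀ fun _ _ X' q _ => ∀ z : X', FlatMod.IsFlatOverAt f₀ F (q.base z)) := by
  obtain ⟨a, ha, h⟩ := Pic13.H504.GenFlat.exists_isFlatOverAt (A := CommRingCat.of S) f₀ F hF
  refine Ev.of_isUnit hS a ha fun T _ φ hφ X' q g hq z => h _ ?_
  have h1 : f₀.base (q.base z) = (sp φ).base (g.base z) := by
    rw [← Scheme.Hom.comp_apply, hq.w, Scheme.Hom.comp_apply]
  rw [h1]
  change a ∉ Ideal.comap φ (g.base z).asIdeal
  intro h
  exact (g.base z).isPrime.ne_top (Ideal.eq_top_of_isUnit_mem _ h hφ)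

/-- `Spec k → Spec S` is flat. -/
theorem flat_sv (S : Subalgebra ℤ k) : Flat (sv S) := by
  have h0 : Module.Flat S k := by
    let K := FractionRing S
    let φ : K →+* k := IsFractionRing.lift (A := S) (K := K) (L := k) (g := S.val.toRingHom) Subtype.val_injective
    let _ : Algebra K k := φ.toAlgebra
    have : IsScalarTower S K k := IsScalarTower.of_algebraMap_eq fun x =>
      (IsFractionRing.lift_algebraMap (A := S) (K := K) (L := k) (g := S.val.toRingHom) Subtype.val_injective x).symm
    exact Module.Flat.trans S K k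
  exact (HasRingHomProperty.Spec_iff (P := @Flat)).mpr h0

variable {X : Scheme.{u}} {f : X ⟶ Spec (CommRingCat.of k)} {p : X ⟶ X₀}

/-- Right exactness: `q^*` of a short exact sequence `K → G → I → 0` with `q^* K = 0`. -/
theorem isIso_pullback_map {X' : Scheme.{u}} (q : X' ⟶ X₀) (T : ShortComplex X₀.Modules) (hT : T.ShortExact)
    (h : IsZero ((Scheme.Modules.pullback q).obj T.X₁)) : IsIso ((Scheme.Modules.pullback q).map T.g) := by
  have hg : Epi T.g := hT.epi_g
  have he : Epi ((Scheme.Modules.pullback q).map T.g) := inferInstance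
  have hc : IsColimit (CokernelCofork.ofπ T.g T.zero) := hT.exact.gIsCokernel
  have hc' := CokernelCofork.mapIsColimit _ hc (Scheme.Modules.pullback q)
  have h0 : (Scheme.Modules.pullback q).map T.f = 0 := h.eq_of_src _ _
  obtain ⟨l, hl⟩ := CokernelCofork.IsColimit.desc' hc' (𝟙 _) (by rw [h0]; simp)
  have hl' : (Scheme.Modules.pullback q).map T.g ≫ l = 𝟙 _ := hl
  refine ⟨l, hl', ?_⟩
  rw [← cancel_epi ((Scheme.Modules.pullback q).map T.g), ← Category.assoc, hl', Category.id_comp, Category.comp_id]

/-- **Injective maps of coherent modules** over general base changes. -/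
theorem ev_mono [LocallyOfFinitePresentation f₀] [QuasiCompact f₀] [QuasiSeparated f₀]
    (H : IsPullback p f f₀ (sv S)) (hS : S.FG)
    {G F : X₀.Modules} (hG : Coh.IsCoh G) (hF : Coh.IsCoh F) (w : G ⟶ F)
    (hw : Mono ((Scheme.Modules.pullback p).map w)) :
    Ev S (BC f₀ fun _ _ _ q _ => Mono ((Scheme.Modules.pullback q).map w)) := by
  have hn : IsLocallyNoetherian X₀ := isLocallyNoetherian_of_fg (f₀ := f₀) hS
  have hfl : Flat p := MorphismProperty.of_isPullback H.flip (flat_sv S)
  have hK : Coh.IsCoh (kernel w) := PerfA.CohSerre.isCoh_kernel w hG hF.1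
  have hC : Coh.IsCoh (cokernel w) := PerfA.CohSerre.isCoh_cokernel w hG.1 hF
  have hZ : Coh.IsCoh (cokernel (𝟙 G)) := PerfA.CohSerre.isCoh_cokernel _ hG.1 hG
  have hZ0 : IsZero (cokernel (𝟙 G)) := isZero_cokernel_of_epi _
  -- the kernel
  have hK0 : IsZero ((Scheme.Modules.pullback p).obj (kernel w)) := by
    have h1 : (Scheme.Modules.pullback p).map (kernel.ι w) ≫ (Scheme.Modules.pullback p).map w = 0 := by
      rw [← Functor.map_comp, kernel.condition, Functor.map_zero]
    have h2 : (Scheme.Modules.pullback p).map (kernel.ι w) = 0 := by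
      rw [← cancel_mono ((Scheme.Modules.pullback p).map w), h1, zero_comp]
    have h3 : Mono ((Scheme.Modules.pullback p).map (kernel.ι w)) := PerfB.FlatPull.mono_pullback_map _ _
    exact IsZero.of_mono_eq_zero _ h2
  have e1 := ev_iso H hS ((S0018.result X₀ _).mp hK) ((S0018.result X₀ _).mp hZ)
    ⟨hK0.iso (Functor.map_isZero _ hZ0)⟩
  refine (e1.and (ev_isFlatOverAt (f₀ := f₀) hS hC)).mono fun T _ φ h X' q g hq => ?_
  obtain ⟨⟨e⟩, h2⟩ := And.intro (h.1 X' q g hq) (h.2 X' q g hq)
  have hz : IsZero ((Scheme.Modules.pullback q).obj (kernel w)) := (Functor.map_isZero _ hZ0).of_iso e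
  -- the two short exact sequences
  let T₁ : ShortComplex X₀.Modules := ShortComplex.mk (kernel.ι w) (Abelian.factorThruImage w) (by
    rw [← cancel_mono (Abelian.image.ι w), Category.assoc, Abelian.image.fac, kernel.condition, zero_comp])
  have hT₁ : T₁.ShortExact := by
    refine ShortComplex.ShortExact.mk' ?_ (by dsimp [T₁]; infer_instance) (by dsimp [T₁]; infer_instance)
    refine ShortComplex.exact_of_f_is_kernel _ ?_
    refine KernelFork.IsLimit.ofι _ _ (fun a ha => kernel.lift w a ?_) (fun a ha => kernel.lift_ι _ _ _)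
      (fun a ha b hb => ?_)
    · conv_lhs => rw [← Abelian.image.fac w, ← Category.assoc]
      have : a ≫ Abelian.factorThruImage w = 0 := ha
      rw [this, zero_comp]
    · rw [← cancel_mono (kernel.ι w), kernel.lift_ι]
      exact hb
  let T₂ : ShortComplex X₀.Modules := ShortComplex.mk (Abelian.image.ι w) (cokernel.π w) (by simp)
  have hT₂ : T₂.ShortExact := by
    refine ShortComplex.ShortExact.mk' ?_ (by dsimp [T₂]; infer_instance) (by dsimp [T₂]; infer_instance)
    exact ShortComplex.exact_of_f_is_kernel _ (kernelIsKernel _)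
  have m1 : IsIso ((Scheme.Modules.pullback q).map (Abelian.factorThruImage w)) := isIso_pullback_map q T₁ hT₁ hz
  have m2 : Mono ((Scheme.Modules.pullback q).map (Abelian.image.ι w)) :=
    Pic13.H504.KernelFamily.mono_pullback_map hq T₂ hT₂ h2
  have h5 : (Scheme.Modules.pullback q).map w = (Scheme.Modules.pullback q).map (Abelian.factorThruImage w) ≫
      (Scheme.Modules.pullback q).map (Abelian.image.ι w) := by
    rw [← Functor.map_comp, Abelian.image.fac]
  rw [h5]
  infer_instance

end K890.Flat
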