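import Groth.Agent.DelIll.K890.Model
import Groth.Agent.S1025
import Groth.Agent.S0016
import Groth.Agent.S0012
import Groth.Agent.CohqA.AffPush
import Groth.Agent.Pic13.H952.FibrePt
import Mathlib.AlgebraicGeometry.FunctionField

/-!
# Generic behaviour near the generic point of `Spec S`; Betti numbers

* `ev_of_nhds`: the points of `Spec T` go to a given neighbourhood of the generic point of `Spec S`.
* `ev_betti`: Betti numbers of the fibres at the images of the points of `Spec T` are those of the generic fibre.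
* `ev_finrank`: `dim_κ H^b(X', q^* F) = dim_k H^b(X, p^* F)` for base changes to fields.
-/

set_option autoImplicit false
universe u v
open CategoryTheory CategoryTheory.Limits AlgebraicGeometry Opposite Topology

namespace K890.Generic

open K890.Spread K890.Model

section Nhds

variable {k : Type u} [Field k] (S : Subalgebra ℤ k)

theorem sv_apply (x : Spec (CommRingCat.of k)) : sv S x = genericPoint (Spec (CommRingCat.of S)) := by
  rw [genericPoint_eq_bot_of_affine]
  apply PrimeSpectrum.ext
  have hx : x.asIdeal = ⊥ := by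
    rcases Ideal.eq_bot_or_top x.asIdeal with h | h
    · exact h
    · exact absurd h x.isPrime.ne_top
  change Ideal.comap (S.val.toRingHom) x.asIdeal = ⊥
  rw [hx, ← RingHom.ker_eq_comap_bot, RingHom.ker_eq_bot_iff_eq_zero]
  intro a ha
  exact Subtype.ext ha

variable {S}

/-- The points of `Spec T` go to a given neighbourhood of the generic point. -/
theorem ev_of_nhds (hS : S.FG) {V : Set (Spec (CommRingCat.of S))}
    (hV : V ∈ 𝓝 (genericPoint (Spec (CommRingCat.of S)))) :
    Ev S (fun _ _ φ => ∀ y, sp φ y ∈ V) := by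
  obtain ⟨U, hUV, hU, hη⟩ := mem_nhds_iff.mp hV
  obtain ⟨_, ⟨s, rfl⟩, hs, hle⟩ := PrimeSpectrum.isTopologicalBasis_basic_opens.exists_subset_of_mem_open hη hU
  rw [genericPoint_eq_bot_of_affine] at hs
  refine Ev.of_isUnit hS s ?_ fun T _ φ hφ y => hUV (hle ?_)
  · rintro rfl
    simp at hs
  · change s ∉ Ideal.comap φ y.asIdeal
    intro h
    exact y.isPrime.ne_top (Ideal.eq_top_of_isUnit_mem _ h hφ)

end Nhds

section OnField

variable {k : Type u} [Field k] {S : Subalgebra ℤ k}

/-- A property of homomorphisms to fields, as a property of homomorphisms to rings: it holds for all identifications of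
the ring with a field. -/
def OnField (Φ : ∀ (κ : Type u) [Field κ], (S →+* κ) → Prop) : ∀ (T : Type u) [CommRing T], (S →+* T) → Prop :=
  fun T _ φ => ∀ (κ : Type u) [Field κ] (e : T ≃+* κ), Φ κ ((e : T →+* κ).comp φ)

theorem OnField.apply {Φ : ∀ (κ : Type u) [Field κ], (S →+* κ) → Prop} {κ : Type u} [Field κ] {φ : S →+* κ}
    (h : OnField Φ κ φ) : Φ κ φ := h κ (RingEquiv.refl κ)

/-- To prove a property for general homomorphisms to fields from a general property of rings. -/
theorem onField_of_ev {Φ : ∀ (κ : Type u) [Field κ], (S →+* κ) → Prop}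
    {Ψ : ∀ (T : Type u) [CommRing T], (S →+* T) → Prop} (h : Ev S Ψ)
    (hΦ : ∀ (κ : Type u) [Field κ] (φ : S →+* κ), Ψ κ φ → Φ κ φ) : Ev S (OnField Φ) := by
  obtain ⟨S', hle, s, hfg, hs, H⟩ := h
  refine ⟨S', hle, s, hfg, hs, fun T _ φ hφ κ _ e => hΦ κ _ ?_⟩
  have := H κ ((e : T →+* κ).comp φ) (by
    rw [RingHom.comp_apply]
    exact hφ.map (e : T →+* κ))
  rwa [RingHom.comp_assoc] at this

end OnField

section Betti

variable {k : Type u} [Field k] {S : Subalgebra ℤ k} {X₀ : Scheme.{u}} {f₀ : X₀ ⟶ Spec (CommRingCat.of S)}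

theorem betti_le_of_isFlat [IsProper f₀] [LocallyOfFinitePresentation f₀] {F : X₀.Modules} (hF : CohB1.IsFP F)
    (hfl : FlatMod.IsFlatOver f₀ F) (b : ℕ) (y : Spec (CommRingCat.of S)) :
    PerfAux.betti f₀ F (genericPoint (Spec (CommRingCat.of S))) b ≤ PerfAux.betti f₀ F y b := by
  by_contra hc
  push Not at hc
  have h1 := Groth.Agent.S1025.result f₀ F hF hfl b
    (PerfAux.betti f₀ F (genericPoint (Spec (CommRingCat.of S))) b)
  have h2 : genericPoint (Spec (CommRingCat.of S)) ∈ {s : Spec (CommRingCat.of S) |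
      PerfAux.betti f₀ F s b < PerfAux.betti f₀ F (genericPoint (Spec (CommRingCat.of S))) b} :=
    (genericPoint_specializes y).mem_open h1 hc
  exact (lt_irrefl (PerfAux.betti f₀ F (genericPoint (Spec (CommRingCat.of S))) b)) h2

/-- The Betti numbers at the images of the points of `Spec T` are those of the generic fibre. -/
theorem ev_betti [IsProper f₀] [LocallyOfFinitePresentation f₀] (hS : S.FG) {F : X₀.Modules} (hF : CohB1.IsFP F)
    (hfl : FlatMod.IsFlatOver f₀ F) (b : ℕ) :
    Ev S (fun _ _ φ => ∀ y, PerfAux.betti f₀ F (sp φ y) b =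
      PerfAux.betti f₀ F (genericPoint (Spec (CommRingCat.of S))) b) := by
  have h1 := Groth.Agent.S1025.result f₀ F hF hfl b
    (PerfAux.betti f₀ F (genericPoint (Spec (CommRingCat.of S))) b + 1)
  refine (ev_of_nhds hS (h1.mem_nhds (Nat.lt_succ_self _))).mono fun T _ φ h y => le_antisymm ?_ ?_
  · exact Nat.lt_succ_iff.mp (h y)
  · exact betti_le_of_isFlat hF hfl b _

variable {X : Scheme.{u}} [X.Over (Spec (CommRingCat.of k))] {p : X ⟶ X₀}

/-- The cohomology of a flat family over a general point has the dimension of that of the generic one. -/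
theorem ev_finrank [IsProper f₀] [LocallyOfFinitePresentation f₀]
    (H : IsPullback p (X ↘ Spec (CommRingCat.of k)) f₀ (sv S)) (hS : S.FG) {F : X₀.Modules} (hF : CohB1.IsFP F)
    (hfl : FlatMod.IsFlatOver f₀ F) (b : ℕ) :
    Ev S (OnField fun κ _ φ => ∀ (X' : Scheme.{u}) [X'.Over (Spec (CommRingCat.of κ))] (q : X' ⟶ X₀),
      IsPullback q (X' ↘ Spec (CommRingCat.of κ)) f₀ (sp φ) →
      Module.finrank κ (Coh.HH X' ((Scheme.Modules.pullback q).obj F) b) =
        Module.finrank k (Coh.HH X ((Scheme.Modules.pullback p).obj F) b)) := by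
  have hq : Coh.IsQCoh F := Groth.Agent.Models2.FPCoh.isQCoh_of_isFP hF
  refine onField_of_ev (ev_betti hS hF hfl b) fun κ _ φ h X' _ q Hq => ?_
  let y : Spec (CommRingCat.of κ) := IsLocalRing.closedPoint κ
  let x : Spec (CommRingCat.of k) := IsLocalRing.closedPoint k
  rw [Groth.Agent.Pic13.H952.FibrePt.finrank_eq_betti f₀ (sp φ) q Hq (sp φ y) ⟨y, rfl⟩ F hq b,
    Groth.Agent.Pic13.H952.FibrePt.finrank_eq_betti f₀ (sv S) p H (sv S x) ⟨x, rfl⟩ F hq b, h y, sv_apply]

/-- All at once. -/
theorem ev_finrank_all [IsProper f₀] [LocallyOfFinitePresentation f₀]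
    (H : IsPullback p (X ↘ Spec (CommRingCat.of k)) f₀ (sv S)) (hS : S.FG) {F : X₀.Modules} (hF : CohB1.IsFP F)
    (hfl : FlatMod.IsFlatOver f₀ F) :
    Ev S (OnField fun κ _ φ => ∀ (X' : Scheme.{u}) [X'.Over (Spec (CommRingCat.of κ))] (q : X' ⟶ X₀),
      IsPullback q (X' ↘ Spec (CommRingCat.of κ)) f₀ (sp φ) → ∀ b : ℕ,
      Module.finrank κ (Coh.HH X' ((Scheme.Modules.pullback q).obj F) b) =
        Module.finrank k (Coh.HH X ((Scheme.Modules.pullback p).obj F) b)) := by
  have hq : Coh.IsQCoh F := Groth.Agent.Models2.FPCoh.isQCoh_of_isFP hF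
  have c1 : CompactSpace X₀ := QuasiCompact.compactSpace_of_compactSpace f₀
  have c2 : QuasiSeparatedSpace X₀ := quasiSeparatedSpace_of_quasiSeparated f₀
  obtain ⟨d, hd⟩ := Groth.Agent.S0016.result X₀
  have hvan : ∀ (T : Type u) [CommRing T] (φ : S →+* T) (X' : Scheme.{u}) (q : X' ⟶ X₀)
      (g : X' ⟶ Spec (CommRingCat.of T)), IsPullback q g f₀ (sp φ) → ∀ b : ℕ, d ≤ b →
      Subsingleton (Coh.HH X' ((Scheme.Modules.pullback q).obj F) b) := by
    intro T _ φ X' q g Hq b hb
    have haff : IsAffineHom q := MorphismProperty.of_isPullback Hq.flip inferInstance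
    have hqc : Coh.IsQCoh ((Scheme.Modules.pullback q).obj F) :=
      Groth.Agent.VarietyB.PullSec.isQCoh_pullback _ F hq
    obtain ⟨e⟩ := Groth.Agent.S0012.result q ((Scheme.Modules.pullback q).obj F) b
    have := hd _ (Groth.Agent.CohqA.AffPush.isQCoh_push q _ hqc) b hb
    exact e.injective.subsingleton
  have h1 := Ev.all_finite hS (ι := Fin d) fun b => ev_finrank H hS hF hfl b.1
  refine h1.mono fun T _ φ h κ _ e X' _ q Hq b => ?_
  by_cases hb : b < d
  · exact h ⟨b, hb⟩ κ e X' q Hq
  · push Not at hb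
    have s1 := hvan κ _ X' q _ Hq b hb
    have s2 := hvan k S.val.toRingHom X p _ H b hb
    rw [Module.finrank_zero_of_subsingleton, Module.finrank_zero_of_subsingleton]

end Betti

end K890.Generic
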