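import Groth.Agent.Htor.H253.CechHyper
import Groth.Agent.LoccohB.HomCls

/-!
# Morphisms in the derived category as cohomology classes of the Hom complex

`P` a complex in degrees `≤ 0`, `K` a complex in degrees `≥ a`, with `Ext^{q+1}(P^i, K^j) = 0` for all `i, j, q`.
Then `hcls : Cocycle P K n → Hom(Q P, (Q K)⟦n⟧)` is surjective, with kernel the coboundaries.
-/

set_option autoImplicit false

universe w w' v u

open CategoryTheory CategoryTheory.Limits CochainComplex CochainComplex.HomComplex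

namespace K890.HomRes

open Groth.Agent.Htor.H253.HomCone Groth.Agent.LoccohB.HomCls Groth.Agent.PerfC.AcyclicBdd

section Van

variable {A : Type u} [Category.{v} A] [Abelian A] [HasExt.{w} A]
  {P M : CochainComplex A ℤ}

/-- one step of the construction of a null-homotopy -/
lemma exists_step (hM : M.Acyclic) (a : ℤ) (ha : ∀ i, i < a → IsZero (M.X i))
    (hE : ∀ i j, ExtAcyc (P.X i) (M.X j)) {n : ℤ} (z : Cocycle P M n) (p : ℤ)
    (hz : ∀ p' q' (h : p' + n = q'), p < p' → z.1.v p' q' h = 0) :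
    ∃ y : Cochain P M (n - 1), ∀ p' q' (h : p' + n = q'), p ≤ p' →
      (z.1 - δ (n - 1) n y).v p' q' h = 0 := by
  have h1 : z.1.v p (p + n) rfl ≫ M.d (p + n) (p + n + 1) = 0 := by
    have h2 := Cochain.congr_v (z.δ_eq_zero (n + 1)) p (p + n + 1) (by lia)
    rw [δ_v n (n + 1) rfl z.1 p (p + n + 1) (by lia) (p + n) (p + 1) (by lia) rfl,
      hz (p + 1) (p + n + 1) (by lia) (by lia), comp_zero, smul_zero, add_zero] at h2
    exact h2
  obtain ⟨g, hg⟩ := exists_lift_d M a ha hM (fun i => hE p i) (p + n - 1) (p + n) (p + n + 1)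
    (by lia) rfl (z.1.v p (p + n) rfl) h1
  refine ⟨Cochain.single g (n - 1), fun p' q' h hp' => ?_⟩
  subst h
  rw [Cochain.sub_v, δ_v (n - 1) n (by lia) _ p' (p' + n) rfl (p' + n - 1) (p' + 1) (by lia) rfl]
  have h3 : (Cochain.single g (n - 1)).v (p' + 1) (p' + n) (by lia) = 0 :=
    Cochain.single_v_eq_zero _ _ _ _ _ (by lia)
  rw [h3, comp_zero, smul_zero, add_zero]
  rcases eq_or_lt_of_le hp' with rfl | hlt
  · rw [Cochain.single_v, hg, sub_self]
  · rw [hz p' _ rfl hlt, Cochain.single_v_eq_zero _ _ _ _ _ (by lia), zero_comp, sub_zero]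

theorem mem_coboundaries (hP : ∀ i, 0 < i → IsZero (P.X i)) (hM : M.Acyclic) (a : ℤ)
    (ha : ∀ i, i < a → IsZero (M.X i)) (hE : ∀ i j, ExtAcyc (P.X i) (M.X j)) {n : ℤ}
    (z : Cocycle P M n) : ∃ y : Cochain P M (n - 1), δ (n - 1) n y = z.1 := by
  have key : ∀ m : ℕ, ∃ y : Cochain P M (n - 1), ∀ p' q' (h : p' + n = q'), -(m : ℤ) < p' →
      (z.1 - δ (n - 1) n y).v p' q' h = 0 := by
    intro m
    induction m with
    | zero =>
      exact ⟨0, fun p' q' h hp' => (hP p' (by simpa using hp')).eq_of_src _ _⟩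
    | succ m ih =>
      obtain ⟨y, hy⟩ := ih
      let z' : Cocycle P M n := Cocycle.mk (z.1 - δ (n - 1) n y) (n + 1) rfl (by
        rw [δ_sub, z.δ_eq_zero, δ_δ, sub_zero])
      obtain ⟨y', hy'⟩ := exists_step hM a ha hE z' (-(m : ℤ)) hy
      refine ⟨y + y', fun p' q' h hp' => ?_⟩
      have h1 := hy' p' q' h (by push_cast at hp'; lia)
      rw [δ_add, ← sub_sub]
      exact h1
  obtain ⟨y, hy⟩ := key (n - a + 1).toNat
  refine ⟨y, ?_⟩
  rw [eq_comm, ← sub_eq_zero]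
  ext p q hpq
  by_cases h : -(((n - a + 1).toNat : ℕ) : ℤ) < p
  · rw [hy p q hpq h, Cochain.zero_v]
  · exact (ha q (by lia)).eq_of_tgt _ _

end Van

section Bij

variable {A : Type u} [Category.{v} A] [Abelian A] [HasExt.{w} A]
  {P K I : CochainComplex A ℤ}

/-- the cone of a quasi-isomorphism between bounded below complexes of acyclic objects -/
lemma mem_coboundaries_cone (φ : K ⟶ I) [QuasiIso φ] (hP : ∀ i, 0 < i → IsZero (P.X i)) (a : ℤ)
    (hKa : ∀ i, i < a → IsZero (K.X i)) (hIa : ∀ i, i < a → IsZero (I.X i))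
    (hK : ∀ i j, ExtAcyc (P.X i) (K.X j)) (hI : ∀ i j, ExtAcyc (P.X i) (I.X j)) {n : ℤ}
    (z : Cocycle P (mappingCone φ) n) :
    ∃ y : Cochain P (mappingCone φ) (n - 1), δ (n - 1) n y = z.1 := by
  have hφ : (mappingCone φ).Acyclic := (quasiIso_iff_acyclic_mappingCone φ).1 inferInstance
  have hid : ∀ i : ℤ, (mappingCone.fst φ).1.v i (i + 1) rfl ≫ (mappingCone.inl φ).v (i + 1) i (by lia) +
      (mappingCone.snd φ).v i i (add_zero i) ≫ (mappingCone.inr φ).f i = 𝟙 ((mappingCone φ).X i) :=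
    fun i => mappingCone.id_X φ i (i + 1) rfl
  have hz : ∀ i, i < a - 1 → IsZero ((mappingCone φ).X i) := by
    intro i hi
    rw [IsZero.iff_id_eq_zero, ← hid i, (hKa (i + 1) (by lia)).eq_of_tgt ((mappingCone.fst φ).1.v i (i + 1) rfl) 0,
      (hIa i (by lia)).eq_of_tgt ((mappingCone.snd φ).v i i (add_zero i)) 0]
    simp
  have hE : ∀ i j, ExtAcyc (P.X i) ((mappingCone φ).X j) := fun i j =>
    extAcyc_of_sum (hK i (j + 1)) (hI i j) _ _ _ _ (hid j)
  exact mem_coboundaries hP hφ (a - 1) hz hE z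

/-- injectivity on cohomology of `Hom(P, K) → Hom(P, I)` -/
lemma exists_of_comp (φ : K ⟶ I) [QuasiIso φ] (hP : ∀ i, 0 < i → IsZero (P.X i)) (a : ℤ)
    (hKa : ∀ i, i < a → IsZero (K.X i)) (hIa : ∀ i, i < a → IsZero (I.X i))
    (hK : ∀ i j, ExtAcyc (P.X i) (K.X j)) (hI : ∀ i j, ExtAcyc (P.X i) (I.X j)) {n : ℤ}
    (z : Cocycle P K n) (w : Cochain P I (n - 1))
    (hw : δ (n - 1) n w = z.1.comp (Cochain.ofHom φ) (add_zero n)) :
    ∃ y : Cochain P K (n - 1), δ (n - 1) n y = z.1 := by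
  let u : Cocycle P (mappingCone φ) (n - 1) := Cocycle.mk
    (z.1.comp (mappingCone.inl φ) (by lia) - w.comp (Cochain.ofHom (mappingCone.inr φ)) (add_zero _)) n
    (by lia) (by
      rw [δ_sub, δ_comp_ofHom, hw, δ_comp z.1 (mappingCone.inl φ) _ (n + 1) 0 n (by lia) rfl (by lia),
        mappingCone.δ_inl, z.δ_eq_zero, Cochain.zero_comp, smul_zero, add_zero,
        Cochain.comp_assoc_of_second_is_zero_cochain, ← Cochain.ofHom_comp, sub_self])
  obtain ⟨v, hv⟩ := mem_coboundaries_cone φ hP a hKa hIa hK hI u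
  have h1 : u.1.comp (mappingCone.fst φ).1 (show n - 1 + 1 = n by lia) = z.1 := by
    change (z.1.comp (mappingCone.inl φ) _ - w.comp (Cochain.ofHom (mappingCone.inr φ)) (add_zero _)).comp
      (mappingCone.fst φ).1 _ = z.1
    rw [Cochain.sub_comp, Cochain.comp_assoc z.1 (mappingCone.inl φ) _ (by lia) (show -1 + (1 : ℤ) = 0 by lia)
      (by lia), mappingCone.inl_fst, Cochain.comp_id, Cochain.comp_assoc_of_second_is_zero_cochain,
      mappingCone.inr_fst, Cochain.comp_zero, sub_zero]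
  refine ⟨-(v.comp (mappingCone.fst φ).1 (show n - 1 - 1 + 1 = n - 1 by lia)), ?_⟩
  rw [δ_neg, δ_comp v (mappingCone.fst φ).1 _ (n - 1) 2 n (by lia) (by lia) rfl, Cocycle.δ_eq_zero,
    Cochain.comp_zero, zero_add, Int.negOnePow_one, Units.neg_smul, one_smul, neg_neg, hv, h1]

/-- surjectivity on cohomology of `Hom(P, K) → Hom(P, I)` -/
lemma exists_comp_add (φ : K ⟶ I) [QuasiIso φ] (hP : ∀ i, 0 < i → IsZero (P.X i)) (a : ℤ)
    (hKa : ∀ i, i < a → IsZero (K.X i)) (hIa : ∀ i, i < a → IsZero (I.X i))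
    (hK : ∀ i j, ExtAcyc (P.X i) (K.X j)) (hI : ∀ i j, ExtAcyc (P.X i) (I.X j)) {n : ℤ}
    (w : Cocycle P I n) :
    ∃ (z : Cocycle P K n) (y : Cochain P I (n - 1)),
      w.1 = z.1.comp (Cochain.ofHom φ) (add_zero n) + δ (n - 1) n y := by
  obtain ⟨v, hv⟩ := mem_coboundaries_cone φ hP a hKa hIa hK hI (w.postcomp (mappingCone.inr φ))
  have hv' : δ (n - 1) n v = w.1.comp (Cochain.ofHom (mappingCone.inr φ)) (add_zero n) := hv
  refine ⟨Cocycle.mk (v.comp (mappingCone.fst φ).1 (show n - 1 + 1 = n by lia)) (n + 1) rfl ?_,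
    v.comp (mappingCone.snd φ) (add_zero _), ?_⟩
  · rw [δ_comp v (mappingCone.fst φ).1 _ n 2 (n + 1) rfl (by lia) rfl, Cocycle.δ_eq_zero,
      Cochain.comp_zero, zero_add, hv', Cochain.comp_assoc_of_second_is_zero_cochain, mappingCone.inr_fst,
      Cochain.comp_zero, smul_zero]
  · have h1 : (δ (n - 1) n v).comp (mappingCone.snd φ) (add_zero n) = w.1 := by
      rw [hv', Cochain.comp_assoc_of_second_is_zero_cochain, mappingCone.inr_snd, Cochain.comp_id]
    rw [δ_comp_zero_cochain _ _ n (by lia), mappingCone.δ_snd, h1]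
    change _ = (v.comp (mappingCone.fst φ).1 (show n - 1 + 1 = n by lia)).comp (Cochain.ofHom φ) (add_zero n) + _
    rw [Cochain.comp_neg, Cochain.comp_assoc_of_third_is_zero_cochain]
    abel

end Bij

section Main

variable {A : Type u} [Category.{v} A] [Abelian A] [HasExt.{w} A] [HasDerivedCategory.{w'} A]
  {P K I : CochainComplex A ℤ}

theorem hcls_surjective (φ : K ⟶ I) [QuasiIso φ] [I.IsKInjective] (hP : ∀ i, 0 < i → IsZero (P.X i)) (a : ℤ)
    (hKa : ∀ i, i < a → IsZero (K.X i)) (hIa : ∀ i, i < a → IsZero (I.X i))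
    (hK : ∀ i j, ExtAcyc (P.X i) (K.X j)) (hI : ∀ i j, ExtAcyc (P.X i) (I.X j)) (n : ℤ) :
    Function.Surjective (hcls : Cocycle P K n → _) := by
  intro x
  obtain ⟨w, hw⟩ := Groth.Agent.LoccohB.HomCls.hcls_surjective (K := P) (L := I) (n := n)
    (x ≫ (DerivedCategory.Q.map φ)⟦n⟧')
  obtain ⟨z, y, hz⟩ := exists_comp_add φ hP a hKa hIa hK hI w
  refine ⟨z, ?_⟩
  rw [← cancel_mono ((DerivedCategory.Q.map φ)⟦n⟧'), ← hcls_postcomp, ← hw, ← sub_eq_zero, ← hcls_sub]
  refine hcls_eq_zero_of_mem _ ((mem_coboundaries_iff _ (n - 1) (by lia)).2 ⟨-y, ?_⟩)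
  rw [δ_neg]
  change _ = z.1.comp (Cochain.ofHom φ) (add_zero n) - w.1
  rw [hz]
  abel

theorem hcls_eq_zero_iff (φ : K ⟶ I) [QuasiIso φ] [I.IsKInjective] (hP : ∀ i, 0 < i → IsZero (P.X i)) (a : ℤ)
    (hKa : ∀ i, i < a → IsZero (K.X i)) (hIa : ∀ i, i < a → IsZero (I.X i))
    (hK : ∀ i j, ExtAcyc (P.X i) (K.X j)) (hI : ∀ i j, ExtAcyc (P.X i) (I.X j)) {n : ℤ} (z : Cocycle P K n) :
    hcls z = 0 ↔ ∃ y : Cochain P K (n - 1), δ (n - 1) n y = z.1 := by
  constructor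
  · intro h
    have h1 : hcls (z.postcomp φ) = 0 := by rw [hcls_postcomp, h, zero_comp]
    rw [Groth.Agent.LoccohB.HomCls.hcls_eq_zero_iff, mem_coboundaries_iff _ (n - 1) (by lia)] at h1
    obtain ⟨w, hw⟩ := h1
    exact exists_of_comp φ hP a hKa hIa hK hI z w hw
  · intro h
    exact hcls_eq_zero_of_mem z ((mem_coboundaries_iff _ (n - 1) (by lia)).2 h)

end Main

end K890.HomRes
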