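import Groth.Agent.DelIll.K890.Ncd

/-!
# Ideal sheaves descend to a stage

* `exists_ideal_stage`: an ideal sheaf on `X` is the inverse image of an ideal sheaf on `X₀ ×_S S'` for some finitely
  generated `S' ≥ S`; `exists_ideals_stage`: the same for finite families;
* `ev_ideal_comap_le`, `ev_ideal_comap_eq`: inclusions and equalities of ideal sheaves spread out.
-/

set_option autoImplicit false
universe u v
open CategoryTheory CategoryTheory.Limits AlgebraicGeometry Opposite TopologicalSpace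

namespace K890.IdealStage

open K890.Spread K890.Model K890.Stage K890.Ncd Groth.Agent.Divis.IdealComap

variable {k : Type u} [Field k] {S : Subalgebra ℤ k} {X X₀ : Scheme.{u}} {f : X ⟶ Spec (CommRingCat.of k)}
  {f₀ : X₀ ⟶ Spec (CommRingCat.of S)} {p : X ⟶ X₀}

theorem exists_finite_affine (Y : Scheme.{u}) [CompactSpace Y] :
    ∃ s : Set Y.affineOpens, s.Finite ∧ ∀ y : Y, ∃ U ∈ s, y ∈ U.1 := by
  choose U hU using fun y : Y => exists_affine_mem y ⊤ trivial
  obtain ⟨t, ht⟩ := isCompact_univ.elim_finite_subcover (fun y => ((U y).1 : Set Y)) (fun y => (U y).1.2)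
    fun y _ => Set.mem_iUnion.mpr ⟨y, (hU y).1⟩
  refine ⟨U '' t, t.finite_toSet.image U, fun y => ?_⟩
  obtain ⟨x, hx, hy⟩ := Set.mem_iUnion₂.mp (ht (Set.mem_univ y))
  exact ⟨U x, ⟨x, hx, rfl⟩, hy⟩

/-- An ideal sheaf on `X` comes from all late stages. -/
theorem exists_ideal_map [LocallyOfFiniteType f₀] [QuasiCompact f₀] (H : IsPullback p f f₀ (sv S)) (hS : S.FG)
    (D : X.IdealSheafData) :
    ∃ (S' : Subalgebra ℤ k) (h : S ≤ S') (_ : S'.FG), ∀ (S'' : Subalgebra ℤ k) (h' : S' ≤ S''),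
      (D.map (up H (h.trans h'))).comap (up H (h.trans h')) = D := by
  classical
  have hp : IsAffineHom p := MorphismProperty.of_isPullback H.flip inferInstance
  have hf : LocallyOfFiniteType f := MorphismProperty.of_isPullback H inferInstance
  have hX : IsLocallyNoetherian X := LocallyOfFiniteType.isLocallyNoetherian f
  have hcX₀ : CompactSpace X₀ := QuasiCompact.compactSpace_of_compactSpace f₀
  obtain ⟨s, hs, hcov⟩ := exists_finite_affine X₀
  let _ : Fintype s := hs.fintype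
  have hfg : ∀ U : s, ∃ (n : ℕ) (g : Fin n → Γ(X, p ⁻¹ᵁ U.1.1)),
      Ideal.span (Set.range g) = D.ideal ⟨p ⁻¹ᵁ U.1.1, U.1.2.preimage p⟩ := fun U => by
    obtain ⟨n, g, hg⟩ := Submodule.fg_iff_exists_fin_generating_family.mp
      (ideal_fg D ⟨p ⁻¹ᵁ U.1.1, U.1.2.preimage p⟩)
    exact ⟨n, g, hg⟩
  choose n g hg using hfg
  choose F hF hFG hN using fun U : s => exists_sections H hS U.1.2 (g U)
  obtain ⟨S₁, h₁, hfg₁, hS₁⟩ := exists_sup (Finset.univ : Finset s) F hFG hS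
  refine ⟨S₁, h₁, hfg₁, fun S₂ h₂ => le_antisymm ?_ ?_⟩
  · exact Scheme.IdealSheafData.comap_map_le _ _
  · have h12 : S ≤ S₂ := h₁.trans h₂
    have hup : IsAffineHom (up H h12) := MorphismProperty.of_isPullback (isPullback_up H h12).flip inferInstance
    refine Scheme.IdealSheafData.le_of_iSup_eq_top (ι := s) (fun U => ⟨p ⁻¹ᵁ U.1.1, U.1.2.preimage p⟩) ?_ fun U => ?_
    · rw [eq_top_iff]
      intro x _
      obtain ⟨U, hU, hx⟩ := hcov (p x)
      exact Opens.mem_iSup.mpr ⟨⟨U, hU⟩, hx⟩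
    · have hle : F U ≤ S₂ := (hS₁ U (Finset.mem_univ U)).trans h₂
      obtain ⟨t, ht⟩ := hN U S₂ hle
      let W : (St f₀ h12).affineOpens := ⟨pr f₀ h12 ⁻¹ᵁ U.1.1, U.1.2.preimage _⟩
      have e : p ⁻¹ᵁ U.1.1 ≤ up H h12 ⁻¹ᵁ W.1 := le_up H h12 U.1.1
      have e' : up H h12 ⁻¹ᵁ W.1 ≤ p ⁻¹ᵁ U.1.1 := by
        change up H h12 ⁻¹ᵁ pr f₀ h12 ⁻¹ᵁ U.1.1 ≤ _
        rw [← Scheme.Hom.comp_preimage, up_pr]
      rw [ideal_comap _ (up H h12) W ⟨p ⁻¹ᵁ U.1.1, U.1.2.preimage p⟩ e, ← hg U, Ideal.span_le]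
      rintro _ ⟨l, rfl⟩
      rw [← ht l]
      refine Ideal.mem_map_of_mem _ ?_
      rw [Scheme.IdealSheafData.ideal_map_of_isAffineHom, Ideal.mem_comap]
      have h3 := D.map_ideal (U := ⟨up H h12 ⁻¹ᵁ W.1, W.2.preimage _⟩) (V := ⟨p ⁻¹ᵁ U.1.1, U.1.2.preimage p⟩) e'
      rw [← h3]
      have h4 : (up H h12).app W.1 (t l) = X.presheaf.map (homOfLE e').op (g U l) := by
        rw [← ht l]
        change _ = ((up H h12).appLE W.1 (p ⁻¹ᵁ U.1.1) e ≫ X.presheaf.map (homOfLE e').op) (t l)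
        rw [Scheme.Hom.appLE_map, Scheme.Hom.appLE_eq_app]
      change (up H h12).app W.1 (t l) ∈ _
      rw [h4]
      refine Ideal.mem_map_of_mem _ ?_
      rw [← hg U]
      exact Ideal.subset_span ⟨l, rfl⟩

/-- A finite family of ideal sheaves on `X` comes from a stage. -/
theorem exists_ideals_stage [LocallyOfFiniteType f₀] [QuasiCompact f₀] (H : IsPullback p f f₀ (sv S)) (hS : S.FG)
    {ι : Type v} [Finite ι] (D : ι → X.IdealSheafData) :
    ∃ (S' : Subalgebra ℤ k) (h : S ≤ S') (_ : S'.FG) (D₀ : ι → (St f₀ h).IdealSheafData),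
      ∀ i, (D₀ i).comap (up H h) = D i := by
  classical
  have := Fintype.ofFinite ι
  choose F hF hFG hN using fun i => exists_ideal_map H hS (D i)
  obtain ⟨S₁, h₁, hfg₁, hS₁⟩ := exists_sup (Finset.univ : Finset ι) F hFG hS
  exact ⟨S₁, h₁, hfg₁, fun i => (D i).map (up H h₁), fun i => hN i S₁ (hS₁ i (Finset.mem_univ i))⟩

theorem exists_ideal_stage [LocallyOfFiniteType f₀] [QuasiCompact f₀] (H : IsPullback p f f₀ (sv S)) (hS : S.FG)
    (D : X.IdealSheafData) :
    ∃ (S' : Subalgebra ℤ k) (h : S ≤ S') (_ : S'.FG) (D₀ : (St f₀ h).IdealSheafData), D₀.comap (up H h) = D := by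
  obtain ⟨S', h, hfg, D₀, h1⟩ := exists_ideals_stage H hS (fun _ : Unit => D)
  exact ⟨S', h, hfg, D₀ (), h1 ()⟩

/-- Inclusions of ideal sheaves spread out. -/
theorem ev_comap_le [LocallyOfFinitePresentation f₀] [QuasiCompact f₀] (H : IsPullback p f f₀ (sv S)) (hS : S.FG)
    {I J : X₀.IdealSheafData} (h : I.comap p ≤ J.comap p) :
    Ev S (BC f₀ (fun _ _ _ q _ => I.comap q ≤ J.comap q)) := by
  classical
  have hp : IsAffineHom p := MorphismProperty.of_isPullback H.flip inferInstance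
  have hcX₀ : CompactSpace X₀ := QuasiCompact.compactSpace_of_compactSpace f₀
  have hn : IsLocallyNoetherian X₀ := isLocallyNoetherian_of_fg (f₀ := f₀) hS
  obtain ⟨s, hs, hcov⟩ := exists_finite_affine X₀
  have : Finite s := hs
  have key : ∀ {Y : Scheme.{u}} (q : Y ⟶ X₀) [IsAffineHom q] (K : X₀.IdealSheafData) (U : X₀.affineOpens),
      (K.comap q).ideal ⟨q ⁻¹ᵁ U.1, U.2.preimage q⟩ = (K.ideal U).map (q.app U.1).hom := by
    intro Y q _ K U
    rw [ideal_comap _ q U ⟨q ⁻¹ᵁ U.1, U.2.preimage q⟩ le_rfl]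
    change Ideal.map (q.appLE U.1 (q ⁻¹ᵁ U.1) le_rfl).hom _ = _
    rw [Scheme.Hom.appLE_eq_app]
  have h1 : ∀ U : s, Ev S (BC f₀ (fun _ _ _ q _ =>
      (I.ideal U.1).map (q.app U.1.1).hom ≤ (J.ideal U.1).map (q.app U.1.1).hom)) := fun U =>
    ev_ideal_le H hS U.1.2 (ideal_fg I U.1) (ideal_fg J U.1) (by
      rw [← key p I U.1, ← key p J U.1]
      exact h _)
  refine (Ev.all_finite hS h1).mono fun T _ φ h2 X' q g hq => ?_
  have hq' : IsAffineHom q := MorphismProperty.of_isPullback hq.flip inferInstance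
  refine Scheme.IdealSheafData.le_of_iSup_eq_top (ι := s) (fun U => ⟨q ⁻¹ᵁ U.1.1, U.1.2.preimage q⟩) ?_ fun U => ?_
  · rw [eq_top_iff]
    intro x _
    obtain ⟨U, hU, hx⟩ := hcov (q x)
    exact Opens.mem_iSup.mpr ⟨⟨U, hU⟩, hx⟩
  · rw [key q I U.1, key q J U.1]
    exact h2 U X' q g hq

/-- Equalities of ideal sheaves spread out. -/
theorem ev_comap_eq [LocallyOfFinitePresentation f₀] [QuasiCompact f₀] (H : IsPullback p f f₀ (sv S)) (hS : S.FG)
    {I J : X₀.IdealSheafData} (h : I.comap p = J.comap p) :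
    Ev S (BC f₀ (fun _ _ _ q _ => I.comap q = J.comap q)) :=
  ((ev_comap_le H hS h.le).and (ev_comap_le H hS h.ge)).mono
    fun _ _ _ h X' q g hq => le_antisymm (h.1 X' q g hq) (h.2 X' q g hq)

end K890.IdealStage
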