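import Groth.Agent.DelIll.K890.Polarized
import Groth.Prelude.Def_ClSub2
import Groth.Prelude.Def_Omega2
import Groth.Prelude.Def_ExtPow2
import Mathlib.FieldTheory.Perfect

/-!
# The Kodaira-Akizuki-Nakano vanishing theorem in characteristic zero from the one in characteristic `p`

`KodP`: the vanishing theorem for schemes over perfect fields with a lifting to the Witt vectors of length two (the
statement S16738); `kodaira_zero`: it implies the vanishing theorem in characteristic zero (the statement S16889).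
-/

set_option autoImplicit false
universe u
open CategoryTheory CategoryTheory.Limits AlgebraicGeometry

namespace K890.Kodaira

open K890.Spread K890.Model K890.Generic K890.Fibres K890.Polarized Groth.Agent

/-- Kodaira-Akizuki-Nakano vanishing in characteristic `p` (S16738). -/
def KodP : Prop :=
  ∀ (p : ℕ) [Fact p.Prime] (k : Type u) [Field k] [CharP k p] [PerfectRing k p]
    (X : Scheme.{u}) [X.Over (Spec (CommRingCat.of k))] [IsProper (X ↘ Spec (CommRingCat.of k))]
    [Smooth (X ↘ Spec (CommRingCat.of k))]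
    (Xl : Scheme.{u}) (g : Xl ⟶ Spec (CommRingCat.of (FrobAlg.W2 p k))) [Flat g] (i : X ⟶ Xl)
    (_ : IsPullback i (X ↘ Spec (CommRingCat.of k)) g
      (Spec.map (CommRingCat.ofHom (FrobAlg.res p k))))
    [IrreducibleSpace X] (n : ℕ) (_ : topologicalKrullDim X = n)
    (L Linv : X.Modules) (_ : CohB1.IsAmple L) (_ : ClSub.IsInverseOf Linv L)
    (a b : ℕ) (Om : X.Modules) (_ : ExtPow.IsExtPow a (Omega.sheaf (X ↘ Spec (CommRingCat.of k))) Om)
    (_ : a + b < n) (_ : a + b < p),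
    Subsingleton (Coh.HH X (CohB1.tensorMod Om Linv) b)

theorem kodaira_zero (hyp : KodP.{u}) (k : Type u) [Field k] [IsAlgClosed k] [CharZero k]
    (X : Scheme.{u}) [X.Over (Spec (CommRingCat.of k))] [IsProper (X ↘ Spec (CommRingCat.of k))]
    [Smooth (X ↘ Spec (CommRingCat.of k))] [IrreducibleSpace X] (n : ℕ) (hn : topologicalKrullDim X = n)
    (L Linv : X.Modules) (hL : CohB1.IsAmple L) (hLinv : ClSub.IsInverseOf Linv L)
    (a b : ℕ) (Om : X.Modules) (hOm : ExtPow.IsExtPow a (Omega.sheaf (X ↘ Spec (CommRingCat.of k))) Om)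
    (hab : a + b < n) :
    Subsingleton (Coh.HH X (CohB1.tensorMod Om Linv) b) := by
  obtain ⟨S, hS, X₀, f₀, p, L₀, H, hprop, hsm, hamp, ⟨eL⟩⟩ :=
    exists_smooth_ample_model (X ↘ Spec (CommRingCat.of k)) hL
  obtain ⟨Om₀, hOm₀, -, hOmBC⟩ := exists_extPow_omega f₀ a
  obtain ⟨Li₀, hLi₀, hinv⟩ := exists_inverse hamp.1
  have hE₀ : FlatMod.IsFinLocFree (CohB1.tensorMod Om₀ Li₀) :=
    Sga67.LocBasis.isFinLocFree_tensorMod hOm₀ (isFinLocFree_of_isInvertible hLi₀)
  have hfp := Desc.FinLocFreeSections.isFP_of_isFinLocFree hE₀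
  have hfl := Sga2lef.H298.VanX0Core.isFlatOver_of_isFinLocFree f₀ hE₀
  have hconn : ConnectedSpace X := inferInstance
  have hgc : GeometricallyConnected (X ↘ Spec (CommRingCat.of k)) := geometricallyConnected_of_isSepClosed
  -- a good point
  obtain ⟨ℓ, hℓ, κ, _, hfin, hchar, φ, ψ, hN, hψ, ⟨⟨h1, h2⟩, h3⟩, -⟩ :=
    (((ev_finrank H hS hfp hfl b).and (ev_irreducible H hS)).and (ev_dim H hS n hn)).exists_point n
  let X' : Scheme.{u} := pullback f₀ (sp φ)
  let q : X' ⟶ X₀ := pullback.fst f₀ (sp φ)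
  let _ : X'.Over (Spec (CommRingCat.of κ)) := ⟨pullback.snd f₀ (sp φ)⟩
  have Hq : IsPullback q (X' ↘ Spec (CommRingCat.of κ)) f₀ (sp φ) := IsPullback.of_hasPullback f₀ (sp φ)
  have hφψ : sp φ = Spec.map (CommRingCat.ofHom (FrobAlg.res ℓ κ)) ≫ sp ψ := by
    rw [← hψ, ← Spec.map_comp]; rfl
  obtain ⟨i, -, hi⟩ := exists_isPullback_lift f₀ (sp ψ) _ hφψ.symm Hq
  have hperf : PerfectRing κ ℓ := PerfectRing.ofFiniteOfIsReduced ℓ κ
  have i1 : IsProper (X' ↘ Spec (CommRingCat.of κ)) := MorphismProperty.of_isPullback Hq hprop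
  have i2 : Smooth (X' ↘ Spec (CommRingCat.of κ)) := MorphismProperty.of_isPullback Hq hsm
  have i3 : IrreducibleSpace X' := h2.apply X' q _ Hq
  have hn' : topologicalKrullDim X' = n := h3.apply X' q _ Hq
  have hvan : Subsingleton (Coh.HH X' (CohB1.tensorMod ((Scheme.Modules.pullback q).obj Om₀)
      ((Scheme.Modules.pullback q).obj Li₀)) b) :=
    hyp ℓ κ X' _ (pullback.snd f₀ (sp ψ)) i hi n hn' _ _ (isAmple_bc hamp φ Hq)
      (Sga2lef.H298.VanX0Core.isInverseOf_pullback q hinv) a b _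
      (hOmBC X' _ q _ _ Hq) hab (lt_trans hab hN)
  -- back to characteristic zero
  have hvan' : Subsingleton (Coh.HH X' ((Scheme.Modules.pullback q).obj (CohB1.tensorMod Om₀ Li₀)) b) :=
    Fga.HShift.subsingleton_of_iso (pullTensor q Om₀ Li₀).symm b hvan
  have hfr := h1.apply X' q Hq
  rw [Module.finrank_zero_of_subsingleton] at hfr
  have hX : Subsingleton (Coh.HH X ((Scheme.Modules.pullback p).obj (CohB1.tensorMod Om₀ Li₀)) b) :=
    subsingleton_of_finrank (k := k) (Desc.FinLocFreeSections.isFP_of_isFinLocFree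
      (PerfB.FlatPull.isFinLocFree_pullback p hE₀)) b hfr.symm
  have e1 : Nonempty ((Scheme.Modules.pullback p).obj Om₀ ≅ Om) :=
    Sga67.TensorOps.nonempty_iso_of_isExtPow (Iso.refl _) (hOmBC X _ p _ _ H) hOm
  have e2 : Nonempty ((Scheme.Modules.pullback p).obj Li₀ ≅ Linv) :=
    Sga2lef.H24.ToPn.nonempty_iso_of_inverse (Sga2lef.H24.ToPn.isInverseOf_congr ⟨eL⟩
      (Sga2lef.H298.VanX0Core.isInverseOf_pullback p hinv)) hLinv
  obtain ⟨e⟩ := nonempty_iso_tensorMod e1 e2
  exact Fga.HShift.subsingleton_of_iso (pullTensor p Om₀ Li₀ ≪≫ e) b hX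

/-- The case `a = 0` (S16888). -/
theorem kodaira_zero' (hyp : KodP.{u}) (k : Type u) [Field k] [IsAlgClosed k] [CharZero k]
    (X : Scheme.{u}) [X.Over (Spec (CommRingCat.of k))] [IsProper (X ↘ Spec (CommRingCat.of k))]
    [Smooth (X ↘ Spec (CommRingCat.of k))] [IrreducibleSpace X] (n : ℕ) (hn : topologicalKrullDim X = n)
    (L Linv : X.Modules) (hL : CohB1.IsAmple L) (hLinv : ClSub.IsInverseOf Linv L)
    (b : ℕ) (hb : b < n) :
    Subsingleton (Coh.HH X Linv b) := by
  have h1 := kodaira_zero hyp k X n hn L Linv hL hLinv 0 b _ (Sga67.TensorOps.isExtPow_zero _) (by omega)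
  have h2 : Nonempty (CohB1.tensorMod (Coh.structureModule X) Linv ≅ Linv) := by
    rw [← Fga.PicMon.mc_eq_iff, Fga.PicMon.mc_tensor, Fga.PicMon.mc_one, one_mul]
  obtain ⟨e⟩ := h2
  exact Fga.HShift.subsingleton_of_iso e b h1

end K890.Kodaira
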