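import Groth.Agent.DelIll.K890.LogFinal
import Groth.Agent.DelIll.K904.MainLt

/-!
# Degeneration of the logarithmic Hodge to de Rham spectral sequence in characteristic zero
-/

set_option autoImplicit false

universe w u

open CategoryTheory CategoryTheory.Limits AlgebraicGeometry TopologicalSpace Opposite

namespace K890.LogDeg

open K890.LogFinal K890.LogRank LogNCD E1Deg

theorem degW (r : ℕ) : DegW.{w, u} r := by
  intro ℓ _ κ _ _ _ X _ _ _ m hm hdim Xl g _ i hi D hD Dl hDl hfl Ω' d hd Λ K _
  have hperf : PerfectRing κ ℓ := inferInstance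
  exact K904.MainLt.main hi (K922.Univ.affUniv hd) hD hDl hfl K hdim hm

/-- **Degeneration in characteristic zero.** -/
theorem main {k : Type u} [Field k] [CharZero k] {X : Scheme.{u}} [X.Over (Spec (CommRingCat.of k))]
    [IsProper (X ↘ Spec (CommRingCat.of k))] [Smooth (X ↘ Spec (CommRingCat.of k))] {r : ℕ}
    {D : Fin r → X.IdealSheafData} (hD : IsNCD D (X ↘ Spec (CommRingCat.of k))) {Ω' : X.Modules}
    {d : OmegaSh.Der (X ↘ Spec (CommRingCat.of k)) Ω'} (hd : OmegaSh.IsUniversal d) {Λ : LogMod d D}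
    (K : DeRhamSh.Cx (X ↘ Spec (CommRingCat.of k)) Λ.L (LogNCD.der Λ))
    [HasDerivedCategory.{w} (Sheaf (Opens.grothendieckTopology X) AddCommGrpCat.{u})] :
    HyperDegenerates K.KZ (⊤ : X.Opens) :=
  hyperDegenerates (degP_of_degW (degW r)) hD hd K

end K890.LogDeg
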