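import Groth.Agent.DelIll.K890.RankBC
import Groth.Agent.DelIll.K890.Fibre
import Groth.Agent.DelIll.K904.LogCxT
import Groth.Agent.DelIll.K904.LogCxZ
import Groth.Agent.Flat2B.GExEnd
import Groth.Agent.Sga2lef.H298.VanX0Core
import Groth.Agent.PerfA.CohSerre
import Groth.Agent.Vanish.K911.LogModBC
import Groth.Agent.LogNCD.K922.LogExist
import Groth.Agent.S3389
import Groth.Agent.S5005

/-!
# Logarithmic de Rham cohomology over a field of characteristic zero and over general closed points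

`exists_fibre_log`: `X` smooth and proper over a field `k` of characteristic zero, `D` a strict normal crossing
divisor, `K` a logarithmic de Rham complex.  There are arbitrarily large primes `ℓ` and `X', D', K'` over an
algebraically closed field `κ` of characteristic `ℓ` with a lifting to `W₂(κ)` and with the same dimensions of de
Rham cohomology and the same Hodge numbers.
-/

set_option autoImplicit false

universe w w' v u

open CategoryTheory CategoryTheory.Limits AlgebraicGeometry TopologicalSpace Opposite TensorProduct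

namespace K890.LogRank

open K890.TotMod K890.RankBC KLinDR Groth.Agent K890.Spread K890.Model K890.Generic K890.Ncd K890.Fibres K890.Surj
  K890.Fibre K890.NcdModel Groth.Agent.VarietyA.EulerLES LogNCD

section Good

variable {A : Type u} [CommRing A] {X : Scheme.{u}} {f : X ⟶ Spec (CommRingCat.of A)}

theorem flat_GS {L : X.Modules} {δ : OmegaSh.Der f L} (K : DeRhamSh.Cx f L δ)
    (h : TermwiseLinear (Coh.toGlobal f) K.K K.term K.iso) (a : ℕ) (hq : Coh.IsQCoh (K.term a))
    (hfl : FlatMod.IsFlatOver f (K.term a)) (U : X.affineOpens) : Module.Flat A (GS (act h) a U.1) := by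
  let _ : Module A Γ(K.term a, U.1) := Flat2B.GExGlob.aModule f (K.term a) U.1
  have h1 : Module.Flat A Γ(K.term a, U.1) := Flat2B.GEx.flat_sections f (K.term a) hq hfl U.2
  let e : GS (act h) a U.1 ≃ₗ[A] Γ(K.term a, U.1) :=
    { (K904.LogCxT.ie K a U.1) with
      map_smul' := fun r x => K904.LogCxT.ie_sc K f a r U.1 x }
  exact Module.Flat.of_linearEquiv e

/-- Logarithmic de Rham complexes on smooth proper schemes over noetherian rings. -/
theorem good [IsNoetherianRing A] [Smooth f] [IsProper f] {Ω' : X.Modules} {d : OmegaSh.Der f Ω'}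
    (hd : OmegaSh.IsUniversal d) {r : ℕ} {D : Fin r → X.IdealSheafData} (hD : IsNCD D f) {Λ : LogMod d D}
    (K : DeRhamSh.Cx f Λ.L (LogNCD.der Λ)) (h : TermwiseLinear (Coh.toGlobal f) K.K K.term K.iso) : Good h := by
  have hcpt : CompactSpace X := QuasiCompact.compactSpace_of_compactSpace f
  have hln : IsLocallyNoetherian X := LocallyOfFiniteType.isLocallyNoetherian f
  have hlf := fun a => K904.LogCxM.isFinLocFree_term (K922.Univ.affUniv hd) hD K a
  obtain ⟨N, hN⟩ := K904.LogCxZ.exists_isZero_term (K922.Univ.affUniv hd) hD K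
  exact ⟨fun a => PerfA.CohSerre.isCoh_of_isFinLocFree (hlf a),
    fun a U => flat_GS K h a (K904.LogCxM.isQCoh_term (K922.Univ.affUniv hd) hD K a)
      (Sga2lef.H298.VanX0Core.isFlatOver_of_isFinLocFree f (hlf a)) U, N + 1, fun i hi => hN i (by omega)⟩

end Good

section Main

/-- Degeneration in characteristic `ℓ`, as an equality of dimensions, for liftable `(X, D)` of dimension `≤ m < ℓ` over
algebraically closed fields (for some logarithmic de Rham complex). -/
def DegP (r : ℕ) : Prop :=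
  ∀ (ℓ : ℕ) [Fact ℓ.Prime] (κ : Type u) [Field κ] [IsAlgClosed κ] [CharP κ ℓ] (X : Scheme.{u})
    [X.Over (Spec (CommRingCat.of κ))] [IsProper (X ↘ Spec (CommRingCat.of κ))]
    [Smooth (X ↘ Spec (CommRingCat.of κ))] (m : ℕ) (_ : m < ℓ) (_ : topologicalKrullDim X ≤ m)
    (Xl : Scheme.{u}) (g : Xl ⟶ Spec (CommRingCat.of (FrobAlg.W2 ℓ κ))) [Smooth g] (i : X ⟶ Xl)
    (_ : IsPullback i (X ↘ Spec (CommRingCat.of κ)) g (Spec.map (CommRingCat.ofHom (FrobAlg.res ℓ κ))))
    (D : Fin r → X.IdealSheafData) (_ : IsNCD D (X ↘ Spec (CommRingCat.of κ)))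
    (Dl : Fin r → Xl.IdealSheafData) (_ : ∀ j, (Dl j).comap i = D j) (_ : ∀ j, Flat ((Dl j).subschemeι ≫ g))
    [HasDerivedCategory.{w} (Sheaf (Opens.grothendieckTopology X) AddCommGrpCat.{u})],
    ∃ (Ω' : X.Modules) (d : OmegaSh.Der (X ↘ Spec (CommRingCat.of κ)) Ω') (_ : OmegaSh.IsUniversal d)
      (Λ : LogMod d D) (K : DeRhamSh.Cx (X ↘ Spec (CommRingCat.of κ)) Λ.L (LogNCD.der Λ))
      (h : TermwiseLinear (Coh.toGlobal (X ↘ Spec (CommRingCat.of κ))) K.K K.term K.iso), ∀ n : ℕ,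
    Module.finrank κ (HTρ (CohCx.freeSheaf (Opens.grothendieckTopology X) (⊤ : X.Opens))
      (K.K.extend ComplexShape.embeddingUpNat) (scalar h) n) =
      ∑ a ∈ Finset.range (n + 1), Module.finrank κ (Coh.HH X (K.term a) (n - a))

variable {k : Type u} [Field k] [CharZero k]

omit [CharZero k] in
theorem isNoetherianRing_of_fg {S : Subalgebra ℤ k} (hS : S.FG) : IsNoetherianRing S := by
  have h : Algebra.FiniteType ℤ S := (Subalgebra.fg_iff_finiteType S).mp hS
  exact Algebra.FiniteType.isNoetherianRing ℤ S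

theorem finrank_eq_zero_of_isZero {κ : Type u} [Field κ] {X : Scheme.{u}} [X.Over (Spec (CommRingCat.of κ))]
    {F : X.Modules} (hF : IsZero F) (b : ℕ) : Module.finrank κ (Coh.HH X F b) = 0 := by
  have h1 : Subsingleton (Coh.HH X F b) := Fga.HShift.subsingleton_of_isZero hF b
  exact Module.finrank_zero_of_subsingleton

/-- **Transfer of degeneration** from characteristic `ℓ` to characteristic zero, as an equality of dimensions. -/
theorem main {r : ℕ} (hP : DegP.{w', u} r) {X : Scheme.{u}} [X.Over (Spec (CommRingCat.of k))]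
    [IsProper (X ↘ Spec (CommRingCat.of k))] [Smooth (X ↘ Spec (CommRingCat.of k))]
    (hw : ∀ Y : Scheme.{u}, Nonempty (HasDerivedCategory.{w'} (Sheaf (Opens.grothendieckTopology Y) AddCommGrpCat.{u})))
    {D : Fin r → X.IdealSheafData} (hD : IsNCD D (X ↘ Spec (CommRingCat.of k))) {Ω' : X.Modules}
    {d : OmegaSh.Der (X ↘ Spec (CommRingCat.of k)) Ω'} (hd : OmegaSh.IsUniversal d) {Λ : LogMod d D}
    (K : DeRhamSh.Cx (X ↘ Spec (CommRingCat.of k)) Λ.L (LogNCD.der Λ))
    (h : TermwiseLinear (Coh.toGlobal (X ↘ Spec (CommRingCat.of k))) K.K K.term K.iso)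
    [HasDerivedCategory.{w} (Sheaf (Opens.grothendieckTopology X) AddCommGrpCat.{u})] (n : ℕ) :
    Module.Finite k (HTρ (CohCx.freeSheaf (Opens.grothendieckTopology X) (⊤ : X.Opens))
      (K.K.extend ComplexShape.embeddingUpNat) (scalar h) n) ∧
    Module.finrank k (HTρ (CohCx.freeSheaf (Opens.grothendieckTopology X) (⊤ : X.Opens))
      (K.K.extend ComplexShape.embeddingUpNat) (scalar h) n) =
      ∑ a ∈ Finset.range (n + 1), Module.finrank k (Coh.HH X (K.term a) (n - a)) := by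
  obtain ⟨S, hS, X₀, f₀, p, D₀, H, hprop, hsm, hcomap, hD₀⟩ :=
    exists_smooth_proper_ncd_model (X ↘ Spec (CommRingCat.of k)) D hD
  obtain rfl : D = fun i => (D₀ i).comap p := funext fun i => (hcomap i).symm
  have hnoeth : IsNoetherianRing S := isNoetherianRing_of_fg hS
  have hd₀ : OmegaSh.IsUniversal (OmegaSh.dOmega f₀) := S5005.result f₀
  obtain ⟨Λ₀⟩ := K922.LogExist.exists_logMod hd₀ hD₀
  obtain ⟨K₀⟩ := K904.LogCxK.nonempty_cx (K922.Univ.affUniv hd₀) Λ₀ hD₀
  have h₀ := K904.LogCxL.termwiseLinear (K922.Univ.affUniv hd₀) Λ₀ hD₀ K₀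
  have hg := good hd₀ hD₀ K₀ h₀
  obtain ⟨s, hs, r', hr, hr'⟩ := RankBC.exists_rank₂.{w, w', u} (A := S) h₀ hg
  obtain ⟨N₀, hN₀⟩ := hg.bdd
  obtain ⟨N, hN⟩ := S3389.result f₀
  -- the point
  have hΦ : Ev S (fun T _ φ => IsUnit (φ s) ∧ ∀ a : Fin N₀, OnField (fun κ _ φ =>
      ∀ (X' : Scheme.{u}) [X'.Over (Spec (CommRingCat.of κ))] (q : X' ⟶ X₀),
      IsPullback q (X' ↘ Spec (CommRingCat.of κ)) f₀ (sp φ) → ∀ b : ℕ,
      Module.finrank κ (Coh.HH X' ((Scheme.Modules.pullback q).obj (K₀.term a)) b) =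
        Module.finrank k (Coh.HH X ((Scheme.Modules.pullback p).obj (K₀.term a)) b)) T φ) :=
    (Ev.of_isUnit hS s hs fun T _ φ h => h).and (Ev.all_finite hS fun a => ev_finrank_coh H hS (hg.coh a))
  obtain ⟨ℓ, hℓ, κ, _, hac, hchar, φ, X', _, q, Xl, g, i, ql, hlt, ⟨hu, hfr⟩, Hq, hsg, hlift, hiq, hcom, hD', -, hfl⟩ :=
    exists_fibre hD₀ hΦ N
  have i1 : IsProper (X' ↘ Spec (CommRingCat.of κ)) := MorphismProperty.of_isPullback Hq hprop
  have i2 : Smooth (X' ↘ Spec (CommRingCat.of κ)) := MorphismProperty.of_isPullback Hq hsm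
  have hdim : topologicalKrullDim X' ≤ N :=
    (dim_eq_fiber f₀ (sp φ) q _ Hq (IsLocalRing.closedPoint κ)).trans_le (hN _)
  obtain ⟨_⟩ := hw X'
  obtain ⟨_, _, hd', Λ', K', h', e3⟩ := hP ℓ κ X' N hlt hdim Xl g i hlift _ hD' _ hcom hfl
  let _ : Algebra S κ := φ.toAlgebra
  have hsk : algebraMap S k s ≠ 0 := fun h0 => hs (Subtype.ext h0)
  have e1 := hr' κ (hu.ne_zero) (f' := X' ↘ Spec (CommRingCat.of κ)) (q := q) Hq h'
    (fun a => K904.LogCxM.isQCoh_term (K922.Univ.affUniv hd') hD' K' a)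
    (K904.LogCxT.exists_beta Λ₀ Λ' Hq hd₀ hd' hD₀ K₀ K') n
  have e2 := hr k hsk (f' := X ↘ Spec (CommRingCat.of k)) (q := p) H h
    (fun a => K904.LogCxM.isQCoh_term (K922.Univ.affUniv hd) hD K a)
    (K904.LogCxT.exists_beta Λ₀ Λ H hd₀ hd hD₀ K₀ K) n
  refine ⟨e2.1, e2.2.trans (e1.2.symm.trans ((e3 n).trans ?_))⟩
  refine Finset.sum_congr rfl fun a _ => ?_
  obtain ⟨c1⟩ := K911.LogModBC.nonempty_iso_extPow Hq hd₀ hd' hD₀ Λ₀ Λ' (K₀.isExtPow a) (K'.isExtPow a)
  obtain ⟨c2⟩ := K911.LogModBC.nonempty_iso_extPow H hd₀ hd hD₀ Λ₀ Λ (K₀.isExtPow a) (K.isExtPow a)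
  rw [← (equivA κ c1 (n - a)).finrank_eq, ← (equivA k c2 (n - a)).finrank_eq]
  by_cases ha : a < N₀
  · exact (hfr ⟨a, ha⟩).apply X' q Hq (n - a)
  · have hz : IsZero (K₀.term a) := hN₀ a (not_lt.1 ha)
    rw [finrank_eq_zero_of_isZero (Functor.map_isZero _ hz), finrank_eq_zero_of_isZero (Functor.map_isZero _ hz)]

end Main

end K890.LogRank
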