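import Groth.Agent.DelIll.K890.NcdModel
import Groth.Agent.Flat2B.GExSC3

/-!
# Finitely presented modules on `X` come from a stage of the model

* `exists_module_stage`, `exists_modules_stage`: modules.
* `exists_hom_stage`: morphisms of modules.
-/

set_option autoImplicit false
universe u v
open CategoryTheory CategoryTheory.Limits AlgebraicGeometry Opposite TopologicalSpace

namespace K890.ModStage

open K890.Spread K890.Model K890.Stage Groth.Agent

variable {k : Type u} [Field k] {S : Subalgebra ℤ k} {X₀ X : Scheme.{u}} {f₀ : X₀ ⟶ Spec (CommRingCat.of S)}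
  {f : X ⟶ Spec (CommRingCat.of k)} {p : X ⟶ X₀}

theorem fg_restrictScalars (hS : S.FG) (B : Subalgebra S k) (hB : B.FG) :
    (B.restrictScalars ℤ).FG := by
  have h1 : Algebra.FiniteType ℤ S := (Subalgebra.fg_iff_finiteType S).mp hS
  have h2 : Algebra.FiniteType S B := (Subalgebra.fg_iff_finiteType B).mp hB
  have h3 : Algebra.FiniteType ℤ B := Algebra.FiniteType.trans h1 h2
  rw [Subalgebra.fg_iff_finiteType]
  exact h3

theorem le_restrictScalars (B : Subalgebra S k) : S ≤ B.restrictScalars ℤ := fun x hx =>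
  B.algebraMap_mem ⟨x, hx⟩

/-- Pull back a module along the comparison of two models. -/
theorem exists_module_of_model (H : IsPullback p f f₀ (sv S)) {S' : Subalgebra ℤ k} (h : S ≤ S') {Z : Scheme.{u}}
    {a : Z ⟶ X₀} {g : Z ⟶ Spec (CommRingCat.of S')} (ha : IsPullback a g f₀ (sp (inc h))) {b : X ⟶ Z}
    (hb : b ≫ a = p) (hb' : b ≫ g = f ≫ sv S') {F : X.Modules} (G : Z.Modules) (hG : CohB1.IsFP G)
    (e : Nonempty ((Scheme.Modules.pullback b).obj G ≅ F)) :
    ∃ F₀ : (St f₀ h).Modules, CohB1.IsFP F₀ ∧ Nonempty ((Scheme.Modules.pullback (up H h)).obj F₀ ≅ F) := by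
  obtain ⟨e⟩ := e
  let j : St f₀ h ⟶ Z := ha.lift (pr f₀ h) (st f₀ h) (isPullback_pr f₀ h).w
  have hj : up H h ≫ j = b := by
    apply ha.hom_ext
    · rw [Category.assoc, ha.lift_fst, up_pr, hb]
    · rw [Category.assoc, ha.lift_snd, up_st, hb']
  exact ⟨(Scheme.Modules.pullback j).obj G, FormalA.PullbackQC.isFP_pullback _ _ hG,
    ⟨(Scheme.Modules.pullbackComp (up H h) j).app G ≪≫ (Scheme.Modules.pullbackCongr hj).app G ≪≫ e⟩⟩

/-- **A finitely presented module on `X`** comes from a stage. -/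
theorem exists_module_stage [LocallyOfFiniteType f₀] [QuasiCompact f₀] [QuasiSeparated f₀]
    (H : IsPullback p f f₀ (sv S)) (hS : S.FG) (F : X.Modules) (hF : CohB1.IsFP F) :
    ∃ (S' : Subalgebra ℤ k) (h : S ≤ S') (_ : S'.FG) (F₀ : (St f₀ h).Modules), CohB1.IsFP F₀ ∧
      Nonempty ((Scheme.Modules.pullback (up H h)).obj F₀ ≅ F) := by
  have hn : IsNoetherianRing S := isNoetherianRing_of_fg hS
  obtain ⟨B, hB, G, hG, e⟩ := Flat2B.GExSC3.exists_model (Λ := S) (S := k) (p := f₀) (f := f) (q := p) H F hF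
  have h : S ≤ B.restrictScalars ℤ := le_restrictScalars B
  refine ⟨B.restrictScalars ℤ, h, fg_restrictScalars hS B hB, ?_⟩
  exact exists_module_of_model H h (Z := Flat2B.GExSC3.YB f₀ B) (a := Flat2B.GExSC3.aB f₀ B)
    (g := Flat2B.GExSC3.fB f₀ B) (IsPullback.of_hasPullback f₀ _) (b := Flat2B.GExSC3.bB H B)
    (Flat2B.GExSC3.bB_aB H B) (Flat2B.GExSC3.bB_fB H B) G hG e

/-- Pull back to a later stage. -/
theorem nonempty_iso_tr (H : IsPullback p f f₀ (sv S)) {S' S'' : Subalgebra ℤ k} (h : S ≤ S') (h' : S' ≤ S'')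
    {F : X.Modules} {F₀ : (St f₀ h).Modules} (e : Nonempty ((Scheme.Modules.pullback (up H h)).obj F₀ ≅ F)) :
    Nonempty ((Scheme.Modules.pullback (up H (h.trans h'))).obj ((Scheme.Modules.pullback (tr f₀ h h')).obj F₀) ≅
      F) := by
  obtain ⟨e⟩ := e
  exact ⟨(Scheme.Modules.pullbackComp _ (tr f₀ h h')).app F₀ ≪≫
      (Scheme.Modules.pullbackCongr (up_tr H h h')).app F₀ ≪≫ e⟩

/-- **Finitely many finitely presented modules on `X`** come from a stage. -/
theorem exists_modules_stage [LocallyOfFiniteType f₀] [QuasiCompact f₀] [QuasiSeparated f₀]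
    (H : IsPullback p f f₀ (sv S)) (hS : S.FG) {ι : Type v} [Finite ι] (F : ι → X.Modules)
    (hF : ∀ i, CohB1.IsFP (F i)) :
    ∃ (S' : Subalgebra ℤ k) (h : S ≤ S') (_ : S'.FG) (F₀ : ι → (St f₀ h).Modules), (∀ i, CohB1.IsFP (F₀ i)) ∧
      ∀ i, Nonempty ((Scheme.Modules.pullback (up H h)).obj (F₀ i) ≅ F i) := by
  classical
  have := Fintype.ofFinite ι
  choose S' h hfg F₀ h1 h2 using fun i => exists_module_stage H hS (F i) (hF i)
  have hsup : ∀ T : Finset ι, (T.sup S').FG := by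
    intro T
    induction T using Finset.induction_on with
    | empty => rw [Finset.sup_empty]; exact Subalgebra.fg_bot
    | insert a T ha ih => rw [Finset.sup_insert]; exact (hfg a).sup ih
  let R := S ⊔ Finset.univ.sup S'
  have hR : S ≤ R := le_sup_left
  have hi : ∀ i, S' i ≤ R := fun i => (Finset.le_sup (Finset.mem_univ i)).trans le_sup_right
  refine ⟨R, hR, hS.sup (hsup _), fun i => (Scheme.Modules.pullback (tr f₀ (h i) (hi i))).obj (F₀ i), fun i => ?_,
    fun i => ?_⟩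
  · exact FormalA.PullbackQC.isFP_pullback _ _ (h1 i)
  · exact nonempty_iso_tr H (h i) (hi i) (h2 i)

theorem conj_aux {C : Type*} [Category C] {A B A' B' : C} (e : A ≅ A') (e' : B ≅ B') (x : A ⟶ B) (w : A' ⟶ B')
    (h : e.inv ≫ x ≫ e'.hom = w) : x = e.hom ≫ w ≫ e'.inv := by
  subst h
  simp

/-- **Morphisms of modules on `X`** come from a stage. -/
theorem exists_hom_stage [LocallyOfFinitePresentation f₀] [QuasiCompact f₀] [QuasiSeparated f₀]
    (H : IsPullback p f f₀ (sv S)) (hS : S.FG) {F G : X₀.Modules} (hF : CohB1.IsFP F) (hG : CohB1.IsFP G)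
    (w : (Scheme.Modules.pullback p).obj F ⟶ (Scheme.Modules.pullback p).obj G) :
    ∃ (S' : Subalgebra ℤ k) (h : S ≤ S') (_ : S'.FG)
      (w₀ : (Scheme.Modules.pullback (pr f₀ h)).obj F ⟶ (Scheme.Modules.pullback (pr f₀ h)).obj G),
      (Scheme.Modules.pullback (up H h)).map w₀ =
        ((Scheme.Modules.pullbackComp (up H h) (pr f₀ h)).app F ≪≫
          (Scheme.Modules.pullbackCongr (up_pr H h)).app F).hom ≫ w ≫
        ((Scheme.Modules.pullbackComp (up H h) (pr f₀ h)).app G ≪≫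
          (Scheme.Modules.pullbackCongr (up_pr H h)).app G).inv := by
  obtain ⟨C, h, ψ, hψ⟩ := PerfB.ApproxHom.exists_hom (mdl H hS hF) (G := F) (E := G) hF
    (Models2.FPCoh.isQCoh_of_isFP hG) (Models2.FPCoh.isFT_of_isFP hG) w
  refine ⟨C.1, h, C.2, ψ, ?_⟩
  have h1 : (Flat2F.BCSec.cmp (up H h) (pr f₀ h) p (up_pr H h) F).inv ≫
      (Scheme.Modules.pullback (up H h)).map ψ ≫ (Flat2F.BCSec.cmp (up H h) (pr f₀ h) p (up_pr H h) G).hom = w := hψ
  exact conj_aux _ _ _ _ h1

end K890.ModStage
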