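import Groth.Agent.DelIll.K890.Spread
import Groth.Agent.PerfB.ApproxHom
import Groth.Agent.PerfB.FlatPull
import Groth.Agent.Sga3.H806.SmoothDescend

/-!
# Spreading out properties of schemes and modules from a field to homomorphisms from a finitely generated subring

`k` a field, `S ≤ k` a finitely generated subring, `f₀ : X₀ ⟶ Spec S` a model of `f : X ⟶ Spec k`
(`IsPullback p f f₀ (Spec k ⟶ Spec S)`).  The statements say that a property of `X` over `k` holds for all base
changes `X' = X₀ ×_S T` along sufficiently general `φ : S → T` (`Spread.Ev`).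
* `exists_fac`: base changes factor through larger stages; `Ev.of_stage`.
* `ev_smooth`; `ev_iso`: isomorphisms of finitely presented modules; `ev_isFinLocFree`, `ev_isInvertible`.
-/

set_option autoImplicit false
universe u v
open CategoryTheory CategoryTheory.Limits AlgebraicGeometry Opposite

namespace K890.Model

open K890.Spread Groth.Agent.PerfB Groth.Agent.PerfB.ApproxRing Groth.Agent.PerfB.ApproxMdl

section Basic

variable {k : Type u} [Field k]

/-- `Spec k ⟶ Spec S` -/
noncomputable abbrev sv (S : Subalgebra ℤ k) : Spec (CommRingCat.of k) ⟶ Spec (CommRingCat.of S) :=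
  Spec.map (CommRingCat.ofHom S.val.toRingHom)

/-- `Spec T ⟶ Spec S` -/
noncomputable abbrev sp {S : Subalgebra ℤ k} {T : Type u} [CommRing T] (φ : S →+* T) :
    Spec (CommRingCat.of T) ⟶ Spec (CommRingCat.of S) :=
  Spec.map (CommRingCat.ofHom φ)

/-- the inclusion of subrings -/
abbrev inc {S S' : Subalgebra ℤ k} (h : S ≤ S') : S →+* S' := (Subalgebra.inclusion h).toRingHom

theorem sp_inc {S S' : Subalgebra ℤ k} (h : S ≤ S') {T : Type u} [CommRing T] (φ : S' →+* T) :
    sp φ ≫ sp (inc h) = sp (φ.comp (inc h)) := by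
  rw [← Spec.map_comp]; rfl

theorem sv_inc {S S' : Subalgebra ℤ k} (h : S ≤ S') : sv S' ≫ sp (inc h) = sv S := by
  rw [← Spec.map_comp]; rfl

variable {S : Subalgebra ℤ k} {X₀ : Scheme.{u}} (f₀ : X₀ ⟶ Spec (CommRingCat.of S))

/-- A base change of `X₀` along `S → S' → T` is a base change of `X₀ ×_S S'` along `S' → T`. -/
theorem exists_fac {S' : Subalgebra ℤ k} (h : S ≤ S') {T : Type u} [CommRing T] (φ : S' →+* T)
    {X' : Scheme.{u}} {q : X' ⟶ X₀} {g : X' ⟶ Spec (CommRingCat.of T)}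
    (H : IsPullback q g f₀ (sp (φ.comp (inc h)))) :
    ∃ q' : X' ⟶ pullback f₀ (sp (inc h)), q' ≫ pullback.fst f₀ (sp (inc h)) = q ∧
      IsPullback q' g (pullback.snd f₀ (sp (inc h))) (sp φ) := by
  let q' : X' ⟶ pullback f₀ (sp (inc h)) := pullback.lift q (g ≫ sp φ) (by
    rw [Category.assoc, sp_inc]; exact H.w)
  have h1 : q' ≫ pullback.fst f₀ (sp (inc h)) = q := pullback.lift_fst _ _ _
  have h2 : q' ≫ pullback.snd f₀ (sp (inc h)) = g ≫ sp φ := pullback.lift_snd _ _ _
  refine ⟨q', h1, IsPullback.of_right ?_ h2 (IsPullback.of_hasPullback f₀ (sp (inc h)))⟩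
  rw [h1, sp_inc]
  exact H

variable {X : Scheme.{u}} {f : X ⟶ Spec (CommRingCat.of k)} {p : X ⟶ X₀}

/-- The model at a larger stage. -/
theorem exists_up (H : IsPullback p f f₀ (sv S)) {S' : Subalgebra ℤ k} (h : S ≤ S') :
    ∃ p' : X ⟶ pullback f₀ (sp (inc h)), p' ≫ pullback.fst f₀ (sp (inc h)) = p ∧
      IsPullback p' f (pullback.snd f₀ (sp (inc h))) (sv S') := by
  let q' : X ⟶ pullback f₀ (sp (inc h)) := pullback.lift p (f ≫ sv S') (by
    rw [Category.assoc, sv_inc]; exact H.w)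
  have h1 : q' ≫ pullback.fst f₀ (sp (inc h)) = p := pullback.lift_fst _ _ _
  have h2 : q' ≫ pullback.snd f₀ (sp (inc h)) = f ≫ sv S' := pullback.lift_snd _ _ _
  refine ⟨q', h1, IsPullback.of_right ?_ h2 (IsPullback.of_hasPullback f₀ (sp (inc h)))⟩
  rw [h1, sv_inc]
  exact H

/-- the property `P` of all base changes of `X₀` along `φ : S → T` -/
abbrev BC (P : ∀ (T : Type u) [CommRing T] (X' : Scheme.{u}) (_ : X' ⟶ X₀) (_ : X' ⟶ Spec (CommRingCat.of T)), Prop) :
    ∀ (T : Type u) [CommRing T], (S →+* T) → Prop :=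
  fun T _ φ => ∀ (X' : Scheme.{u}) (q : X' ⟶ X₀) (g : X' ⟶ Spec (CommRingCat.of T)),
    IsPullback q g f₀ (sp φ) → P T X' q g

/-- It suffices to treat base changes of `X₀ ×_S S'` for some `S' ≥ S`. -/
theorem ev_of_stage {P : ∀ (T : Type u) [CommRing T] (X' : Scheme.{u}) (_ : X' ⟶ X₀)
      (_ : X' ⟶ Spec (CommRingCat.of T)), Prop} {S' : Subalgebra ℤ k} (h : S ≤ S')
    (H : Ev S' (BC (pullback.snd f₀ (sp (inc h)))
      (fun T _ X' q g => P T X' (q ≫ pullback.fst f₀ (sp (inc h))) g))) : Ev S (BC f₀ P) := by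
  refine Ev.of_le h (H.mono fun T _ φ hφ X' q g hq => ?_)
  obtain ⟨q', h1, h2⟩ := exists_fac f₀ h φ hq
  have := hφ X' q' g h2
  change P T X' (q' ≫ pullback.fst f₀ (sp (inc h))) g at this
  rwa [h1] at this

end Basic

section Props

open Groth.Agent.Smoothlim.LimBase

variable {k : Type u} [Field k] {S : Subalgebra ℤ k} {X X₀ : Scheme.{u}} {f : X ⟶ Spec (CommRingCat.of k)}
  {f₀ : X₀ ⟶ Spec (CommRingCat.of S)} {p : X ⟶ X₀}

theorem exists_stage_prop {P Q : MorphismProperty Scheme.{u}} [P.IsStableUnderBaseChange]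
    [IsZariskiLocalAtTarget P] [Q.IsStableUnderBaseChange] (hA : DescendsAffine Q P)
    (H : IsPullback p f f₀ (sv S)) (hS : S.FG) (hQ : Q f₀) (hP : P f) :
    ∃ (S' : Subalgebra ℤ k) (h : S ≤ S'), S'.FG ∧ P (pullback.snd f₀ (sp (inc h))) := by
  let B : Idx k := ⟨S, hS⟩
  have hY : IsPullback ((specCone k).π.app (op B)) (𝟙 (specCone k).pt) (𝟙 ((specDiag k).obj (op B)))
      ((specCone k).π.app (op B)) := IsPullback.id_vert _
  obtain ⟨i, φ, hi⟩ := exists_descend hA (specDiag k) (specCone k) (specIsLimit k) (op B)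
    (Y₀ := (specDiag k).obj (op B)) (Y := (specCone k).pt) (f₀ := f₀) (g₀ := 𝟙 _) (f := f) (g := 𝟙 _)
    (qY := (specCone k).π.app (op B)) (qX := p) hY H hQ hP
  refine ⟨i.unop.1, φ.unop.le, i.unop.2, ?_⟩
  have h1 : (specDiag k).map φ = inv (pullback.snd (𝟙 _) ((specDiag k).map φ)) ≫
      pullback.fst (𝟙 _) ((specDiag k).map φ) := by
    rw [IsIso.eq_inv_comp]
    have := pullback.condition (f := 𝟙 ((specDiag k).obj (op B))) (g := (specDiag k).map φ)
    rw [← this, Category.comp_id]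
  change P (pullback.snd f₀ ((specDiag k).map φ))
  rw [h1]
  exact snd_comp P f₀ _ _ hi

/-- A property of morphisms that descends along limits holds eventually. -/
theorem ev_prop {P Q : MorphismProperty Scheme.{u}} [P.IsStableUnderBaseChange]
    [IsZariskiLocalAtTarget P] [Q.IsStableUnderBaseChange] (hA : DescendsAffine Q P)
    (H : IsPullback p f f₀ (sv S)) (hS : S.FG) (hQ : Q f₀) (hP : P f) :
    Ev S (BC f₀ (fun _ _ _ _ g => P g)) := by
  obtain ⟨S', h, hfg, hP'⟩ := exists_stage_prop hA H hS hQ hP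
  exact ev_of_stage f₀ h (Ev.of_forall hfg fun T _ φ X' q g hq =>
    MorphismProperty.of_isPullback hq hP')

theorem isZariskiLocalAtTarget_smooth : IsZariskiLocalAtTarget (@Smooth.{u}) :=
  HasRingHomProperty.instIsZariskiLocalAtTarget (P := @Smooth) (Q := RingHom.Smooth)

theorem ev_smooth [LocallyOfFinitePresentation f₀] [QuasiCompact f₀] [Smooth f]
    (H : IsPullback p f f₀ (sv S)) (hS : S.FG) : Ev S (BC f₀ (fun _ _ _ _ g => Smooth g)) :=
  have := isZariskiLocalAtTarget_smooth.{u}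
  ev_prop (P := @Smooth) Groth.Agent.Sga3.H806.SmoothDescend.descendsAffine_smooth H hS
    ⟨inferInstance, inferInstance⟩ inferInstance

end Props

section Modules

variable {k : Type u} [Field k] {S : Subalgebra ℤ k} {X X₀ : Scheme.{u}} {f : X ⟶ Spec (CommRingCat.of k)}
  {f₀ : X₀ ⟶ Spec (CommRingCat.of S)} {p : X ⟶ X₀}
  [LocallyOfFinitePresentation f₀] [QuasiCompact f₀] [QuasiSeparated f₀]

/-- the model as a model in the sense of `ApproxMdl` -/
noncomputable def mdl (H : IsPullback p f f₀ (sv S)) (hS : S.FG) {G : X₀.Modules} (hG : CohB1.IsFP G) :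
    Mdl f ((Scheme.Modules.pullback p).obj G) where
  B := ⟨S, hS⟩
  Y := X₀
  h := f₀
  g := p
  G := G
  lfp := inferInstance
  qc := inferInstance
  qs := inferInstance
  pb := H
  fp := hG
  e := Iso.refl _

/-- pull back an isomorphism along a composition -/
theorem nonempty_iso_comp {X Y Z : Scheme.{u}} {a : X ⟶ Y} {b : Y ⟶ Z} {c : X ⟶ Z} (w : a ≫ b = c)
    {F G : Z.Modules} (e : Nonempty ((Scheme.Modules.pullback b).obj F ≅ (Scheme.Modules.pullback b).obj G)) :
    Nonempty ((Scheme.Modules.pullback c).obj F ≅ (Scheme.Modules.pullback c).obj G) := by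
  subst w
  obtain ⟨e⟩ := e
  exact ⟨((Scheme.Modules.pullbackComp a b).app F).symm ≪≫ (Scheme.Modules.pullback a).mapIso e ≪≫
    (Scheme.Modules.pullbackComp a b).app G⟩

/-- Isomorphisms of finitely presented modules spread out. -/
theorem ev_iso (H : IsPullback p f f₀ (sv S)) (hS : S.FG) {F G : X₀.Modules} (hF : CohB1.IsFP F)
    (hG : CohB1.IsFP G)
    (e : Nonempty ((Scheme.Modules.pullback p).obj F ≅ (Scheme.Modules.pullback p).obj G)) :
    Ev S (BC f₀ (fun _ _ _ q _ =>
      Nonempty ((Scheme.Modules.pullback q).obj F ≅ (Scheme.Modules.pullback q).obj G))) := by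
  obtain ⟨e⟩ := e
  obtain ⟨C, h, e', -⟩ := ApproxHom.exists_iso (mdl H hS hF) hF hG e
  refine ev_of_stage f₀ (S' := C.1) h (Ev.of_forall C.2 fun T _ φ X' q g hq => ?_)
  exact nonempty_iso_comp rfl ⟨e'⟩

theorem ev_isFinLocFree (H : IsPullback p f f₀ (sv S)) (hS : S.FG) {F : X₀.Modules} (hF : CohB1.IsFP F)
    (h : FlatMod.IsFinLocFree ((Scheme.Modules.pullback p).obj F)) :
    Ev S (BC f₀ (fun _ _ _ q _ => FlatMod.IsFinLocFree ((Scheme.Modules.pullback q).obj F))) := by
  obtain ⟨C, h, hC⟩ := ApproxHom.exists_up_locFree (mdl H hS hF) h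
  refine ev_of_stage f₀ (S' := C.1) h (Ev.of_forall C.2 fun T _ φ X' q g hq => ?_)
  have h1 : FlatMod.IsFinLocFree ((Scheme.Modules.pullback (pullback.fst f₀ (sp (inc h)))).obj F) := hC C le_rfl
  exact Groth.Agent.Dcoh.FinLocFree.isFinLocFree_of_iso
    ((Scheme.Modules.pullbackComp q (pullback.fst f₀ (sp (inc h)))).app F)
    (FlatPull.isFinLocFree_pullback q h1)

theorem ev_isInvertible (H : IsPullback p f f₀ (sv S)) (hS : S.FG) {F : X₀.Modules} (hF : CohB1.IsFP F)
    (h : PicF.IsInvertible ((Scheme.Modules.pullback p).obj F)) :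
    Ev S (BC f₀ (fun _ _ _ q _ => PicF.IsInvertible ((Scheme.Modules.pullback q).obj F))) := by
  obtain ⟨C, h, hC⟩ := ApproxHom.exists_up_invertible (mdl H hS hF) h
  refine ev_of_stage f₀ (S' := C.1) h (Ev.of_forall C.2 fun T _ φ X' q g hq => ?_)
  have h1 : PicF.IsInvertible ((Scheme.Modules.pullback (pullback.fst f₀ (sp (inc h)))).obj F) := hC C le_rfl
  exact LimMod.isInvertible_of_iso
    ((Scheme.Modules.pullbackComp q (pullback.fst f₀ (sp (inc h)))).app F)
    (LimMod.isInvertible_pullback q h1)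

end Modules

end K890.Model
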