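import Groth.Agent.DelIll.K890.Etale
import Groth.Agent.Vanish.K911.Ncd

/-!
# Normal crossing divisors spread out

* `NcdAt D f x`: the condition of `LogNCD.IsNCD` at the point `x`; it is open and stable under base change;
* `ChartOn`: an étale chart on an open `W` adapted to the divisor; `ev_chartOn`: such charts spread out;
* `ev_isNCD`: if the restrictions `D_i` to `X` of ideal sheaves `D₀_i` of a model `X₀` form a normal crossing divisor
  over `k`, then their pull-backs to sufficiently general base changes form a normal crossing divisor.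
-/

set_option autoImplicit false
universe u v
open CategoryTheory CategoryTheory.Limits AlgebraicGeometry Opposite TopologicalSpace

namespace K890.Ncd

open K890.Spread K890.Model K890.Stage K890.Etale LogNCD K911.Ncd Groth.Agent.Divis.IdealComap
  Groth.Agent.Divis.BlowChart2 Groth.Agent.Pi1.H403.RelSNCBase

section Fn

variable {X Y : Scheme.{u}}

/-- a function on the open `W`, as a global function on the scheme `W` -/
noncomputable def fn (W : X.Opens) (s : Γ(X, W)) : Γ(W, ⊤) := W.topIso.inv s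

theorem sectOn_fn (W : X.Opens) {U : X.Opens} (h : U ≤ W) (s : Γ(X, W)) :
    sectOn W h (fn W s) = X.presheaf.map (homOfLE h).op s := by
  rw [sectOn_apply, fn, Iso.inv_hom_id_apply]

theorem fn_topIso (W : X.Opens) (s : Γ(W, ⊤)) : fn W (W.topIso.hom s) = s := Iso.hom_inv_id_apply _ _

theorem topIso_fn (W : X.Opens) (s : Γ(X, W)) : W.topIso.hom (fn W s) = s := Iso.inv_hom_id_apply _ _

theorem restrict_fn (g : X ⟶ Y) (W : Y.Opens) (s : Γ(Y, W)) :
    (g ∣_ W).appTop (fn W s) = fn (g ⁻¹ᵁ W) (g.app W s) := by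
  have h2 := congr($(restrict_appTop_topIso g W) (fn W s))
  have h3 : (g ⁻¹ᵁ W).topIso.hom ((g ∣_ W).appTop (fn W s)) = g.app W (W.topIso.hom (fn W s)) := h2
  rw [topIso_fn] at h3
  rw [← h3, fn_topIso]

theorem homOfLE_fn {V W : X.Opens} (h : V ≤ W) (s : Γ(X, W)) :
    (X.homOfLE h).appTop (fn W s) = fn V (X.presheaf.map (homOfLE h).op s) := by
  have h1 : (X.homOfLE h).appTop = X.presheaf.map (homOfLE <| X.ι_image_homOfLE_le_ι_image h ⊤).op :=
    X.homOfLE_app h ⊤
  rw [h1]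
  change (X.presheaf.map (eqToIso W.ι_image_top.symm).op.inv ≫ X.presheaf.map _) s =
    (X.presheaf.map (homOfLE h).op ≫ X.presheaf.map (eqToIso V.ι_image_top.symm).op.inv) s
  rw [← X.presheaf.map_comp, ← X.presheaf.map_comp]
  rfl

end Fn

section NcdAt

variable {X S X' S' : Scheme.{u}} {r : ℕ}

/-- `x` lies on no component of `D` or has an étale chart adapted to `D`. -/
def NcdAt (D : Fin r → X.IdealSheafData) (f : X ⟶ S) (x : X) : Prop :=
  Nonempty (Through D x) →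
    ∃ (W : X.Opens) (_ : x ∈ W) (n : ℕ) (v : ULift.{u} (Fin n) → Γ(W, ⊤)) (e : Through D x → Fin n),
      Function.Injective e ∧
      Etale (AffineSpace.homOfVector (W.ι ≫ f) v) ∧
      (∀ (i : Through D x) (U : X.affineOpens) (h : U.1 ≤ W),
        (D i.1).ideal U = Ideal.span {sectOn W h (v (ULift.up (e i)))}) ∧
      (∀ (i : Fin r), x ∉ (D i).support → ∀ (U : X.affineOpens), U.1 ≤ W → (D i).ideal U = ⊤)

theorem isNCD_iff (D : Fin r → X.IdealSheafData) (f : X ⟶ S) : IsNCD D f ↔ ∀ x, NcdAt D f x := Iff.rfl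

/-- The equations of the components in the chart `v`, `e i` the number of the coordinate defining `D_i`, if any. -/
noncomputable def eqn {W : X.Opens} {n : ℕ} (v : ULift.{u} (Fin n) → Γ(X, W)) (e : Fin r → Option (Fin n))
    (i : Fin r) : Γ(X, W) := (e i).elim 1 (fun j => v (ULift.up j))

/-- `v` are étale coordinates on `W` and `D_i` is defined by the coordinate number `e i` or empty. -/
def ChartOn (D : Fin r → X.IdealSheafData) (f : X ⟶ S) (W : X.Opens) {n : ℕ} (e : Fin r → Option (Fin n)) : Prop :=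
  ∃ v : ULift.{u} (Fin n) → Γ(X, W), Etale (AffineSpace.homOfVector (W.ι ≫ f) (fun i => fn W (v i))) ∧
    ∀ (i : Fin r) (U : X.affineOpens) (h : U.1 ≤ W),
      (D i).ideal U = Ideal.span {X.presheaf.map (homOfLE h).op (eqn v e i)}

/-- `e` is injective where defined -/
def Inj {n : ℕ} (e : Fin r → Option (Fin n)) : Prop := ∀ i i' j, e i = some j → e i' = some j → i = i'

theorem not_mem_support {I : X.IdealSheafData} {U : X.affineOpens} {x : X} (hx : x ∈ U.1) (h : I.ideal U = ⊤) :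
    x ∉ I.support := by
  rw [Scheme.IdealSheafData.mem_support_iff_of_mem hx, h]
  intro h1
  have h2 : x ∉ X.basicOpen (1 : Γ(X, U.1)) := by
    have := (Scheme.mem_zeroLocus_iff X ((⊤ : Ideal Γ(X, U.1)) : Set Γ(X, U.1)) x).mp h1 1 trivial
    exact this
  rw [Scheme.basicOpen_of_isUnit X isUnit_one] at h2
  exact h2 hx

theorem exists_affine_mem (x : X) (O : X.Opens) (hx : x ∈ O) : ∃ U : X.affineOpens, x ∈ U.1 ∧ U.1 ≤ O := by
  obtain ⟨U, hU, hxU, hUO⟩ := exists_isAffineOpen_mem_and_subset hx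
  exact ⟨⟨U, hU⟩, hxU, hUO⟩

theorem etale_restrict (f : X ⟶ S) {V W : X.Opens} (h : V ≤ W) {n : Type u} (v : n → Γ(X, W))
    (he : Etale (AffineSpace.homOfVector (W.ι ≫ f) (fun i => fn W (v i)))) :
    Etale (AffineSpace.homOfVector (V.ι ≫ f) (fun i => fn V (X.presheaf.map (homOfLE h).op (v i)))) := by
  have e1 : AffineSpace.homOfVector (V.ι ≫ f) (fun i => fn V (X.presheaf.map (homOfLE h).op (v i))) =
      X.homOfLE h ≫ AffineSpace.homOfVector (W.ι ≫ f) (fun i => fn W (v i)) := by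
    rw [AffineSpace.comp_homOfVector, Scheme.homOfLE_ι_assoc]
    congr 1
    funext i
    exact (homOfLE_fn h (v i)).symm
  rw [e1]
  infer_instance

theorem map_eqn {V W : X.Opens} (h : V ≤ W) {n : ℕ} (v : ULift.{u} (Fin n) → Γ(X, W)) (e : Fin r → Option (Fin n))
    (i : Fin r) : X.presheaf.map (homOfLE h).op (eqn v e i) =
      eqn (fun j => X.presheaf.map (homOfLE h).op (v j)) e i := by
  unfold eqn
  cases e i with
  | none => exact map_one _
  | some j => rfl

theorem chartOn_of_le {D : Fin r → X.IdealSheafData} {f : X ⟶ S} {V W : X.Opens} (h : V ≤ W) {n : ℕ}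
    {e : Fin r → Option (Fin n)} (hc : ChartOn D f W e) : ChartOn D f V e := by
  obtain ⟨v, hv, hI⟩ := hc
  refine ⟨fun j => X.presheaf.map (homOfLE h).op (v j), etale_restrict f h v hv, fun i U hU => ?_⟩
  rw [hI i U (hU.trans h), ← map_eqn h, ← ConcreteCategory.comp_apply, ← X.presheaf.map_comp]
  rfl

/-- A chart gives the condition at all of its points. -/
theorem ncdAt_of_chartOn {D : Fin r → X.IdealSheafData} {f : X ⟶ S} {W : X.Opens} {n : ℕ}
    {e : Fin r → Option (Fin n)} (he : Inj e) (hc : ChartOn D f W e) {x : X} (hx : x ∈ W) : NcdAt D f x := by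
  classical
  intro hne
  obtain ⟨v, hv, hI⟩ := hc
  have hsome : ∀ i : Through D x, ∃ j, e i.1 = some j := by
    intro i
    by_contra hc
    push Not at hc
    have h1 : e i.1 = none := Option.eq_none_iff_forall_ne_some.mpr hc
    obtain ⟨U, hxU, hUW⟩ := exists_affine_mem x W hx
    refine not_mem_support hxU ?_ i.2
    rw [hI i.1 U hUW, eqn, h1]
    change Ideal.span {X.presheaf.map (homOfLE hUW).op 1} = ⊤
    rw [map_one, Ideal.span_singleton_one]
  choose e' he' using hsome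
  let O : X.Opens := ⟨⋂ i : {i : Fin r // x ∉ (D i).support}, ((D i.1).support : Set X)ᶜ,
    isOpen_iInter_of_finite fun i => (D i.1).support.isClosed.isOpen_compl⟩
  have hxO : x ∈ O := Set.mem_iInter.2 fun i => i.2
  have hle : W ⊓ O ≤ W := inf_le_left
  refine ⟨W ⊓ O, ⟨hx, hxO⟩, n, fun j => fn (W ⊓ O) (X.presheaf.map (homOfLE hle).op (v j)), e', ?_,
    etale_restrict f hle v hv, fun i U hU => ?_, fun i hi U hU => ?_⟩
  · intro i i' h
    exact Subtype.ext (he i.1 i'.1 (e' i) (he' i) (by rw [h]; exact he' i'))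
  · rw [hI i.1 U (hU.trans hle), sectOn_fn, eqn, he' i, ← ConcreteCategory.comp_apply, ← X.presheaf.map_comp]
    rfl
  · refine ideal_eq_top_of_disjoint _ _ fun y hy hyi => ?_
    exact Set.mem_iInter.1 (hU hy).2 ⟨i, hi⟩ hyi

/-- The condition at a point of a component gives a chart. -/
theorem exists_chartOn {D : Fin r → X.IdealSheafData} {f : X ⟶ S} {x : X} (h : NcdAt D f x)
    (hne : Nonempty (Through D x)) :
    ∃ (W : X.Opens) (_ : x ∈ W) (n : ℕ) (e : Fin r → Option (Fin n)), Inj e ∧ ChartOn D f W e := by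
  classical
  obtain ⟨W, hxW, n, v, e, he, hv, hI, hI'⟩ := h hne
  refine ⟨W, hxW, n, fun i => if h : x ∈ (D i).support then some (e ⟨i, h⟩) else none, ?_,
    fun j => W.topIso.hom (v j), ?_, fun i U hU => ?_⟩
  · intro i i' j h h'
    dsimp only at h h'
    split_ifs at h h' with hi hi'
    have h1 : (⟨i, hi⟩ : Through D x) = ⟨i', hi'⟩ := he (by
      rw [Option.some.injEq] at h h'
      rw [h, h'])
    exact congrArg Subtype.val h1
  · simp only [fn_topIso]
    exact hv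
  · by_cases hi : x ∈ (D i).support
    · rw [hI ⟨i, hi⟩ U hU, eqn, dif_pos hi]
      rfl
    · rw [hI' i hi U hU, eqn, dif_neg hi]
      change ⊤ = Ideal.span {X.presheaf.map (homOfLE hU).op 1}
      rw [map_one, Ideal.span_singleton_one]

theorem isOpen_ncdAt (D : Fin r → X.IdealSheafData) (f : X ⟶ S) : IsOpen {x | NcdAt D f x} := by
  rw [isOpen_iff_forall_mem_open]
  intro x hx
  by_cases hne : Nonempty (Through D x)
  · obtain ⟨W, hxW, n, e, he, hc⟩ := exists_chartOn hx hne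
    exact ⟨W, fun y hy => ncdAt_of_chartOn he hc hy, W.2, hxW⟩
  · refine ⟨⋂ i, ((D i).support : Set X)ᶜ, fun y hy hy' => ?_,
      isOpen_iInter_of_finite fun i => (D i).support.isClosed.isOpen_compl,
      Set.mem_iInter.2 fun i h => hne ⟨⟨i, h⟩⟩⟩
    obtain ⟨i⟩ := hy'
    exact absurd i.2 (Set.mem_iInter.1 hy i.1)

end NcdAt

section BaseChange

variable {X S X' S' : Scheme.{u}} {r : ℕ} {f : X ⟶ S} {f' : X' ⟶ S'} {g : X' ⟶ X} {b : S' ⟶ S}

theorem app_eqn (g : X' ⟶ X) {W : X.Opens} {n : ℕ} (v : ULift.{u} (Fin n) → Γ(X, W)) (e : Fin r → Option (Fin n))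
    (i : Fin r) : g.app W (eqn v e i) = eqn (fun j => g.app W (v j)) e i := by
  unfold eqn
  cases e i with
  | none => exact map_one _
  | some j => rfl

theorem etale_bc (sq : IsPullback g f' f b) {W : X.Opens} {n : Type u} (v : n → Γ(X, W))
    (he : Etale (AffineSpace.homOfVector (W.ι ≫ f) (fun i => fn W (v i)))) :
    Etale (AffineSpace.homOfVector ((g ⁻¹ᵁ W).ι ≫ f') (fun i => fn (g ⁻¹ᵁ W) (g.app W (v i)))) := by
  have sq2 : IsPullback (g ∣_ W) ((g ⁻¹ᵁ W).ι ≫ f') (W.ι ≫ f) b :=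
    (isPullback_morphismRestrict g W).paste_vert sq
  have h1 := etale_homOfVector_of_isPullback sq2 _ he
  simpa only [restrict_fn] using h1

/-- Charts are stable under base change. -/
theorem chartOn_bc (sq : IsPullback g f' f b) {D : Fin r → X.IdealSheafData} {W : X.Opens} {n : ℕ}
    {e : Fin r → Option (Fin n)} (h : ChartOn D f W e) : ChartOn (fun i => (D i).comap g) f' (g ⁻¹ᵁ W) e := by
  obtain ⟨v, hv, hI⟩ := h
  refine ⟨fun j => g.app W (v j), etale_bc sq v hv, fun i U' hU' => ?_⟩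
  refine ideal_eq_span_of_local U' _ fun x hx => ?_
  obtain ⟨U, V', hfx, hxV', hV', hU, eV⟩ := exists_affine_le g x U'.1 hx W (hU' hx)
  refine ⟨V', hV', hxV', ?_⟩
  rw [ideal_comap _ g U V' eV, hI i U hU, Ideal.map_span, Set.image_singleton, ← app_eqn]
  congr 2
  change (X.presheaf.map (homOfLE hU).op ≫ g.appLE U.1 V'.1 eV) (eqn v e i) =
    (g.app W ≫ X'.presheaf.map (homOfLE hU').op ≫ X'.presheaf.map (homOfLE hV').op) (eqn v e i)
  rw [Scheme.Hom.map_appLE, ← X'.presheaf.map_comp, Scheme.Hom.appLE]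
  rfl

theorem ncdAt_bc (sq : IsPullback g f' f b) {D : Fin r → X.IdealSheafData} (x' : X') (h : NcdAt D f (g x')) :
    NcdAt (fun i => (D i).comap g) f' x' := by
  intro hne
  obtain ⟨W, hxW, n, e, he, hc⟩ := exists_chartOn h (hne.map (throughEquiv D g x'))
  exact ncdAt_of_chartOn he (chartOn_bc sq hc) (x := x') hxW hne

end BaseChange

section Spread

variable {k : Type u} [Field k] {S : Subalgebra ℤ k} {X X₀ : Scheme.{u}} {f : X ⟶ Spec (CommRingCat.of k)}
  {f₀ : X₀ ⟶ Spec (CommRingCat.of S)} {p : X ⟶ X₀} {r : ℕ}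

/-- On an affine open it suffices to know the ideals there. -/
theorem ideal_of_le {X : Scheme.{u}} (I : X.IdealSheafData) {W : X.Opens} (hW : IsAffineOpen W) (U : X.affineOpens)
    (h : U.1 ≤ W) {s : Γ(X, W)} (hs : I.ideal ⟨W, hW⟩ = Ideal.span {s}) :
    I.ideal U = Ideal.span {X.presheaf.map (homOfLE h).op s} := by
  have h1 := I.map_ideal (U := U) (V := ⟨W, hW⟩) h
  rw [← h1, hs, Ideal.map_span, Set.image_singleton]
  rfl

/-- Charts on affine opens whose coordinates are defined on the model spread out. -/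
theorem ev_chartOn_of [LocallyOfFinitePresentation f₀] (H : IsPullback p f f₀ (sv S)) (hS : S.FG)
    (D₀ : Fin r → X₀.IdealSheafData) {W : X₀.Opens} (hW : IsAffineOpen W)
    (hfg : ∀ i, ((D₀ i).ideal ⟨W, hW⟩).FG) {n : ℕ} {e : Fin r → Option (Fin n)}
    (v : ULift.{u} (Fin n) → Γ(X₀, W))
    (he : Etale (AffineSpace.homOfVector ((p ⁻¹ᵁ W).ι ≫ f) (fun i => fn (p ⁻¹ᵁ W) (p.app W (v i)))))
    (hI : ∀ i, ((D₀ i).ideal ⟨W, hW⟩).map (p.app W).hom = (Ideal.span {eqn v e i}).map (p.app W).hom) :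
    Ev S (BC f₀ (fun _ _ _ q g => ChartOn (fun i => (D₀ i).comap q) g (q ⁻¹ᵁ W) e)) := by
  have hWc : IsCompact (W : Set X₀) := hW.isCompact
  have c1 : CompactSpace W := isCompact_iff_compactSpace.mp hWc
  have hqc : QuasiCompact (W.ι ≫ f₀) := (quasiCompact_iff_compactSpace (W.ι ≫ f₀)).mpr c1
  have sq : IsPullback (p ∣_ W) ((p ⁻¹ᵁ W).ι ≫ f) (W.ι ≫ f₀) (sv S) :=
    (isPullback_morphismRestrict p W).paste_vert H
  have h1 := ev_etale_homOfVector sq hS (fun i => fn W (v i)) (by simpa only [restrict_fn] using he)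
  have h2 : ∀ i : Fin r, Ev S (BC f₀ (fun _ _ _ q _ =>
      ((D₀ i).ideal ⟨W, hW⟩).map (q.app W).hom = (Ideal.span {eqn v e i}).map (q.app W).hom)) := fun i =>
    ev_ideal_eq H hS hW (hfg i) ⟨{eqn v e i}, by simp⟩ (hI i)
  refine (h1.and (Ev.all_finite hS h2)).mono fun T _ φ h X' q g hq => ?_
  obtain ⟨h3, h4⟩ := h
  have hq' : IsAffineHom q := MorphismProperty.of_isPullback hq.flip inferInstance
  have sq' : IsPullback (q ∣_ W) ((q ⁻¹ᵁ W).ι ≫ g) (W.ι ≫ f₀) (sp φ) :=
    (isPullback_morphismRestrict q W).paste_vert hq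
  have h5 : Etale (AffineSpace.homOfVector ((q ⁻¹ᵁ W).ι ≫ g) (fun i => (q ∣_ W).appTop (fn W (v i)))) :=
    h3 _ _ _ sq'
  refine ⟨fun i => q.app W (v i), by simpa only [restrict_fn] using h5, fun i U hU => ?_⟩
  refine ideal_of_le _ (hW.preimage q) U hU ?_
  have h6 : ((D₀ i).ideal ⟨W, hW⟩).map (q.app W).hom = (Ideal.span {eqn v e i}).map (q.app W).hom := h4 i X' q g hq
  rw [ideal_comap _ q ⟨W, hW⟩ ⟨q ⁻¹ᵁ W, hW.preimage q⟩ le_rfl]
  have h7 : q.appLE W (q ⁻¹ᵁ W) le_rfl = q.app W := Scheme.Hom.appLE_eq_app q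
  change ((D₀ i).ideal ⟨W, hW⟩).map (q.appLE W (q ⁻¹ᵁ W) le_rfl).hom = _
  rw [h7, h6, Ideal.map_span, Set.image_singleton, ← app_eqn]

/-- Charts on preimages of affine opens spread out. -/
theorem ev_chartOn [LocallyOfFinitePresentation f₀] (H : IsPullback p f f₀ (sv S)) (hS : S.FG)
    (D₀ : Fin r → X₀.IdealSheafData) {W : X₀.Opens} (hW : IsAffineOpen W)
    (hfg : ∀ i, ((D₀ i).ideal ⟨W, hW⟩).FG) {n : ℕ} {e : Fin r → Option (Fin n)}
    (hc : ChartOn (fun i => (D₀ i).comap p) f (p ⁻¹ᵁ W) e) :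
    Ev S (BC f₀ (fun _ _ _ q g => ChartOn (fun i => (D₀ i).comap q) g (q ⁻¹ᵁ W) e)) := by
  obtain ⟨v, hv, hI⟩ := hc
  obtain ⟨S₁, hle, hfg₁, hS₁⟩ := exists_sections H hS hW v
  obtain ⟨t, ht⟩ := hS₁ S₁ le_rfl
  refine ev_of_stage f₀ hle ?_
  let W₁ : (St f₀ hle).Opens := pr f₀ hle ⁻¹ᵁ W
  have hW₁ : IsAffineOpen W₁ := hW.preimage _
  have hle' : up H hle ⁻¹ᵁ W₁ ≤ p ⁻¹ᵁ W := by rw [← Scheme.Hom.comp_preimage, up_pr]
  have hle'' : p ⁻¹ᵁ W ≤ up H hle ⁻¹ᵁ W₁ := le_up H hle W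
  -- the coordinates
  have ht' : ∀ j, (up H hle).app W₁ (t j) = X.presheaf.map (homOfLE hle').op (v j) := by
    intro j
    rw [← ht j]
    change _ = ((up H hle).appLE W₁ (p ⁻¹ᵁ W) hle'' ≫ X.presheaf.map (homOfLE hle').op) (t j)
    rw [Scheme.Hom.appLE_map, Scheme.Hom.appLE_eq_app]
  have hev : Ev S₁ (BC (st f₀ hle) (fun _ _ _ q g =>
      ChartOn (fun i => ((D₀ i).comap (pr f₀ hle)).comap q) g (q ⁻¹ᵁ W₁) e)) := by
    refine ev_chartOn_of (isPullback_up H hle) hfg₁ (fun i => (D₀ i).comap (pr f₀ hle)) hW₁ (fun i => ?_) t ?_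
      fun i => ?_
    · rw [ideal_comap _ (pr f₀ hle) ⟨W, hW⟩ ⟨W₁, hW₁⟩ le_rfl]
      exact (hfg i).map _
    · simp only [ht']
      exact etale_restrict f hle' v hv
    · have hup : IsAffineHom (up H hle) := MorphismProperty.of_isPullback (isPullback_up H hle).flip inferInstance
      have h1 : (((D₀ i).comap (pr f₀ hle)).comap (up H hle)).ideal ⟨up H hle ⁻¹ᵁ W₁, hW₁.preimage _⟩ =
          (((D₀ i).comap (pr f₀ hle)).ideal ⟨W₁, hW₁⟩).map ((up H hle).app W₁).hom := by
        rw [ideal_comap _ (up H hle) ⟨W₁, hW₁⟩ ⟨up H hle ⁻¹ᵁ W₁, hW₁.preimage _⟩ le_rfl]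
        change Ideal.map ((up H hle).appLE W₁ (up H hle ⁻¹ᵁ W₁) le_rfl).hom _ = _
        rw [Scheme.Hom.appLE_eq_app]
      rw [← h1, ← Scheme.IdealSheafData.comap_comp, up_pr, hI i ⟨up H hle ⁻¹ᵁ W₁, hW₁.preimage _⟩ hle',
        Ideal.map_span, Set.image_singleton, map_eqn]
      have h2 : (up H hle).app W₁ (eqn t e i) = eqn (fun j => X.presheaf.map (homOfLE hle').op (v j)) e i :=
        (app_eqn (up H hle) t e i).trans (congrArg (fun w => eqn w e i) (funext ht'))
      exact congrArg (fun x => Ideal.span {x}) h2.symm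
  refine hev.mono fun T _ φ h X' q g hq => ?_
  have h1 : ChartOn (fun i => ((D₀ i).comap (pr f₀ hle)).comap q) g (q ⁻¹ᵁ W₁) e := h X' q g hq
  change ChartOn (fun i => (D₀ i).comap (q ≫ pullback.fst f₀ (sp (inc hle)))) g _ e
  simp only [Scheme.IdealSheafData.comap_comp]
  exact h1

/-- The ideals of an ideal sheaf on a locally noetherian scheme are finitely generated. -/
theorem ideal_fg {Y : Scheme.{u}} [IsLocallyNoetherian Y] (I : Y.IdealSheafData) (U : Y.affineOpens) : (I.ideal U).FG :=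
  have := IsLocallyNoetherian.component_noetherian (X := Y) U
  (isNoetherianRing_iff_ideal_fg _).mp this _

theorem isNoetherianRing_of_fg (hS : S.FG) : IsNoetherianRing S := by
  have : Algebra.FiniteType ℤ S := (Subalgebra.fg_iff_finiteType S).mp hS
  exact Algebra.FiniteType.isNoetherianRing ℤ S

theorem isLocallyNoetherian_of_fg [LocallyOfFiniteType f₀] (hS : S.FG) : IsLocallyNoetherian X₀ := by
  have h1 : IsNoetherianRing S := isNoetherianRing_of_fg hS
  have h2 : IsNoetherianRing (CommRingCat.of S) := h1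
  exact LocallyOfFiniteType.isLocallyNoetherian f₀

/-- The normal crossing condition at a point of `X` holds at a stage. -/
theorem exists_ncdAt [LocallyOfFinitePresentation f₀] (H : IsPullback p f f₀ (sv S)) (hS : S.FG)
    (D₀ : Fin r → X₀.IdealSheafData) (x : X) (hx : NcdAt (fun i => (D₀ i).comap p) f x) :
    ∃ (S' : Subalgebra ℤ k) (h : S ≤ S') (_ : S'.FG),
      NcdAt (fun i => (D₀ i).comap (pr f₀ h)) (st f₀ h) (up H h x) := by
  have hpaff : IsAffineHom p := MorphismProperty.of_isPullback H.flip inferInstance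
  by_cases hne : Nonempty (Through (fun i => (D₀ i).comap p) x)
  · obtain ⟨W, hxW, n, e, he, hc⟩ := exists_chartOn hx hne
    obtain ⟨U₀, hU₀, hxU₀, -⟩ := exists_isAffineOpen_mem_and_subset (X := X₀) (x := p x) (U := ⊤) trivial
    obtain ⟨a, haW, hxa⟩ := (hU₀.preimage p).exists_basicOpen_le (V := W) ⟨x, hxW⟩ hxU₀
    obtain ⟨S₁, h₁, hfg₁, hS₁⟩ := exists_sections H hS hU₀ (fun _ : Unit => a)
    obtain ⟨t, ht⟩ := hS₁ S₁ le_rfl
    have ht' := ht ()
    let W₁ : (St f₀ h₁).Opens := (St f₀ h₁).basicOpen (t ())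
    have hW₁ : IsAffineOpen W₁ := (hU₀.preimage (pr f₀ h₁)).basicOpen (t ())
    have h2 : X.basicOpen a = p ⁻¹ᵁ U₀ ⊓ up H h₁ ⁻¹ᵁ W₁ := by
      rw [← ht', Scheme.basicOpen_appLE]
    have h3 : up H h₁ ⁻¹ᵁ W₁ ≤ p ⁻¹ᵁ U₀ := by
      refine ((up H h₁).preimage_mono ((St f₀ h₁).basicOpen_le (t ()))).trans ?_
      rw [← Scheme.Hom.comp_preimage, up_pr]
    have h4 : X.basicOpen a = up H h₁ ⁻¹ᵁ W₁ := by rw [h2, inf_eq_right.mpr h3]
    have hn : IsLocallyNoetherian (St f₀ h₁) := isLocallyNoetherian_of_fg (f₀ := st f₀ h₁) hfg₁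
    have h5 : ChartOn (fun i => ((D₀ i).comap (pr f₀ h₁)).comap (up H h₁)) f (up H h₁ ⁻¹ᵁ W₁) e := by
      simp only [← Scheme.IdealSheafData.comap_comp, up_pr]
      exact chartOn_of_le (h4.symm.le.trans haW) hc
    have h6 := ev_chartOn (isPullback_up H h₁) hfg₁ (fun i => (D₀ i).comap (pr f₀ h₁)) hW₁
      (fun i => ideal_fg _ _) h5
    obtain ⟨S₂, h₂, hfg₂, hS₂⟩ := exists_stage h6
    refine ⟨S₂, h₁.trans h₂, hfg₂, ?_⟩
    have h7 : ChartOn (fun i => ((D₀ i).comap (pr f₀ h₁)).comap (tr f₀ h₁ h₂)) (st f₀ (h₁.trans h₂))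
        (tr f₀ h₁ h₂ ⁻¹ᵁ W₁) e := hS₂ S₂ le_rfl _ _ _ (isPullback_tr f₀ h₁ h₂)
    simp only [← Scheme.IdealSheafData.comap_comp, tr_pr] at h7
    refine ncdAt_of_chartOn he h7 ?_
    change tr f₀ h₁ h₂ (up H (h₁.trans h₂) x) ∈ W₁
    rw [← Scheme.Hom.comp_apply, up_tr]
    have h8 : x ∈ up H h₁ ⁻¹ᵁ W₁ := h4 ▸ hxa
    exact h8
  · refine ⟨S, le_rfl, hS, fun hne' => absurd ?_ hne⟩
    have e1 := throughEquiv D₀ (pr f₀ le_rfl) (up H le_rfl x)
    have e2 := throughEquiv D₀ p x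
    have h1 : pr f₀ le_rfl (up H le_rfl x) = p x := by rw [← Scheme.Hom.comp_apply, up_pr]
    rw [h1] at e1
    exact (hne'.map e1).map e2.symm

theorem exists_sup {ι : Type v} (t : Finset ι) (F : ι → Subalgebra ℤ k) (hF : ∀ i, (F i).FG) (hS : S.FG) :
    ∃ S' : Subalgebra ℤ k, S ≤ S' ∧ S'.FG ∧ ∀ i ∈ t, F i ≤ S' := by
  classical
  induction t using Finset.induction_on with
  | empty => exact ⟨S, le_rfl, hS, fun i hi => by simp at hi⟩
  | insert a t ha ih =>
    obtain ⟨S', h1, h2, h3⟩ := ih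
    refine ⟨S' ⊔ F a, h1.trans le_sup_left, h2.sup (hF a), fun i hi => ?_⟩
    rcases Finset.mem_insert.mp hi with rfl | hi
    · exact le_sup_right
    · exact (h3 i hi).trans le_sup_left

/-- **Normal crossing divisors spread out.** -/
theorem ev_isNCD [LocallyOfFinitePresentation f₀] [QuasiCompact f₀] (H : IsPullback p f f₀ (sv S)) (hS : S.FG)
    (D₀ : Fin r → X₀.IdealSheafData) (hD : IsNCD (fun i => (D₀ i).comap p) f) :
    Ev S (BC f₀ (fun _ _ _ q g => IsNCD (fun i => (D₀ i).comap q) g)) := by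
  have hcX : CompactSpace X := by
    have : QuasiCompact f := MorphismProperty.of_isPullback H inferInstance
    exact QuasiCompact.compactSpace_of_compactSpace f
  choose F hF hFG hN using fun x : X => exists_ncdAt H hS D₀ x (hD x)
  let U : X → Set X := fun x => {y | NcdAt (fun i => (D₀ i).comap (pr f₀ (hF x))) (st f₀ (hF x)) (up H (hF x) y)}
  have hU : ∀ x, IsOpen (U x) := fun x => (isOpen_ncdAt _ _).preimage (up H (hF x)).continuous
  obtain ⟨t, ht⟩ := isCompact_univ.elim_finite_subcover U hU fun x _ => Set.mem_iUnion.mpr ⟨x, hN x⟩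
  obtain ⟨S₁, h₁, hfg₁, hS₁⟩ := exists_sup t F hFG hS
  have key : ∀ y : X, NcdAt (fun i => (D₀ i).comap (pr f₀ h₁)) (st f₀ h₁) (up H h₁ y) := by
    intro y
    obtain ⟨x, hx, hy⟩ := Set.mem_iUnion₂.mp (ht (Set.mem_univ y))
    have hle : F x ≤ S₁ := hS₁ x hx
    have h2 := ncdAt_bc (isPullback_tr f₀ (hF x) hle) (D := fun i => (D₀ i).comap (pr f₀ (hF x)))
      (up H ((hF x).trans hle) y) (by
        rw [← Scheme.Hom.comp_apply, up_tr]
        exact hy)
    simpa only [← Scheme.IdealSheafData.comap_comp, tr_pr] using h2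
  let O : (St f₀ h₁).Opens := ⟨_, isOpen_ncdAt (fun i => (D₀ i).comap (pr f₀ h₁)) (st f₀ h₁)⟩
  have hO : up H h₁ ⁻¹ᵁ O = ⊤ := by
    rw [eq_top_iff]
    intro y _
    exact key y
  refine ev_of_stage f₀ h₁ ((ev_preimage_eq_top (isPullback_up H h₁) hfg₁ O hO).mono fun T _ φ h X' q g hq x' => ?_)
  have h3 : x' ∈ q ⁻¹ᵁ O := by rw [h X' q g hq]; trivial
  have h4 := ncdAt_bc hq x' (D := fun i => (D₀ i).comap (pr f₀ h₁)) h3
  change NcdAt (fun i => (D₀ i).comap (q ≫ pr f₀ h₁)) g x'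
  simp only [Scheme.IdealSheafData.comap_comp]
  exact h4

end Spread

end K890.Ncd
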