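import Mathlib.RingTheory.Smooth.Locus
import Mathlib.RingTheory.Smooth.Field
import Mathlib.RingTheory.Etale.Basic
import Mathlib.Algebra.Algebra.Rat
import Mathlib.RingTheory.WittVector.Identities
import Mathlib.RingTheory.WittVector.Teichmuller
import Mathlib.RingTheory.Localization.AtPrime.Basic
import Mathlib.RingTheory.WittVector.Domain
import Mathlib.RingTheory.Localization.FractionRing
import Groth.Agent.UnramA.MonoEndo
import Groth.Prelude.Def_W4c1liftfrobW2

/-!
# Closed points of large residue characteristic on the spectrum of a finitely generated ring of characteristic zero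

* `ker_res_sq`: the kernel of `W₂(R) → R` has square zero (`R` of characteristic `p`).
* `exists_smooth_away`: a domain of finite type over `ℤ` and of characteristic `0` becomes smooth over `ℤ` after
  inverting a nonzero element.
* `exists_point`: for `s ≠ 0` and `N` there are a maximal ideal `Q` of `S`, `s ∉ Q`, with finite residue field of
  characteristic `p > N`, such that `S → S/Q` lifts to `S → W₂(S/Q)`.
-/

set_option autoImplicit false
universe u v

namespace K890.Points

section Witt

variable (p : ℕ) [Fact p.Prime] (R : Type u) [CommRing R]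

theorem res_truncate (x : WittVector p R) :
    FrobAlg.res p R (WittVector.truncate 2 x) = x.coeff 0 := by
  unfold FrobAlg.res
  rw [RingHom.liftOfRightInverse_comp_apply]
  rfl

theorem res_surjective : Function.Surjective (FrobAlg.res p R) := by
  intro a
  refine ⟨WittVector.truncate 2 (WittVector.teichmuller p a), ?_⟩
  rw [res_truncate, WittVector.teichmuller_coeff_zero]

theorem exists_verschiebung {x : FrobAlg.W2 p R} (hx : FrobAlg.res p R x = 0) :
    ∃ y : WittVector p R, x = WittVector.truncate 2 (WittVector.verschiebung y) := by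
  obtain ⟨X, rfl⟩ := WittVector.truncate_surjective p 2 R x
  rw [res_truncate] at hx
  refine ⟨X.shift 1, ?_⟩
  rw [WittVector.verschiebung_shift X 0 (by intro i hi; obtain rfl : i = 0 := by omega
                                            exact hx)]
  congr 1
  ext i
  simp [WittVector.shift_coeff]

theorem truncate_iterate_verschiebung (y : WittVector p R) :
    WittVector.truncate 2 ((WittVector.verschiebung : WittVector p R → WittVector p R)^[2] y) = 0 := by
  have h : (WittVector.verschiebung : WittVector p R → WittVector p R)^[2] y ∈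
      RingHom.ker (WittVector.truncate (p := p) (R := R) 2) := by
    rw [WittVector.mem_ker_truncate]
    intro i hi
    rcases i with _ | _ | i
    · exact WittVector.verschiebung_coeff_zero _
    · rw [Function.iterate_succ_apply']
      rw [WittVector.verschiebung_coeff_succ]
      exact WittVector.verschiebung_coeff_zero _
    · omega
  exact h

theorem mul_eq_zero_of_res [CharP R p] {x y : FrobAlg.W2 p R} (hx : FrobAlg.res p R x = 0)
    (hy : FrobAlg.res p R y = 0) : x * y = 0 := by
  obtain ⟨a, rfl⟩ := exists_verschiebung p R hx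
  obtain ⟨b, rfl⟩ := exists_verschiebung p R hy
  rw [← map_mul]
  have := WittVector.iterate_verschiebung_mul (p := p) (R := R) a b 1 1
  simp only [Function.iterate_one] at this
  rw [this]
  exact truncate_iterate_verschiebung p R _

theorem ker_res_sq [CharP R p] : RingHom.ker (FrobAlg.res p R) ^ 2 = ⊥ := by
  rw [pow_two, eq_bot_iff, Ideal.mul_le]
  intro x hx y hy
  rw [Ideal.mem_bot]
  exact mul_eq_zero_of_res p R hx hy

end Witt

/-- A field of finite type over `ℤ` is finite. -/
theorem finite_of_isField (K : Type u) [CommRing K] (hK : IsField K) [inst : Algebra ℤ K]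
    [h : Algebra.FiniteType ℤ K] : Finite K := by
  obtain rfl : inst = Ring.toIntAlgebra K := Subsingleton.elim _ _
  let _ : Field K := hK.toField
  exact @Groth.Agent.UnramA.MonoEndo.finite_of_finiteType_int K _ h

section Smooth

variable (S : Type u) [CommRing S] [IsDomain S] [CharZero S] [Algebra.FiniteType ℤ S]

theorem formallySmooth_fractionField (K : Type u) [CommRing K] [Algebra S K] [IsFractionRing S K]
    [inst : Algebra ℤ K] : Algebra.FormallySmooth ℤ K := by
  obtain rfl : inst = Ring.toIntAlgebra K := Subsingleton.elim _ _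
  let _ : Field K := IsFractionRing.toField S
  have : CharZero K := charZero_of_injective_algebraMap (IsFractionRing.injective S K)
  let _ : Algebra ℚ K := DivisionRing.toRatAlgebra
  have h1 : Algebra.EssFiniteType S K := Algebra.EssFiniteType.of_isLocalization K (nonZeroDivisors S)
  have h2 : Algebra.EssFiniteType ℤ K := Algebra.EssFiniteType.comp ℤ S K
  have h3 : Algebra.EssFiniteType ℚ K := Algebra.EssFiniteType.of_comp ℤ ℚ K
  have h4 : Algebra.FormallyEtale ℤ ℚ := Algebra.FormallyEtale.of_isLocalization (nonZeroDivisors ℤ)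
  have h5 : Algebra.FormallySmooth ℚ K := inferInstance
  exact Algebra.FormallySmooth.comp ℤ ℚ K

theorem formallySmooth_int_of_ringEquiv {A B : Type u} [CommRing A] [CommRing B] [i1 : Algebra ℤ A]
    [i2 : Algebra ℤ B] [Algebra.FormallySmooth ℤ A] (e : A ≃+* B) : Algebra.FormallySmooth ℤ B := by
  obtain rfl : i1 = Ring.toIntAlgebra A := Subsingleton.elim _ _
  obtain rfl : i2 = Ring.toIntAlgebra B := Subsingleton.elim _ _
  exact Algebra.FormallySmooth.of_equiv e.toIntAlgEquiv

theorem isSmoothAt_bot : Algebra.IsSmoothAt ℤ (⊥ : Ideal S) := by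
  have h1 : IsLocalization (⊥ : Ideal S).primeCompl (FractionRing S) := by
    rw [Ideal.primeCompl_bot]
    infer_instance
  have e : FractionRing S ≃ₐ[S] Localization.AtPrime (⊥ : Ideal S) :=
    IsLocalization.algEquiv (⊥ : Ideal S).primeCompl _ _
  have h3 : Algebra.FormallySmooth ℤ (FractionRing S) := formallySmooth_fractionField S (FractionRing S)
  exact formallySmooth_int_of_ringEquiv e.toRingEquiv

theorem exists_smooth_away : ∃ a : S, a ≠ 0 ∧ Algebra.Smooth ℤ (Localization.Away a) := by
  have hfp : Algebra.FinitePresentation ℤ S := Algebra.FinitePresentation.of_finiteType.mp inferInstance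
  have h1 : IsOpen (Algebra.smoothLocus ℤ S) := Algebra.isOpen_smoothLocus
  have h2 : (⟨⊥, Ideal.isPrime_bot⟩ : PrimeSpectrum S) ∈ Algebra.smoothLocus ℤ S := isSmoothAt_bot S
  obtain ⟨_, ⟨a, rfl⟩, ha, hle⟩ := PrimeSpectrum.isTopologicalBasis_basic_opens.exists_subset_of_mem_open h2 h1
  refine ⟨a, ?_, Algebra.basicOpen_subset_smoothLocus_iff_smooth.mp hle⟩
  rintro rfl
  simp at ha

end Smooth

section Lift

/-- Lifting of a homomorphism `S → κ` to `W₂(κ)` when `T = S[1/a]` is formally smooth over `ℤ` and `a` is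
invertible in `κ`. -/
theorem exists_lift_W2 {S : Type u} [CommRing S] (a : S) {T : Type u} [CommRing T] [Algebra S T]
    [IsLocalization.Away a T] [inst : Algebra ℤ T] [Algebra.FormallySmooth ℤ T]
    (p : ℕ) [Fact p.Prime] {κ : Type u} [CommRing κ] [CharP κ p] (φ : S →+* κ) (h : IsUnit (φ a)) :
    ∃ ψ : S →+* FrobAlg.W2 p κ, (FrobAlg.res p κ).comp ψ = φ := by
  obtain rfl : inst = Ring.toIntAlgebra T := Subsingleton.elim _ _
  let φ' : T →+* κ := IsLocalization.Away.lift a h
  have h1 : IsNilpotent (RingHom.ker (FrobAlg.res p κ)) := ⟨2, ker_res_sq p κ⟩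
  let g : FrobAlg.W2 p κ →ₐ[ℤ] κ := (FrobAlg.res p κ).toIntAlgHom
  have hg : Function.Surjective g := res_surjective p κ
  let ψ := Algebra.FormallySmooth.liftOfSurjective φ'.toIntAlgHom g hg h1
  refine ⟨ψ.toRingHom.comp (algebraMap S T), ?_⟩
  ext x
  have h2 := Algebra.FormallySmooth.liftOfSurjective_apply φ'.toIntAlgHom g hg h1 (algebraMap S _ x)
  have h3 : φ' (algebraMap S _ x) = φ x := IsLocalization.Away.lift_eq a h x
  rw [← h3]
  exact h2

theorem exists_point (S : Type u) [CommRing S] [IsDomain S] [CharZero S] [Algebra.FiniteType ℤ S]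
    (s : S) (hs : s ≠ 0) (N : ℕ) :
    ∃ (Q : Ideal S) (_ : Q.IsMaximal) (p : ℕ) (_ : Fact p.Prime), s ∉ Q ∧ N < p ∧ CharP (S ⧸ Q) p ∧
      Finite (S ⧸ Q) ∧
      ∃ ψ : S →+* FrobAlg.W2 p (S ⧸ Q), (FrobAlg.res p (S ⧸ Q)).comp ψ = Ideal.Quotient.mk Q := by
  obtain ⟨a, ha, hsm⟩ := exists_smooth_away S
  let ℓ : S := s * a * (N.factorial : S)
  have hℓ : ℓ ∉ (⊥ : Ideal S) := by
    rw [Ideal.mem_bot]
    exact mul_ne_zero (mul_ne_zero hs ha) (Nat.cast_ne_zero.mpr N.factorial_ne_zero)
  have h0 : IsJacobsonRing ℤ := Groth.Agent.UnramA.MonoEndo.isJacobsonRing_int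
  have h1 : IsJacobsonRing S := isJacobsonRing_of_finiteType (A := ℤ)
  have h2 : (⊥ : Ideal S).jacobson = ⊥ := by
    rw [← Ideal.radical_eq_jacobson, Ideal.IsPrime.radical Ideal.isPrime_bot]
  have h3 : ℓ ∉ (⊥ : Ideal S).jacobson := by rwa [h2]
  rw [Ideal.jacobson, Ideal.mem_sInf] at h3
  push Not at h3
  obtain ⟨Q, ⟨-, hQ⟩, hℓQ⟩ := h3
  have hsQ : s ∉ Q := fun h => hℓQ (Ideal.mul_mem_right _ _ (Ideal.mul_mem_right _ _ h))
  have haQ : a ∉ Q := fun h => hℓQ (Ideal.mul_mem_right _ _ (Ideal.mul_mem_left _ _ h))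
  have hNQ : (N.factorial : S) ∉ Q := fun h => hℓQ (Ideal.mul_mem_left _ _ h)
  have hft : Algebra.FiniteType ℤ (S ⧸ Q) := Algebra.FiniteType.of_surjective
    (Ideal.Quotient.mkₐ ℤ Q) Ideal.Quotient.mk_surjective
  have hfin : Finite (S ⧸ Q) :=
    finite_of_isField (S ⧸ Q)
      ((Ideal.Quotient.maximal_ideal_iff_isField_quotient _).mp hQ)
  let _ : Field (S ⧸ Q) := Ideal.Quotient.field Q
  obtain ⟨p, hp⟩ := CharP.exists (S ⧸ Q)
  have hp' : p.Prime := (CharP.char_is_prime_or_zero (S ⧸ Q) p).resolve_right (by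
    rintro rfl
    have : CharZero (S ⧸ Q) := CharP.charP_to_charZero _
    have : Infinite (S ⧸ Q) := Infinite.of_injective (fun n : ℕ => (n : S ⧸ Q)) Nat.cast_injective
    exact not_finite (S ⧸ Q))
  have hF : Fact p.Prime := ⟨hp'⟩
  refine ⟨Q, hQ, p, hF, hsQ, ?_, hp, hfin, ?_⟩
  · by_contra hc
    push Not at hc
    apply hNQ
    rw [← Ideal.Quotient.eq_zero_iff_mem, map_natCast]
    exact (CharP.cast_eq_zero_iff (S ⧸ Q) p _).mpr (Nat.dvd_factorial hp'.pos hc)
  · exact exists_lift_W2 a (T := Localization.Away a) p (Ideal.Quotient.mk Q)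
      (IsUnit.mk0 _ (by rwa [Ne, Ideal.Quotient.eq_zero_iff_mem]))

end Lift

end K890.Points
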