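import Groth.Agent.DelIll.K890.HomRes
import Groth.Agent.Ega3B.CombMod
import Mathlib.CategoryTheory.Abelian.Projective.Resolution
import Mathlib.Algebra.Homology.Embedding.CochainComplex

/-!
# The complex of an augmented exact sequence
-/

set_option autoImplicit false

universe w w' v u

open CategoryTheory CategoryTheory.Limits

namespace K890.ResCx

open Groth.Agent.Ega3B.ExtResol

variable {C : Type u} [Category.{v} C] [Abelian C] (R : Res C)

/-- the chain complex of a resolution -/
noncomputable def chain : ChainComplex C ℕ := ChainComplex.of R.P R.d R.w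

lemma chain_d (n : ℕ) : (chain R).d (n + 1) n = R.d n := ChainComplex.of_d _ _ _

/-- the augmentation -/
noncomputable def aug : chain R ⟶ (ChainComplex.single₀ C).obj R.Z :=
  (ChainComplex.toSingle₀Equiv _ _).symm ⟨R.ε, by rw [chain_d]; exact R.w0⟩

lemma chain_exactAt_succ (n : ℕ) : (chain R).ExactAt (n + 1) := by
  rw [HomologicalComplex.exactAt_iff' _ (n + 1 + 1) (n + 1) n (by simp) (by simp)]
  refine (ShortComplex.exact_iff_of_iso ?_).2 (R.ex n)
  refine ShortComplex.isoMk (Iso.refl _) (Iso.refl _) (Iso.refl _) ?_ ?_
  · exact ((Category.id_comp _).trans (chain_d R (n + 1)).symm).trans (Category.comp_id _).symm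
  · exact ((Category.id_comp _).trans (chain_d R n).symm).trans (Category.comp_id _).symm

set_option backward.defeqAttrib.useBackward true in
set_option backward.isDefEq.respectTransparency false in
instance : QuasiIso (aug R) := ⟨fun n => by
  cases n
  · rw [ChainComplex.quasiIsoAt₀_iff, ShortComplex.quasiIso_iff_of_zeros']
    · dsimp
      have := R.epi
      refine (ShortComplex.exact_and_epi_g_iff_of_iso ?_).2 ⟨R.ex0, this⟩
      refine ShortComplex.isoMk (Iso.refl _) (Iso.refl _) (Iso.refl _) ?_ ?_
      · exact ((Category.id_comp _).trans (chain_d R 0).symm).trans (Category.comp_id _).symm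
      · simp [aug]
    all_goals rfl
  · rw [quasiIsoAt_iff_exactAt']
    · apply chain_exactAt_succ
    · apply ChainComplex.exactAt_succ_single_obj⟩

/-- the cochain complex in degrees `≤ 0` of a resolution -/
noncomputable def cx : CochainComplex C ℤ := (chain R).extend ComplexShape.embeddingDownNat

noncomputable def xIso (n : ℤ) (k : ℕ) (h : -k = n) : (cx R).X n ≅ R.P k :=
  HomologicalComplex.extendXIso _ _ h

lemma cx_d (n₁ n₂ : ℤ) (k : ℕ) (h₁ : -((k + 1 : ℕ) : ℤ) = n₁) (h₂ : -k = n₂) :
    (cx R).d n₁ n₂ = (xIso R n₁ (k + 1) h₁).hom ≫ R.d k ≫ (xIso R n₂ k h₂).inv := by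
  have h := HomologicalComplex.extend_d_eq (chain R) ComplexShape.embeddingDownNat h₁ h₂
  rw [chain_d] at h
  exact h

lemma isZero_cx (n : ℤ) (hn : 0 < n) : IsZero ((cx R).X n) :=
  (chain R).isZero_extend_X ComplexShape.embeddingDownNat n fun k hk => by
    have : -(k : ℤ) = n := hk
    omega

/-- the augmentation, a quasi-isomorphism -/
noncomputable def cxAug : cx R ⟶ (CochainComplex.singleFunctor C 0).obj R.Z :=
  (ComplexShape.embeddingDownNat.extendFunctor C).map (aug R) ≫
    (HomologicalComplex.extendSingleIso _ _ _ _ (by simp)).hom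

set_option backward.defeqAttrib.useBackward true in
set_option backward.isDefEq.respectTransparency false in
instance : QuasiIso (cxAug R) := by dsimp [cxAug]; infer_instance

end K890.ResCx
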