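import Groth.Agent.DelIll.K890.Points
import Mathlib.RingTheory.FiniteType
import Mathlib.RingTheory.Adjoin.FG
import Mathlib.FieldTheory.IsAlgClosed.AlgebraicClosure
import Mathlib.RingTheory.WittVector.Truncated

/-!
# Properties of sufficiently general base changes of a finitely generated subring of a field

`Ev S Φ`: for a subring `S` of the field `k`, the property `Φ T φ` of ring homomorphisms `φ : S → T` holds for all `φ`
which extend to a suitable larger finitely generated subring `S'` and make a suitable `s ∈ S'`, `s ≠ 0`, invertible.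
This is a filter-like notion: `Ev.and`, `Ev.mono`, `Ev.all_finite`.

`Ev.exists_point`: in characteristic zero there are homomorphisms `φ : S → κ` to finite fields of arbitrarily large
characteristic, with a lift `ψ : S → W₂(κ)`, such that `Φ` holds for both; `Ev.exists_algClosed_point`: the same with `κ`
algebraically closed.
-/

set_option autoImplicit false
universe u v

namespace K890.Spread

open K890.Points

section Def

variable {k : Type u} [Field k]

/-- `Φ` holds for all ring homomorphisms `S → T` that extend to a suitable larger finitely generated subring `S'` of `k`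
and make a suitable nonzero element of `S'` invertible. -/
def Ev (S : Subalgebra ℤ k) (Φ : ∀ (T : Type u) [CommRing T], (S →+* T) → Prop) : Prop :=
  ∃ (S' : Subalgebra ℤ k) (h : S ≤ S') (s : S'), S'.FG ∧ s ≠ 0 ∧
    ∀ (T : Type u) [CommRing T] (φ : S' →+* T), IsUnit (φ s) →
      Φ T (φ.comp (Subalgebra.inclusion h).toRingHom)

variable {S : Subalgebra ℤ k} {Φ Ψ : ∀ (T : Type u) [CommRing T], (S →+* T) → Prop}

theorem Ev.mono (h : Ev S Φ) (hle : ∀ (T : Type u) [CommRing T] (φ : S →+* T), Φ T φ → Ψ T φ) : Ev S Ψ := by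
  obtain ⟨S', hS, s, hfg, hs, H⟩ := h
  exact ⟨S', hS, s, hfg, hs, fun T _ φ hφ => hle T _ (H T φ hφ)⟩

/-- A property that holds for all homomorphisms holds eventually (`S` finitely generated). -/
theorem Ev.of_forall (hS : S.FG) (h : ∀ (T : Type u) [CommRing T] (φ : S →+* T), Φ T φ) : Ev S Φ :=
  ⟨S, le_rfl, 1, hS, one_ne_zero, fun T _ _ _ => h T _⟩

/-- It suffices to know the property after inverting a nonzero element of a larger finitely generated subring. -/
theorem Ev.of_le {S' : Subalgebra ℤ k} (hle : S ≤ S')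
    (h : Ev S' (fun T _ φ => Φ T (φ.comp (Subalgebra.inclusion hle).toRingHom))) : Ev S Φ := by
  obtain ⟨S'', hS, s, hfg, hs, H⟩ := h
  exact ⟨S'', hle.trans hS, s, hfg, hs, fun T _ φ hφ => H T φ hφ⟩

theorem Ev.of_isUnit (hS : S.FG) (s : S) (hs : s ≠ 0)
    (h : ∀ (T : Type u) [CommRing T] (φ : S →+* T), IsUnit (φ s) → Φ T φ) : Ev S Φ :=
  ⟨S, le_rfl, s, hS, hs, fun T _ _ hφ => h T _ hφ⟩

theorem Ev.and (h₁ : Ev S Φ) (h₂ : Ev S Ψ) : Ev S (fun T _ φ => Φ T φ ∧ Ψ T φ) := by
  obtain ⟨S₁, hS₁, s₁, hfg₁, hs₁, H₁⟩ := h₁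
  obtain ⟨S₂, hS₂, s₂, hfg₂, hs₂, H₂⟩ := h₂
  have h1 : S₁ ≤ S₁ ⊔ S₂ := le_sup_left
  have h2 : S₂ ≤ S₁ ⊔ S₂ := le_sup_right
  refine ⟨S₁ ⊔ S₂, hS₁.trans h1, Subalgebra.inclusion h1 s₁ * Subalgebra.inclusion h2 s₂, hfg₁.sup hfg₂,
    mul_ne_zero ?_ ?_, ?_⟩
  · exact fun h => hs₁ (Subalgebra.inclusion_injective h1 (by rw [h, map_zero]))
  · exact fun h => hs₂ (Subalgebra.inclusion_injective h2 (by rw [h, map_zero]))
  · intro T _ φ hφ
    rw [map_mul, IsUnit.mul_iff] at hφ
    exact ⟨H₁ T (φ.comp (Subalgebra.inclusion h1).toRingHom) hφ.1,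
      H₂ T (φ.comp (Subalgebra.inclusion h2).toRingHom) hφ.2⟩

theorem Ev.all_finite (hS : S.FG) {ι : Type v} [Finite ι] {Φ : ι → ∀ (T : Type u) [CommRing T], (S →+* T) → Prop}
    (h : ∀ i, Ev S (Φ i)) : Ev S (fun T _ φ => ∀ i, Φ i T φ) := by
  classical
  have := Fintype.ofFinite ι
  have key : ∀ F : Finset ι, Ev S (fun T _ φ => ∀ i ∈ F, Φ i T φ) := by
    intro F
    induction F using Finset.induction_on with
    | empty => exact Ev.of_forall hS fun T _ φ i hi => by simp at hi
    | insert a F ha ih =>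
      refine ((h a).and ih).mono fun T _ φ hφ i hi => ?_
      rcases Finset.mem_insert.mp hi with rfl | hi
      · exact hφ.1
      · exact hφ.2 i hi
  exact (key Finset.univ).mono fun T _ φ hφ i => hφ i (Finset.mem_univ i)

end Def

section W2

variable (p : ℕ) [Fact p.Prime]

/-- `W₂` is functorial. -/
theorem exists_W2_map {κ κ' : Type u} [CommRing κ] [CommRing κ'] (f : κ →+* κ') :
    ∃ g : FrobAlg.W2 p κ →+* FrobAlg.W2 p κ', (FrobAlg.res p κ').comp g = f.comp (FrobAlg.res p κ) := by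
  let G : WittVector p κ →+* FrobAlg.W2 p κ' := (WittVector.truncate 2).comp (WittVector.map f)
  have hG : ∀ x, WittVector.truncate 2 x = 0 → G x = 0 := by
    intro x hx
    have hx' : x ∈ RingHom.ker (WittVector.truncate (p := p) (R := κ) 2) := hx
    rw [WittVector.mem_ker_truncate] at hx'
    have h2 : WittVector.map f x ∈ RingHom.ker (WittVector.truncate (p := p) (R := κ') 2) := by
      rw [WittVector.mem_ker_truncate]
      intro i hi
      rw [WittVector.map_coeff, hx' i hi, map_zero]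
    exact h2
  refine ⟨RingHom.liftOfSurjective (WittVector.truncate 2) (WittVector.truncate_surjective p 2 κ)
    ⟨G, fun x hx => hG x hx⟩, ?_⟩
  ext y
  obtain ⟨x, rfl⟩ := WittVector.truncate_surjective p 2 κ y
  rw [RingHom.comp_apply, RingHom.comp_apply, res_truncate]
  rw [RingHom.liftOfRightInverse_comp_apply]
  change FrobAlg.res p κ' (WittVector.truncate 2 (WittVector.map f x)) = _
  rw [res_truncate, WittVector.map_coeff]

theorem isUnit_W2 {κ : Type u} [CommRing κ] [CharP κ p] (x : FrobAlg.W2 p κ) (h : IsUnit (FrobAlg.res p κ x)) :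
    IsUnit x := by
  obtain ⟨u, hu⟩ := h.exists_right_inv
  obtain ⟨y, rfl⟩ := res_surjective p κ u
  have h1 : FrobAlg.res p κ (x * y - 1) = 0 := by rw [map_sub, map_mul, hu, map_one, sub_self]
  have h2 := mul_eq_zero_of_res p κ h1 h1
  refine IsUnit.of_mul_eq_one (y * (1 - (x * y - 1))) ?_
  linear_combination -h2

end W2

section Points

variable {k : Type u} [Field k] [CharZero k] {S : Subalgebra ℤ k}
  {Φ : ∀ (T : Type u) [CommRing T], (S →+* T) → Prop}

/-- **Points of large residue characteristic.** -/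
theorem Ev.exists_point (h : Ev S Φ) (N : ℕ) :
    ∃ (p : ℕ) (_ : Fact p.Prime) (κ : Type u) (_ : Field κ) (_ : Finite κ) (_ : CharP κ p) (φ : S →+* κ)
      (ψ : S →+* FrobAlg.W2 p κ), N < p ∧ (FrobAlg.res p κ).comp ψ = φ ∧ Φ κ φ ∧ Φ (FrobAlg.W2 p κ) ψ := by
  obtain ⟨S', hS, s, hfg, hs, H⟩ := h
  have hft : Algebra.FiniteType ℤ S' := (Subalgebra.fg_iff_finiteType S').mp hfg
  have hcz : CharZero S' := inferInstance
  obtain ⟨Q, hQ, p, hp, hsQ, hN, hchar, hfin, ψ, hψ⟩ := @K890.Points.exists_point S' _ _ hcz hft s hs N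
  let _ : Field (S' ⧸ Q) := Ideal.Quotient.field Q
  have hu : IsUnit (Ideal.Quotient.mk Q s) := IsUnit.mk0 _ (by rwa [Ne, Ideal.Quotient.eq_zero_iff_mem])
  refine ⟨p, hp, S' ⧸ Q, Ideal.Quotient.field Q, hfin, hchar,
    (Ideal.Quotient.mk Q).comp (Subalgebra.inclusion hS).toRingHom,
    ψ.comp (Subalgebra.inclusion hS).toRingHom, hN, ?_, H _ _ hu, H _ _ (isUnit_W2 p _ ?_)⟩
  · rw [← RingHom.comp_assoc, hψ]
  · rw [← RingHom.comp_apply, hψ]
    exact hu

/-- **Points over algebraically closed fields of large characteristic.** -/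
theorem Ev.exists_algClosed_point (h : Ev S Φ) (N : ℕ) :
    ∃ (p : ℕ) (_ : Fact p.Prime) (κ : Type u) (_ : Field κ) (_ : IsAlgClosed κ) (_ : CharP κ p) (φ : S →+* κ)
      (ψ : S →+* FrobAlg.W2 p κ), N < p ∧ (FrobAlg.res p κ).comp ψ = φ ∧ Φ κ φ ∧ Φ (FrobAlg.W2 p κ) ψ := by
  obtain ⟨S', hS, s, hfg, hs, H⟩ := h
  have h' : Ev S' (fun T _ φ => IsUnit (φ s)) := Ev.of_isUnit hfg s hs fun T _ φ h => h
  obtain ⟨p, hp, κ, _, hfin, hchar, φ, ψ, hN, hψ, hu, hu'⟩ := h'.exists_point N
  let κ' := AlgebraicClosure κ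
  have hchar' : CharP κ' p := (RingHom.charP_iff (algebraMap κ κ') (algebraMap κ κ').injective p).mp hchar
  obtain ⟨g, hg⟩ := exists_W2_map p (algebraMap κ κ')
  refine ⟨p, hp, κ', inferInstance, inferInstance, hchar',
    ((algebraMap κ κ').comp φ).comp (Subalgebra.inclusion hS).toRingHom,
    (g.comp ψ).comp (Subalgebra.inclusion hS).toRingHom, hN, ?_, H _ _ ?_, H _ _ ?_⟩
  · rw [← RingHom.comp_assoc, ← RingHom.comp_assoc, hg, RingHom.comp_assoc ψ, hψ]
  · exact hu.map (algebraMap κ κ')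
  · exact hu'.map g

end Points

end K890.Spread
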