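import Groth.Agent.DelIll.K890.Model
import Groth.Agent.PerfB.ApproxTower

/-!
# Stages of a model; spreading out of functions and ideals

`f₀ : X₀ ⟶ Spec S` a model of `f : X ⟶ Spec k`, `St f₀ h = X₀ ×_S S'` for `h : S ≤ S'`.
* `exists_section`, `exists_sections`: functions on the preimage of an affine open come from a stage;
* `exists_map_eq_zero`, `exists_map_eq`: functions which agree on `X` agree at a stage;
* `exists_ideal_le`, `exists_ideal_eq`: inclusions and equalities of finitely generated ideals.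
-/

set_option autoImplicit false
universe u v
open CategoryTheory CategoryTheory.Limits AlgebraicGeometry Opposite TopologicalSpace

namespace K890.Stage

open K890.Spread K890.Model

section Basic

variable {k : Type u} [Field k] {S S' S'' : Subalgebra ℤ k} {X X₀ : Scheme.{u}} {f : X ⟶ Spec (CommRingCat.of k)}
  (f₀ : X₀ ⟶ Spec (CommRingCat.of S)) {p : X ⟶ X₀}

/-- the base change of `X₀` to a larger subring -/
noncomputable abbrev St (h : S ≤ S') : Scheme.{u} := pullback f₀ (sp (inc h))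

/-- `X₀ ×_S S' ⟶ X₀` -/
noncomputable abbrev pr (h : S ≤ S') : St f₀ h ⟶ X₀ := pullback.fst f₀ (sp (inc h))

/-- `X₀ ×_S S' ⟶ Spec S'` -/
noncomputable abbrev st (h : S ≤ S') : St f₀ h ⟶ Spec (CommRingCat.of S') := pullback.snd f₀ (sp (inc h))

theorem isPullback_pr (h : S ≤ S') : IsPullback (pr f₀ h) (st f₀ h) f₀ (sp (inc h)) :=
  IsPullback.of_hasPullback f₀ (sp (inc h))

instance isAffineHom_pr (h : S ≤ S') : IsAffineHom (pr f₀ h) :=
  MorphismProperty.of_isPullback (isPullback_pr f₀ h).flip inferInstance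

variable {f₀}

/-- `X ⟶ X₀ ×_S S'` -/
noncomputable def up (H : IsPullback p f f₀ (sv S)) (h : S ≤ S') : X ⟶ St f₀ h :=
  pullback.lift p (f ≫ sv S') (by rw [Category.assoc, sv_inc]; exact H.w)

theorem up_pr (H : IsPullback p f f₀ (sv S)) (h : S ≤ S') : up H h ≫ pr f₀ h = p := pullback.lift_fst _ _ _

theorem up_st (H : IsPullback p f f₀ (sv S)) (h : S ≤ S') : up H h ≫ st f₀ h = f ≫ sv S' := pullback.lift_snd _ _ _

theorem isPullback_up (H : IsPullback p f f₀ (sv S)) (h : S ≤ S') : IsPullback (up H h) f (st f₀ h) (sv S') := by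
  refine IsPullback.of_right ?_ (up_st H h) (isPullback_pr f₀ h)
  rw [up_pr, sv_inc]
  exact H

variable (f₀)

/-- `X₀ ×_S S'' ⟶ X₀ ×_S S'` -/
noncomputable def tr (h : S ≤ S') (h' : S' ≤ S'') : St f₀ (h.trans h') ⟶ St f₀ h :=
  pullback.lift (pr f₀ (h.trans h')) (st f₀ (h.trans h') ≫ sp (inc h')) (by
    rw [Category.assoc, sp_inc]; exact pullback.condition)

theorem tr_pr (h : S ≤ S') (h' : S' ≤ S'') : tr f₀ h h' ≫ pr f₀ h = pr f₀ (h.trans h') := pullback.lift_fst _ _ _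

theorem tr_st (h : S ≤ S') (h' : S' ≤ S'') : tr f₀ h h' ≫ st f₀ h = st f₀ (h.trans h') ≫ sp (inc h') :=
  pullback.lift_snd _ _ _

theorem isPullback_tr (h : S ≤ S') (h' : S' ≤ S'') :
    IsPullback (tr f₀ h h') (st f₀ (h.trans h')) (st f₀ h) (sp (inc h')) := by
  refine IsPullback.of_right ?_ (tr_st f₀ h h') (isPullback_pr f₀ h)
  rw [tr_pr, sp_inc]
  exact isPullback_pr f₀ (h.trans h')

instance isAffineHom_tr (h : S ≤ S') (h' : S' ≤ S'') : IsAffineHom (tr f₀ h h') :=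
  MorphismProperty.of_isPullback (isPullback_tr f₀ h h').flip inferInstance

variable {f₀}

theorem up_tr (H : IsPullback p f f₀ (sv S)) (h : S ≤ S') (h' : S' ≤ S'') :
    up H (h.trans h') ≫ tr f₀ h h' = up H h := by
  apply pullback.hom_ext
  · rw [Category.assoc]
    change _ ≫ tr f₀ h h' ≫ pr f₀ h = up H h ≫ pr f₀ h
    rw [tr_pr, up_pr, up_pr]
  · rw [Category.assoc]
    change _ ≫ tr f₀ h h' ≫ st f₀ h = up H h ≫ st f₀ h
    rw [tr_st, ← Category.assoc, up_st, up_st, Category.assoc, sv_inc]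

end Basic

section Limit

open Groth.Agent.PerfB Groth.Agent.PerfB.ApproxRing Groth.Agent.CalgA.LimFP

variable {k : Type u} [Field k] {S : Subalgebra ℤ k} {X X₀ : Scheme.{u}} {f : X ⟶ Spec (CommRingCat.of k)}
  {f₀ : X₀ ⟶ Spec (CommRingCat.of S)} {p : X ⟶ X₀}

theorem le_up (H : IsPullback p f f₀ (sv S)) {S' : Subalgebra ℤ k} (h : S ≤ S') (W : X₀.Opens) :
    p ⁻¹ᵁ W ≤ up H h ⁻¹ᵁ pr f₀ h ⁻¹ᵁ W := by
  rw [← Scheme.Hom.comp_preimage, up_pr]

/-- Functions on the preimage of an affine open come from a stage. -/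
theorem exists_sections (H : IsPullback p f f₀ (sv S)) (hS : S.FG) {W : X₀.Opens} (hW : IsAffineOpen W)
    {ι : Type v} [Finite ι] (s : ι → Γ(X, p ⁻¹ᵁ W)) :
    ∃ (S' : Subalgebra ℤ k) (h : S ≤ S') (_ : S'.FG), ∀ (S'' : Subalgebra ℤ k) (h' : S' ≤ S''),
      ∃ t : ι → Γ(St f₀ (h.trans h'), pr f₀ (h.trans h') ⁻¹ᵁ W), ∀ i,
        (up H (h.trans h')).appLE (pr f₀ (h.trans h') ⁻¹ᵁ W) (p ⁻¹ᵁ W) (le_up H (h.trans h') W) (t i) = s i := by
  classical
  choose T hT1 hT2 using fun i => ApproxTower.exists_finite_scal (algebraMap S k) H hW (s i)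
  obtain ⟨C, hC, hsC⟩ := exists_idx_of_finite (s := ⋃ i, T i) (Set.finite_iUnion hT1) ⟨S, hS⟩
  have hC' : S ≤ C.1 := hC
  refine ⟨C.1, hC', C.2, fun S'' h' => ?_⟩
  have key : ∀ i, s i ∈ ((up H (hC'.trans h')).appLE (pr f₀ (hC'.trans h') ⁻¹ᵁ W) (p ⁻¹ᵁ W)
      (le_up H (hC'.trans h') W)).hom.range := fun i =>
    ApproxTower.mem_range_appLE (up_pr H (hC'.trans h')) S'' (st f₀ (hC'.trans h')) (up_st H (hC'.trans h')) W
      (T i) ((Set.subset_iUnion T i).trans (hsC.trans h')) (s i) (hT2 i)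
  choose t ht using key
  exact ⟨t, ht⟩

theorem app_eq_zero_iff {X Y Z : Scheme.{u}} {a : X ⟶ Y} {b : Y ⟶ Z} {c : X ⟶ Z} (w : a ≫ b = c) (W : Z.Opens)
    (s : Γ(Z, W)) : c.app W s = 0 ↔ a.app (b ⁻¹ᵁ W) (b.app W s) = 0 := by
  subst w
  rw [Scheme.Hom.comp_app]
  rfl

/-- A function on `X₀` which vanishes on `X` vanishes at a stage. -/
theorem exists_map_eq_zero (H : IsPullback p f f₀ (sv S)) (hS : S.FG) {W : X₀.Opens} (hW : IsCompact (W : Set X₀))
    (s : Γ(X₀, W)) (hs : p.app W s = 0) :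
    ∃ (S' : Subalgebra ℤ k) (h : S ≤ S') (_ : S'.FG), (pr f₀ h).app W s = 0 := by
  let B : Idx k := ⟨S, hS⟩
  have haff : ∀ {i j : (Idx k)ᵒᵖ} (f : i ⟶ j), IsAffineHom ((specDiag k).map f) := fun f => inferInstance
  have H' : IsPullback p f f₀ ((specCone k).π.app (op B)) := H
  let D := bcDiagram (specDiag k) (i := op B) f₀
  have h1 : ∀ {j l : Over (op B)} (a : j ⟶ l), IsAffineHom (D.map a) := fun a => isAffineHom_bcDiagram_map a
  have hc : IsLimit (bcCone (D := specDiag k) (c := specCone k) (i := op B) H') := isLimitBcCone (specIsLimit k) H'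
  let j₀ : Over (op B) := Over.mk (𝟙 (op B))
  let q₀ : D.obj j₀ ⟶ X₀ := pullback.fst f₀ ((specDiag k).map (𝟙 (op B)))
  have hq₀ : IsAffineHom q₀ := MorphismProperty.of_isPullback
    (IsPullback.of_hasPullback f₀ ((specDiag k).map (𝟙 (op B)))).flip inferInstance
  have h2 : IsCompact (X := D.obj j₀) (q₀ ⁻¹ᵁ W) :=
    QuasiCompact.isCompact_preimage (f := q₀) (W : Set X₀) W.2 hW
  have w : (bcCone (D := specDiag k) (c := specCone k) (i := op B) H').π.app j₀ ≫ q₀ = p := pullback.lift_fst _ _ _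
  obtain ⟨j, a, ha⟩ := exists_app_map_eq_zero_of_isLimit D _ hc (i := j₀) h2 (q₀.app W s)
    ((app_eq_zero_iff w W s).mp hs)
  have w' : D.map a ≫ q₀ = pullback.fst f₀ ((specDiag k).map j.hom) := pullback.lift_fst _ _ _
  exact ⟨j.left.unop.1, j.hom.unop.le, j.left.unop.2, (app_eq_zero_iff w' W s).mpr ha⟩

/-- A function on `X₀` which vanishes on `X` vanishes on sufficiently general base changes. -/
theorem ev_app_eq_zero (H : IsPullback p f f₀ (sv S)) (hS : S.FG) {W : X₀.Opens} (hW : IsCompact (W : Set X₀))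
    (s : Γ(X₀, W)) (hs : p.app W s = 0) : Ev S (BC f₀ (fun _ _ _ q _ => q.app W s = 0)) := by
  obtain ⟨S', h, hfg, h1⟩ := exists_map_eq_zero H hS hW s hs
  refine ev_of_stage f₀ h (Ev.of_forall hfg fun T _ φ X' q g hq => ?_)
  refine (app_eq_zero_iff rfl W s).mpr ?_
  have h2 : (pullback.fst f₀ (sp (inc h))).app W s = 0 := h1
  rw [h2, map_zero]

/-- Equality of functions spreads out. -/
theorem ev_app_eq (H : IsPullback p f f₀ (sv S)) (hS : S.FG) {W : X₀.Opens} (hW : IsCompact (W : Set X₀))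
    (s t : Γ(X₀, W)) (hs : p.app W s = p.app W t) : Ev S (BC f₀ (fun _ _ _ q _ => q.app W s = q.app W t)) := by
  refine (ev_app_eq_zero H hS hW (s - t) (by rw [map_sub, hs, sub_self])).mono fun T _ φ h X' q g hq => ?_
  have h1 : q.app W (s - t) = 0 := h X' q g hq
  rw [map_sub, sub_eq_zero] at h1
  exact h1

/-- If an open of `X₀` contains the image of `X`, it contains the images of all sufficiently general base changes. -/
theorem ev_preimage_eq_top [QuasiCompact f₀] (H : IsPullback p f f₀ (sv S)) (hS : S.FG) (O : X₀.Opens)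
    (hO : p ⁻¹ᵁ O = ⊤) : Ev S (BC f₀ (fun _ _ _ q _ => q ⁻¹ᵁ O = ⊤)) := by
  let B : Idx k := ⟨S, hS⟩
  have haff : ∀ {i j : (Idx k)ᵒᵖ} (f : i ⟶ j), IsAffineHom ((specDiag k).map f) := fun f => inferInstance
  have H' : IsPullback p f f₀ ((specCone k).π.app (op B)) := H
  let D := bcDiagram (specDiag k) (i := op B) f₀
  have h1 : ∀ {j l : Over (op B)} (a : j ⟶ l), IsAffineHom (D.map a) := fun a => isAffineHom_bcDiagram_map a
  have i1 : QuasiCompact (Y := (specDiag k).obj (op B)) f₀ := ‹_›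
  have i2 : ∀ i, CompactSpace ((specDiag k).obj i) := fun i => inferInstance
  have h0 : ∀ j, CompactSpace (D.obj j) := fun j => compactSpace_bcDiagram_obj (D := specDiag k) (f := f₀) j
  have hc : IsLimit (bcCone (D := specDiag k) (c := specCone k) (i := op B) H') := isLimitBcCone (specIsLimit k) H'
  let j₀ : Over (op B) := Over.mk (𝟙 (op B))
  let q₀ : D.obj j₀ ⟶ X₀ := pullback.fst f₀ ((specDiag k).map (𝟙 (op B)))
  have w : (bcCone (D := specDiag k) (c := specCone k) (i := op B) H').π.app j₀ ≫ q₀ = p := pullback.lift_fst _ _ _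
  obtain ⟨j, a, ha⟩ := exists_map_eq_top D _ hc (i := j₀) (q₀ ⁻¹ᵁ O) (by
    rw [← Scheme.Hom.comp_preimage, w]; exact hO)
  have w' : D.map a ≫ q₀ = pullback.fst f₀ ((specDiag k).map j.hom) := pullback.lift_fst _ _ _
  have ha' : (D.map a ≫ q₀) ⁻¹ᵁ O = ⊤ := ha
  rw [w'] at ha'
  have hle : S ≤ j.left.unop.1 := j.hom.unop.le
  refine ev_of_stage f₀ hle (Ev.of_forall j.left.unop.2 fun T _ φ X' q g hq => ?_)
  have h2 : pullback.fst f₀ (sp (inc hle)) ⁻¹ᵁ O = ⊤ := ha'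
  change q ⁻¹ᵁ (pullback.fst f₀ (sp (inc hle)) ⁻¹ᵁ O) = ⊤
  rw [h2]
  rfl

end Limit

section Stages

variable {k : Type u} [Field k] {S : Subalgebra ℤ k} {Φ : ∀ (T : Type u) [CommRing T], (S →+* T) → Prop}

/-- A property that holds for sufficiently general base changes holds for all sufficiently large stages. -/
theorem exists_stage (h : Ev S Φ) : ∃ (S' : Subalgebra ℤ k) (h : S ≤ S') (_ : S'.FG),
    ∀ (S'' : Subalgebra ℤ k) (h' : S' ≤ S''), Φ S'' (inc (h.trans h')) := by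
  obtain ⟨S₁, h₁, s, hfg, hs, H⟩ := h
  have hs' : (s : k) ≠ 0 := fun h => hs (Subtype.ext h)
  refine ⟨S₁ ⊔ Algebra.adjoin ℤ {(s : k)⁻¹}, h₁.trans le_sup_left,
    hfg.sup ⟨{(s : k)⁻¹}, by simp⟩, fun S'' h' => ?_⟩
  have h2 : S₁ ≤ S'' := le_sup_left.trans h'
  have h3 : (s : k)⁻¹ ∈ S'' := h' ((le_sup_right : Algebra.adjoin ℤ {(s : k)⁻¹} ≤ _)
    (Algebra.subset_adjoin (Set.mem_singleton _)))
  exact H S'' (inc h2) (IsUnit.of_mul_eq_one (⟨(s : k)⁻¹, h3⟩ : S'') (Subtype.ext (mul_inv_cancel₀ hs')))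

end Stages

section Ideals

open Groth.Agent.PerfB Groth.Agent.PerfB.ApproxRing Groth.Agent.CalgA.LimFP

variable {k : Type u} [Field k] {S : Subalgebra ℤ k} {X X₀ : Scheme.{u}} {f : X ⟶ Spec (CommRingCat.of k)}
  {f₀ : X₀ ⟶ Spec (CommRingCat.of S)} {p : X ⟶ X₀}

theorem map_le_map_of_comp {A B C : Type u} [CommRing A] [CommRing B] [CommRing C] (φ : A →+* B) (ψ : B →+* C)
    (χ : A →+* C) (w : ∀ x, χ x = ψ (φ x)) {I J : Ideal A} (h : I.map φ ≤ J.map φ) : I.map χ ≤ J.map χ := by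
  obtain rfl : χ = ψ.comp φ := RingHom.ext w
  rw [← Ideal.map_map, ← Ideal.map_map]
  exact Ideal.map_mono h

theorem map_le_of_comp {X Y Z : Scheme.{u}} {a : X ⟶ Y} {b : Y ⟶ Z} {c : X ⟶ Z} (w : a ≫ b = c) (W : Z.Opens)
    {I J : Ideal Γ(Z, W)} (h : I.map (b.app W).hom ≤ J.map (b.app W).hom) :
    I.map (c.app W).hom ≤ J.map (c.app W).hom := by
  subst w
  exact map_le_map_of_comp (b.app W).hom (a.app (b ⁻¹ᵁ W)).hom ((a ≫ b).app W).hom
    (fun x => by rw [Scheme.Hom.comp_app]; rfl) h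

theorem app_eq_of_appLE_eq {X Y : Scheme.{u}} (q : X ⟶ Y) {W : Y.Opens} {V : X.Opens} (e : V ≤ q ⁻¹ᵁ W)
    (e' : q ⁻¹ᵁ W ≤ V) {x y : Γ(Y, W)} (h : q.appLE W V e x = q.appLE W V e y) : q.app W x = q.app W y := by
  obtain rfl : V = q ⁻¹ᵁ W := le_antisymm e e'
  rwa [Scheme.Hom.appLE_eq_app] at h

theorem appLE_app {X Y Z : Scheme.{u}} {a : X ⟶ Y} {b : Y ⟶ Z} {c : X ⟶ Z} (w : a ≫ b = c) (W : Z.Opens)
    (e : c ⁻¹ᵁ W ≤ a ⁻¹ᵁ b ⁻¹ᵁ W) (x : Γ(Z, W)) : a.appLE (b ⁻¹ᵁ W) (c ⁻¹ᵁ W) e (b.app W x) = c.app W x := by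
  subst w
  have h1 : a.appLE (b ⁻¹ᵁ W) ((a ≫ b) ⁻¹ᵁ W) e = a.app (b ⁻¹ᵁ W) := Scheme.Hom.appLE_eq_app a
  rw [h1, Scheme.Hom.comp_app]
  rfl

/-- Inclusions of finitely generated ideals spread out. -/
theorem ev_ideal_le (H : IsPullback p f f₀ (sv S)) (hS : S.FG) {W : X₀.Opens} (hW : IsAffineOpen W)
    {I J : Ideal Γ(X₀, W)} (hI : I.FG) (hJ : J.FG) (h : I.map (p.app W).hom ≤ J.map (p.app W).hom) :
    Ev S (BC f₀ (fun _ _ _ q _ => I.map (q.app W).hom ≤ J.map (q.app W).hom)) := by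
  classical
  obtain ⟨n, g, hg⟩ := Submodule.fg_iff_exists_fin_generating_family.mp hI
  obtain ⟨m, j, hj⟩ := Submodule.fg_iff_exists_fin_generating_family.mp hJ
  have hmapJ : ∀ {R : Type u} [CommRing R] (φ : Γ(X₀, W) →+* R), J.map φ = Ideal.span (Set.range (fun l => φ (j l))) := by
    intro R _ φ
    rw [← hj]
    change Ideal.map φ (Ideal.span (Set.range j)) = _
    rw [Ideal.map_span, ← Set.range_comp]
    rfl
  have h1 : ∀ i : Fin n, ∃ c : Fin m → Γ(X, p ⁻¹ᵁ W), ∑ l, c l * p.app W (j l) = p.app W (g i) := by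
    intro i
    have h2 : p.app W (g i) ∈ J.map (p.app W).hom := h (Ideal.mem_map_of_mem _ (by
      rw [← hg]
      exact Submodule.subset_span ⟨i, rfl⟩))
    rw [hmapJ] at h2
    exact Ideal.mem_span_range_iff_exists_fun.mp h2
  choose c hc using h1
  obtain ⟨S₁, hle, hfg, hS₁⟩ := exists_sections H hS hW (fun x : Fin n × Fin m => c x.1 x.2)
  obtain ⟨t, ht⟩ := hS₁ S₁ le_rfl
  refine ev_of_stage f₀ hle ?_
  have hWc : IsCompact ((pr f₀ hle ⁻¹ᵁ W : (St f₀ hle).Opens) : Set (St f₀ hle)) := (hW.preimage _).isCompact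
  have h3 : ∀ i : Fin n, Ev S₁ (BC (st f₀ hle) (fun _ _ _ q _ =>
      q.app (pr f₀ hle ⁻¹ᵁ W) ((pr f₀ hle).app W (g i)) =
        q.app (pr f₀ hle ⁻¹ᵁ W) (∑ l, t (i, l) * (pr f₀ hle).app W (j l)))) := by
    intro i
    refine ev_app_eq (isPullback_up H hle) hfg hWc _ _ ?_
    refine app_eq_of_appLE_eq (up H hle) (le_up H hle W) (by rw [← Scheme.Hom.comp_preimage, up_pr]) ?_
    rw [appLE_app (up_pr H hle), map_sum, ← hc i]
    refine Finset.sum_congr rfl fun l _ => ?_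
    rw [map_mul, appLE_app (up_pr H hle)]
    exact congrArg (· * _) (ht (i, l)).symm
  refine (Ev.all_finite hfg h3).mono fun T _ φ h4 X' q g' hq => ?_
  have h5 : ∀ i : Fin n, q.app (pr f₀ hle ⁻¹ᵁ W) ((pr f₀ hle).app W (g i)) =
      q.app (pr f₀ hle ⁻¹ᵁ W) (∑ l, t (i, l) * (pr f₀ hle).app W (j l)) := fun i => h4 i X' q g' hq
  have h6 : ∀ x : Γ(X₀, W), (q ≫ pr f₀ hle).app W x = q.app (pr f₀ hle ⁻¹ᵁ W) ((pr f₀ hle).app W x) := fun x => by
    rw [Scheme.Hom.comp_app]; rfl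
  change I.map ((q ≫ pr f₀ hle).app W).hom ≤ J.map ((q ≫ pr f₀ hle).app W).hom
  rw [← hg]
  change Ideal.map _ (Ideal.span (Set.range g)) ≤ _
  rw [Ideal.map_span, Ideal.span_le]
  rintro _ ⟨_, ⟨i, rfl⟩, rfl⟩
  change (q ≫ pr f₀ hle).app W (g i) ∈ J.map ((q ≫ pr f₀ hle).app W).hom
  rw [h6, h5, map_sum]
  refine Ideal.sum_mem _ fun l _ => ?_
  rw [map_mul]
  refine Ideal.mul_mem_left _ _ ?_
  rw [← h6]
  refine Ideal.mem_map_of_mem _ ?_
  rw [← hj]
  exact Submodule.subset_span ⟨l, rfl⟩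

/-- Equality of finitely generated ideals spreads out. -/
theorem ev_ideal_eq (H : IsPullback p f f₀ (sv S)) (hS : S.FG) {W : X₀.Opens} (hW : IsAffineOpen W)
    {I J : Ideal Γ(X₀, W)} (hI : I.FG) (hJ : J.FG) (h : I.map (p.app W).hom = J.map (p.app W).hom) :
    Ev S (BC f₀ (fun _ _ _ q _ => I.map (q.app W).hom = J.map (q.app W).hom)) :=
  ((ev_ideal_le H hS hW hI hJ h.le).and (ev_ideal_le H hS hW hJ hI h.ge)).mono
    fun _ _ _ h X' q g hq => le_antisymm (h.1 X' q g hq) (h.2 X' q g hq)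

end Ideals

end K890.Stage
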